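import Groth.Agent.Lib.Helper45.FittingSplit

/-!
# Fibre dimension of a finite module (helper45)

* `finrank_fibre_le_iff` : `dim κ(p) ⊗ M ≤ k ↔ Fitt_k M ⊄ p`.
* `fibreDim R M p`, `upperSemicontinuous_fibreDim`, `isOpen_fibreDim_le`.
* `exists_free_away_of_fibreDim_const` : over a reduced ring, if the fibre dimension is constant `= r` near `p`, then
  `M_h` is free of rank `r` for some `h ∉ p`.
* `projective_of_isLocallyConstant_fibreDim`, `isLocallyConstant_fibreDim_of_projective`.
-/

namespace Groth.Agent.Lib.Helper45.Fitting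

open TensorProduct

universe u v

variable {R : Type u} [CommRing R] {M : Type v} [AddCommGroup M] [Module R M]

/-- over a field, `Fitt_k V = ⊤` iff `dim V ≤ k` -/
lemma fitt_eq_top_iff_finrank_le {K : Type*} [Field K] (V : Type*) [AddCommGroup V] [Module K V]
    [Module.Finite K V] (k : ℕ) : Fitt.ideal K V k = ⊤ ↔ Module.finrank K V ≤ k := by
  constructor
  · intro h
    obtain ⟨g, hg⟩ := exists_span_of_fitt_eq_top (R := K) (M := V) k h
    simpa using finrank_le_of_span_eq_top hg
  · intro h
    let b := Module.finBasis K V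
    exact fitt_eq_top_of_span_of_le h b b.span_eq

lemma finrank_fibre_le_iff [Module.Finite R M] (k : ℕ) (p : Ideal R) [p.IsPrime] :
    Module.finrank p.ResidueField (p.ResidueField ⊗[R] M) ≤ k ↔ ¬ Fitt.ideal R M k ≤ p := by
  rw [← fitt_eq_top_iff_finrank_le, fitt_baseChange]
  have h2 : (Fitt.ideal R M k).map (algebraMap R p.ResidueField) = ⊥ ↔ Fitt.ideal R M k ≤ p := by
    rw [Ideal.map_eq_bot_iff_le_ker, Ideal.ker_algebraMap_residueField]
  rw [← h2]
  rcases Ideal.eq_bot_or_top ((Fitt.ideal R M k).map (algebraMap R p.ResidueField)) with h | h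
  · rw [h]; simp
  · rw [h]; simp

variable (R M) in
/-- the fibre dimension function on the prime spectrum -/
noncomputable def fibreDim (p : PrimeSpectrum R) : ℕ :=
  Module.finrank p.asIdeal.ResidueField (p.asIdeal.ResidueField ⊗[R] M)

lemma fibreDim_le_iff [Module.Finite R M] (k : ℕ) (p : PrimeSpectrum R) :
    fibreDim R M p ≤ k ↔ ¬ Fitt.ideal R M k ≤ p.asIdeal :=
  finrank_fibre_le_iff k p.asIdeal

lemma isOpen_fibreDim_le [Module.Finite R M] (k : ℕ) : IsOpen {p : PrimeSpectrum R | fibreDim R M p ≤ k} := by
  have : {p : PrimeSpectrum R | fibreDim R M p ≤ k} = (PrimeSpectrum.zeroLocus (Fitt.ideal R M k : Set R))ᶜ := by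
    ext p
    rw [Set.mem_setOf_eq, fibreDim_le_iff, Set.mem_compl_iff, PrimeSpectrum.mem_zeroLocus]
    rfl
  rw [this]
  exact (PrimeSpectrum.isClosed_zeroLocus _).isOpen_compl

theorem upperSemicontinuous_fibreDim [Module.Finite R M] : UpperSemicontinuous (fibreDim R M) := by
  rw [upperSemicontinuous_iff_isOpen_preimage]
  intro y
  rcases Nat.eq_zero_or_pos y with rfl | hy
  · convert isOpen_empty
    ext p
    simp
  · convert isOpen_fibreDim_le (R := R) (M := M) (y - 1) using 1
    ext p
    simp only [Set.mem_preimage, Set.mem_Iio, Set.mem_setOf_eq]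
    omega


/-- over a reduced ring, constant fibre dimension near `p₀` implies freeness on a basic open neighbourhood -/
theorem exists_free_away_of_fibreDim_const [IsReduced R] [Module.Finite R M] (p₀ : PrimeSpectrum R)
    (U : Set (PrimeSpectrum R)) (hU : IsOpen U) (hp : p₀ ∈ U) (r : ℕ) (hconst : ∀ q ∈ U, fibreDim R M q = r) :
    ∃ h : R, h ∉ p₀.asIdeal ∧
      Module.Free (Localization.Away h) (LocalizedModule (Submonoid.powers h) M) ∧
        Module.finrank (Localization.Away h) (LocalizedModule (Submonoid.powers h) M) = r := by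
  obtain ⟨_, ⟨g, rfl⟩, hpg, hgU⟩ := PrimeSpectrum.isTopologicalBasis_basic_opens.exists_subset_of_mem_open hp hU
  have hgp : g ∉ p₀.asIdeal := hpg
  obtain ⟨n, x, hx⟩ := Module.Finite.exists_fin (R := R) (M := M)
  have hF : ¬ Fitt.ideal R M r ≤ p₀.asIdeal := (fibreDim_le_iff r p₀).mp (hconst p₀ hp).le
  obtain ⟨z, e, hz, hd⟩ := exists_minor_notMem x hx r p₀.asIdeal hF
  set d := minor z e with hddef
  have hh : g * d ∉ p₀.asIdeal := fun hmem => (p₀.2.mem_or_mem hmem).elim hgp hd
  refine ⟨g * d, hh, ?_⟩
  set h := g * d with hhdef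
  have hnt : Nontrivial (Localization.Away h) := by
    by_contra hnt
    rw [not_nontrivial_iff_subsingleton] at hnt
    have h0 : algebraMap R (Localization.Away h) 1 = 0 := Subsingleton.elim _ _
    obtain ⟨⟨_, t, rfl⟩, ht⟩ := (IsLocalization.map_eq_zero_iff (Submonoid.powers h) (Localization.Away h) 1).mp h0
    simp only [mul_one] at ht
    exact hh (Ideal.IsPrime.mem_of_pow_mem p₀.2 t (ht ▸ p₀.asIdeal.zero_mem))
  have hunit : IsUnit (algebraMap R (Localization.Away h) d) := by
    have hu : IsUnit (algebraMap R (Localization.Away h) h) :=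
      IsLocalization.map_units (Localization.Away h) (⟨h, Submonoid.mem_powers _⟩ : Submonoid.powers h)
    rw [hhdef, map_mul] at hu
    exact isUnit_of_mul_isUnit_right hu
  obtain ⟨gen, hgen⟩ := exists_span_of_minor_unit (A := Localization.Away h) r x z hz e
    (LocalizedModule.mkLinearMap (Submonoid.powers h) M)
    (by rw [Set.range_comp]
        exact span_eq_top_of_isLocalizedModule (Localization.Away h) (Submonoid.powers h) _ hx)
    hunit
  have hli : LinearIndependent (Localization.Away h) gen := by
    rcases Nat.eq_zero_or_pos r with hr0 | hr0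
    · subst hr0
      exact linearIndependent_empty_type
    · obtain ⟨r', rfl⟩ : ∃ r', r = r' + 1 := ⟨r - 1, by omega⟩
      apply linearIndependent_of_fitt_eq_bot gen hgen
      rw [fitt_localizedModule, Ideal.map_eq_bot_iff_le_ker]
      intro d' hd'
      rw [RingHom.mem_ker, IsLocalization.map_eq_zero_iff (Submonoid.powers h) (Localization.Away h)]
      refine ⟨⟨h, Submonoid.mem_powers _⟩, ?_⟩
      have hnil : h * d' ∈ nilradical R := by
        rw [nilradical_eq_sInf, Ideal.mem_sInf]
        intro q hq
        have hq' : q.IsPrime := hq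
        by_cases hhq : h ∈ q
        · exact Ideal.mul_mem_right _ _ hhq
        · apply Ideal.mul_mem_left
          have hgq : g ∉ q := fun hg => hhq (Ideal.mul_mem_right _ _ hg)
          have hqU : (⟨q, hq'⟩ : PrimeSpectrum R) ∈ U := hgU hgq
          have hc := hconst _ hqU
          have hnle : ¬ fibreDim R M ⟨q, hq'⟩ ≤ r' := by omega
          rw [fibreDim_le_iff, not_not] at hnle
          exact hnle hd'
      rw [nilradical_eq_zero] at hnil
      exact hnil
  let b := Module.Basis.mk hli hgen.ge
  exact ⟨Module.Free.of_basis b, by rw [Module.finrank_eq_card_basis b]; simp⟩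

/-- over a reduced ring, a finite module with locally constant fibre dimension is projective -/
theorem projective_of_isLocallyConstant_fibreDim [IsReduced R] [Module.Finite R M]
    (h : IsLocallyConstant (fibreDim R M)) : Module.Projective R M := by
  apply projective_of_locally_free
  intro p _
  obtain ⟨g, hg, hfree, -⟩ := exists_free_away_of_fibreDim_const (M := M) ⟨p, inferInstance⟩
    (fibreDim R M ⁻¹' {fibreDim R M ⟨p, inferInstance⟩}) (h.isOpen_fiber _) rfl _ (fun q hq => hq)
  exact ⟨g, hg, hfree⟩

/-- for a finite flat module the fibre dimension is the rank at the stalk -/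
lemma fibreDim_eq_rankAtStalk [Module.Finite R M] [Module.Flat R M] (p : PrimeSpectrum R) :
    fibreDim R M p = Module.rankAtStalk M p := by
  have hfree : Module.Free (Localization.AtPrime p.asIdeal) (Localization.AtPrime p.asIdeal ⊗[R] M) :=
    Module.free_of_flat_of_isLocalRing
  rw [Module.rankAtStalk_eq_finrank_tensorProduct, fibreDim,
    ← Module.finrank_baseChange (R := p.asIdeal.ResidueField) (S := Localization.AtPrime p.asIdeal)
      (M' := Localization.AtPrime p.asIdeal ⊗[R] M)]
  exact (TensorProduct.AlgebraTensorModule.cancelBaseChange R (Localization.AtPrime p.asIdeal)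
    p.asIdeal.ResidueField p.asIdeal.ResidueField M).symm.finrank_eq

theorem isLocallyConstant_fibreDim_of_projective [Module.Finite R M] [Module.Projective R M] :
    IsLocallyConstant (fibreDim R M) := by
  have : Module.FinitePresentation R M := Module.finitePresentation_of_projective R M
  have h := Module.isLocallyConstant_rankAtStalk (R := R) (M := M)
  have heq : fibreDim R M = Module.rankAtStalk M := funext fibreDim_eq_rankAtStalk
  rw [heq]
  exact h


theorem isLocallyConstant_fibreDim_of_flat [Module.FinitePresentation R M] [Module.Flat R M] :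
    IsLocallyConstant (fibreDim R M) := by
  have h := Module.isLocallyConstant_rankAtStalk (R := R) (M := M)
  have heq : fibreDim R M = Module.rankAtStalk M := funext fibreDim_eq_rankAtStalk
  rw [heq]
  exact h

section Coker

variable {K : Type*} [AddCommGroup K] [Module R K] {K' : Type*} [AddCommGroup K'] [Module R K']

/-- fibre dimension of a cokernel: `dim κ ⊗ coker φ + dim Im (φ ⊗ κ) = dim κ ⊗ K'` -/
lemma fibreDim_coker_add (φ : K →ₗ[R] K') [Module.Finite R K'] (p : PrimeSpectrum R) :
    fibreDim R (K' ⧸ LinearMap.range φ) p +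
      Module.finrank p.asIdeal.ResidueField (LinearMap.range (φ.baseChange p.asIdeal.ResidueField)) =
        fibreDim R K' p := by
  have hex : Function.Exact φ (LinearMap.range φ).mkQ := by
    rw [LinearMap.exact_iff, Submodule.ker_mkQ]
  have hsurj : Function.Surjective (LinearMap.range φ).mkQ := Submodule.mkQ_surjective _
  have h1 : Function.Exact (φ.baseChange p.asIdeal.ResidueField)
      ((LinearMap.range φ).mkQ.baseChange p.asIdeal.ResidueField) :=
    lTensor_exact p.asIdeal.ResidueField hex hsurj
  have h2 : Function.Surjective ((LinearMap.range φ).mkQ.baseChange p.asIdeal.ResidueField) :=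
    LinearMap.lTensor_surjective p.asIdeal.ResidueField hsurj
  have h3 := LinearMap.finrank_range_add_finrank_ker
    ((LinearMap.range φ).mkQ.baseChange p.asIdeal.ResidueField)
  rw [LinearMap.range_eq_top.mpr h2, finrank_top, LinearMap.exact_iff.mp h1] at h3
  exact h3

/-- rank–nullity on the fibre -/
lemma fibreDim_ker_add (φ : K →ₗ[R] K') [Module.Finite R K] (p : PrimeSpectrum R) :
    Module.finrank p.asIdeal.ResidueField (LinearMap.range (φ.baseChange p.asIdeal.ResidueField)) +
      Module.finrank p.asIdeal.ResidueField (LinearMap.ker (φ.baseChange p.asIdeal.ResidueField)) =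
        fibreDim R K p :=
  LinearMap.finrank_range_add_finrank_ker (φ.baseChange p.asIdeal.ResidueField)

/-- fibre dimension of a finite free module -/
lemma fibreDim_of_free [Module.Finite R K'] [Module.Free R K'] (p : PrimeSpectrum R) :
    fibreDim R K' p = Module.finrank R K' := by
  have : Nontrivial R :=
    ⟨⟨0, 1, fun h => p.2.ne_top (by rw [Ideal.eq_top_iff_one, ← h]; exact zero_mem _)⟩⟩
  rw [fibreDim, Module.finrank_baseChange]

/-- the dimension of the image of `φ ⊗ κ(y)` is lower semicontinuous when `K'` has locally constant fibre dimension -/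
theorem lowerSemicontinuous_finrank_range (φ : K →ₗ[R] K') [Module.Finite R K']
    (hK' : IsLocallyConstant (fibreDim R K')) :
    LowerSemicontinuous (fun y : PrimeSpectrum R =>
      Module.finrank y.asIdeal.ResidueField (LinearMap.range (φ.baseChange y.asIdeal.ResidueField))) := by
  rw [lowerSemicontinuous_iff_isOpen_preimage]
  intro c
  rw [isOpen_iff_forall_mem_open]
  intro y₀ hy₀
  refine ⟨(fibreDim R K' ⁻¹' {fibreDim R K' y₀}) ∩
    {y | fibreDim R (K' ⧸ LinearMap.range φ) y ≤ fibreDim R (K' ⧸ LinearMap.range φ) y₀}, ?_,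
    (hK'.isOpen_fiber _).inter (isOpen_fibreDim_le _), ⟨rfl, le_refl (fibreDim R (K' ⧸ LinearMap.range φ) y₀)⟩⟩
  rintro y ⟨hy1, hy2⟩
  simp only [Set.mem_preimage, Set.mem_singleton_iff, Set.mem_setOf_eq, Set.mem_Ioi] at hy1 hy2 hy₀ ⊢
  have h1 := fibreDim_coker_add φ y
  have h2 := fibreDim_coker_add φ y₀
  omega

end Coker

end Groth.Agent.Lib.Helper45.Fitting
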