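import Groth.Agent.Lib.Helper45.Fitting
import Groth.Prelude.Def_Fitting

/-!
# Fitting ideals are independent of the generating tuple (helper45)

* `Rel x` : the module of relations of a tuple `x : Fin n → M`.
* `J_snoc` : adding a redundant generator at the end does not change `J (Rel ·) k`.
* `J_eq_of_span_eq_top` : independence of the generating tuple.
* `fitt_eq_F0`, `fitt_eq_J`, `fitt_eq_Min` : the prelude's `Fitt.ideal R M k` computed from any generating tuple.
-/

namespace Groth.Agent.Lib.Helper45.Fitting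

open Matrix

universe u v

variable {R : Type u} [CommRing R] {M : Type v} [AddCommGroup M] [Module R M]

variable (R) in
/-- relations among a tuple -/
def Rel {n : ℕ} (x : Fin n → M) : Submodule R (Fin n → R) :=
  LinearMap.ker (Fintype.linearCombination R x)

lemma mem_Rel {n : ℕ} (x : Fin n → M) (v : Fin n → R) : v ∈ Rel R x ↔ ∑ j, v j • x j = 0 := by
  rw [Rel, LinearMap.mem_ker, Fintype.linearCombination_apply]

lemma J_le_J_snoc {n : ℕ} (w : Fin n → M) (y₀ : M) (hy : y₀ ∈ Submodule.span R (Set.range w)) (k : ℕ) :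
    J (Rel R w : Set (Fin n → R)) k ≤ J (Rel R (Fin.snoc (α := fun _ => M) w y₀) : Set (Fin (n + 1) → R)) k := by
  classical
  obtain ⟨c, hc⟩ := (Submodule.mem_span_range_iff_exists_fun R).mp hy
  rw [J, Ideal.span_le]
  rintro d ⟨a, s, hs, ha, rfl⟩
  let a' : Matrix (Fin (n + 1)) (Fin (n + 1)) R :=
    Matrix.of (Fin.snoc (α := fun _ => Fin (n + 1) → R) (fun i => Fin.snoc (α := fun _ => R) (a i) 0)
      (Fin.snoc (α := fun _ => R) (fun j => - c j) 1))
  have hdet : a'.det = a.det := by
    rw [Matrix.det_succ_column a' (Fin.last n), Finset.sum_eq_single (Fin.last n)]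
    · have h1 : a' (Fin.last n) (Fin.last n) = 1 := by simp [a']
      rw [h1, mul_one, Fin.val_last, ← two_mul, pow_mul]
      simp only [neg_one_sq, one_pow, one_mul]
      congr 1
      ext i j
      simp [a', Fin.succAbove_last]
    · intro i _ hi
      obtain ⟨i', rfl⟩ : ∃ i' : Fin n, i = i'.castSucc := ⟨i.castPred hi, by simp⟩
      have h1 : a' i'.castSucc (Fin.last n) = 0 := by simp [a']
      rw [h1]; simp
    · intro h; exact absurd (Finset.mem_univ _) h
  rw [← hdet]
  refine Ideal.subset_span ⟨a', s.map Fin.castSuccEmb, by simpa using hs, ?_, rfl⟩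
  intro i hi
  change a' i ∈ Rel R _
  rw [mem_Rel, Fin.sum_univ_castSucc]
  induction i using Fin.lastCases with
  | last =>
    simp only [a', Matrix.of_apply, Fin.snoc_last, Fin.snoc_castSucc, one_smul, neg_smul,
      Finset.sum_neg_distrib, hc]
    simp
  | cast i' =>
    have hi' : i' ∉ s := by
      intro h
      apply hi
      simp only [Finset.mem_map, Fin.castSuccEmb_apply]
      exact ⟨i', h, rfl⟩
    have := (mem_Rel w (a i')).mp (ha i' hi')
    simp only [a', Matrix.of_apply, Fin.snoc_last, Fin.snoc_castSucc, zero_smul, add_zero]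
    exact this

lemma J_snoc_le_J {n : ℕ} (w : Fin n → M) (y₀ : M) (hy : y₀ ∈ Submodule.span R (Set.range w)) (k : ℕ) :
    J (Rel R (Fin.snoc (α := fun _ => M) w y₀) : Set (Fin (n + 1) → R)) k ≤ J (Rel R w : Set (Fin n → R)) k := by
  classical
  obtain ⟨c, hc⟩ := (Submodule.mem_span_range_iff_exists_fun R).mp hy
  rw [J, Ideal.span_le]
  rintro d ⟨a', s', hs', ha', rfl⟩
  let ct : Fin (n + 1) → R := Fin.snoc (α := fun _ => R) c 0
  let U : Matrix (Fin (n + 1)) (Fin (n + 1)) R :=
    1 + Matrix.replicateCol Unit (Pi.single (Fin.last n) (1 : R)) * Matrix.replicateRow Unit ct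
  have hU : U.det = 1 := by
    rw [Matrix.det_one_add_replicateCol_mul_replicateRow]
    simp [ct]
  let a'' := a' * U
  have hdet : a''.det = a'.det := by rw [Matrix.det_mul, hU, mul_one]
  have hentry : ∀ i j, a'' i j = a' i j + a' i (Fin.last n) * ct j := by
    intro i j
    simp only [a'', U, Matrix.mul_add, Matrix.mul_one, Matrix.add_apply, Matrix.mul_apply,
      Matrix.replicateCol_apply, Matrix.replicateRow_apply, Finset.univ_unique, Finset.sum_singleton]
    congr 1
    rw [Finset.sum_eq_single (Fin.last n)]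
    · simp
    · intro l _ hl; simp [Pi.single_eq_of_ne hl]
    · intro h; exact absurd (Finset.mem_univ _) h
  rw [← hdet, Matrix.det_succ_column a'' (Fin.last n)]
  apply Ideal.sum_mem
  intro i _
  apply Ideal.mul_mem_left
  refine Ideal.subset_span ⟨a''.submatrix i.succAbove (Fin.last n).succAbove,
    Finset.univ.filter (fun i' => i.succAbove i' ∈ s'), ?_, ?_, rfl⟩
  · refine le_trans ?_ hs'
    apply Finset.card_le_card_of_injOn (fun i' => i.succAbove i')
    · intro i' hi'
      simpa using hi'
    · intro i' _ i'' _ h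
      exact Fin.succAbove_right_injective h
  · intro i' hi'
    have hi'' : i.succAbove i' ∉ s' := by simpa using hi'
    have hrel := (mem_Rel _ _).mp (ha' _ hi'')
    rw [Fin.sum_univ_castSucc] at hrel
    simp only [Fin.snoc_castSucc, Fin.snoc_last] at hrel
    change (fun l => a'' (i.succAbove i') ((Fin.last n).succAbove l)) ∈ Rel R w
    rw [mem_Rel]
    simp only [hentry, Fin.succAbove_last, ct, Fin.snoc_castSucc, add_smul, Finset.sum_add_distrib, mul_smul]
    rw [← Finset.smul_sum, hc]
    exact hrel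

theorem J_snoc {n : ℕ} (w : Fin n → M) (y₀ : M) (hy : y₀ ∈ Submodule.span R (Set.range w)) (k : ℕ) :
    J (Rel R (Fin.snoc (α := fun _ => M) w y₀) : Set (Fin (n + 1) → R)) k = J (Rel R w : Set (Fin n → R)) k :=
  le_antisymm (J_snoc_le_J w y₀ hy k) (J_le_J_snoc w y₀ hy k)

/-- reindexing along an equivalence -/
lemma J_reindex_le {n n' : ℕ} (σ : Fin n ≃ Fin n') (x : Fin n → M) (x' : Fin n' → M)
    (h : ∀ i, x' (σ i) = x i) (k : ℕ) :
    J (Rel R x : Set (Fin n → R)) k ≤ J (Rel R x' : Set (Fin n' → R)) k := by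
  classical
  rw [J, Ideal.span_le]
  rintro d ⟨a, s, hs, ha, rfl⟩
  refine Ideal.subset_span ⟨Matrix.reindex σ σ a, s.map σ.toEmbedding, by simpa using hs, ?_, ?_⟩
  · intro i' hi'
    have hi : σ.symm i' ∉ s := by
      intro hmem
      apply hi'
      simp only [Finset.mem_map, Equiv.coe_toEmbedding]
      exact ⟨σ.symm i', hmem, by simp⟩
    have := (mem_Rel x _).mp (ha _ hi)
    change (fun j' => a (σ.symm i') (σ.symm j')) ∈ Rel R x'
    rw [mem_Rel, ← Equiv.sum_comp σ]
    simp only [Equiv.symm_apply_apply, h]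
    exact this
  · exact (Matrix.det_reindex_self σ a).symm

lemma J_reindex {n n' : ℕ} (σ : Fin n ≃ Fin n') (x : Fin n → M) (x' : Fin n' → M)
    (h : ∀ i, x' (σ i) = x i) (k : ℕ) :
    J (Rel R x : Set (Fin n → R)) k = J (Rel R x' : Set (Fin n' → R)) k :=
  le_antisymm (J_reindex_le σ x x' h k)
    (J_reindex_le σ.symm x' x (fun i => by rw [← h, Equiv.apply_symm_apply]) k)

/-- appending redundant generators does not change `J` -/
lemma J_append {n : ℕ} (x : Fin n → M) (k : ℕ) : ∀ (m : ℕ) (y : Fin m → M),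
    (∀ j, y j ∈ Submodule.span R (Set.range x)) →
    J (Rel R (Fin.append x y) : Set (Fin (n + m) → R)) k = J (Rel R x : Set (Fin n → R)) k := by
  intro m
  induction m with
  | zero =>
    intro y _
    have : Fin.append x y = x := by
      ext i
      have h0 : i = Fin.castAdd 0 i := rfl
      rw [h0, Fin.append_left]
      rfl
    rw [this]
  | succ m ih =>
    intro y hy
    have hy' : y = Fin.snoc (α := fun _ => M) (Fin.init y) (y (Fin.last m)) := (Fin.snoc_init_self y).symm
    rw [hy', Fin.append_snoc, J_snoc]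
    · exact ih (Fin.init y) (fun j => hy _)
    · have hle : Submodule.span R (Set.range x) ≤ Submodule.span R (Set.range (Fin.append x (Fin.init y))) := by
        apply Submodule.span_mono
        rintro _ ⟨i, rfl⟩
        exact ⟨Fin.castAdd m i, Fin.append_left _ _ _⟩
      exact hle (hy _)

omit [AddCommGroup M] in
lemma append_comp_finAddFlip {n m : ℕ} (x : Fin n → M) (y : Fin m → M) (i : Fin (n + m)) :
    Fin.append y x (finAddFlip i) = Fin.append x y i := by
  induction i using Fin.addCases with
  | left i => rw [finAddFlip_apply_castAdd, Fin.append_right, Fin.append_left]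
  | right j => rw [finAddFlip_apply_natAdd, Fin.append_left, Fin.append_right]

/-- **Independence of the generating tuple.** -/
theorem J_eq_of_span_eq_top {n m : ℕ} (x : Fin n → M) (y : Fin m → M)
    (hx : Submodule.span R (Set.range x) = ⊤) (hy : Submodule.span R (Set.range y) = ⊤) (k : ℕ) :
    J (Rel R x : Set (Fin n → R)) k = J (Rel R y : Set (Fin m → R)) k := by
  rw [← J_append x k m y (fun j => by rw [hx]; exact Submodule.mem_top),
    ← J_append y k n x (fun j => by rw [hy]; exact Submodule.mem_top)]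
  exact J_reindex finAddFlip _ _ (append_comp_finAddFlip x y) k

/-- the prelude's Fitting ideal, computed from a generating tuple (row convention of the prelude) -/
theorem fitt_eq_F0 {n : ℕ} (x : Fin n → M) (hx : Submodule.span R (Set.range x) = ⊤) (k : ℕ) :
    Fitt.ideal R M k = F0 (Rel R x : Set (Fin n → R)) k := by
  apply le_antisymm
  · rw [Fitt.ideal, Ideal.span_le]
    rintro d ⟨n', x', a, hx', ha, rfl⟩
    have h1 : a.det ∈ F0 (Rel R x' : Set (Fin n' → R)) k :=
      Ideal.subset_span ⟨a, fun i hi => (mem_Rel x' (a i)).mpr (ha i hi), rfl⟩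
    rw [F0_eq_J, J_eq_of_span_eq_top x' x hx' hx k, ← F0_eq_J] at h1
    exact h1
  · rw [F0, Ideal.span_le]
    rintro d ⟨a, ha, rfl⟩
    exact Ideal.subset_span ⟨n, x, a, hx, fun i hi => (mem_Rel x (a i)).mp (ha i hi), rfl⟩

theorem fitt_eq_J {n : ℕ} (x : Fin n → M) (hx : Submodule.span R (Set.range x) = ⊤) (k : ℕ) :
    Fitt.ideal R M k = J (Rel R x : Set (Fin n → R)) k := by
  rw [fitt_eq_F0 x hx, F0_eq_J]

theorem fitt_eq_Min {n : ℕ} (x : Fin n → M) (hx : Submodule.span R (Set.range x) = ⊤) (k : ℕ) :
    Fitt.ideal R M k = Min (Rel R x : Set (Fin n → R)) (n - k) := by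
  rw [fitt_eq_F0 x hx, F0_eq_Min]

end Groth.Agent.Lib.Helper45.Fitting
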