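import Groth.Agent.Lib.Helper45.FittingBC

/-!
# Fitting ideals and local generation (helper45)

* `cramer_sum_eq_zero` : for relations `z b` of a tuple `x`, `∑ i, minor z (update e a i) • x i = 0` (Cramer's rule).
* `smul_mem_span_compl` : `minor z e • x (e a)` lies in the span of the `x i`, `i ∉ range e`.
* `exists_span_of_minor_unit` : if a `(n-k)`-minor of relations becomes a unit in `A`, then `k` elements generate
  over `A`.
-/

namespace Groth.Agent.Lib.Helper45.Fitting

open Matrix

universe u v w

variable {R : Type u} [CommRing R] {M : Type v} [AddCommGroup M] [Module R M]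

lemma minor_update_eq_adjugate {n j : ℕ} (z : Fin j → (Fin n → R)) (e : Fin j → Fin n) (a : Fin j) (i : Fin n) :
    minor z (Function.update e a i) =
      ∑ b, (Matrix.of fun a b => z b (e a))ᵀ.adjugate a b * z b i := by
  have h : (Matrix.of fun a' b => z b (Function.update e a i a')) =
      (Matrix.of fun a b => z b (e a)).updateRow a (fun b => z b i) := by
    ext a' b
    by_cases ha : a' = a
    · subst ha; simp
    · simp [ha, Matrix.updateRow_ne ha]
  rw [minor, h, ← Matrix.cramer_transpose_apply, Matrix.cramer_eq_adjugate_mulVec]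
  rfl

/-- **Cramer's rule for relations.** -/
lemma cramer_sum_eq_zero {n j : ℕ} (x : Fin n → M) (z : Fin j → (Fin n → R)) (hz : ∀ b, z b ∈ Rel R x)
    (e : Fin j → Fin n) (a : Fin j) :
    ∑ i, minor z (Function.update e a i) • x i = 0 := by
  simp only [minor_update_eq_adjugate, Finset.sum_smul, mul_smul]
  rw [Finset.sum_comm]
  apply Finset.sum_eq_zero
  intro b _
  rw [← Finset.smul_sum, (mem_Rel x (z b)).mp (hz b), smul_zero]

lemma minor_update_self {n j : ℕ} (z : Fin j → (Fin n → R)) (e : Fin j → Fin n) (a : Fin j) :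
    minor z (Function.update e a (e a)) = minor z e := by
  rw [Function.update_eq_self]

lemma minor_eq_zero_of_eq {n j : ℕ} (z : Fin j → (Fin n → R)) (e : Fin j → Fin n) {a a' : Fin j}
    (h : a ≠ a') (he : e a = e a') : minor z e = 0 := by
  rw [minor]
  apply Matrix.det_zero_of_row_eq h
  funext b
  simp [he]

lemma minor_update_of_ne {n j : ℕ} (z : Fin j → (Fin n → R)) (e : Fin j → Fin n) {a a' : Fin j}
    (h : a' ≠ a) : minor z (Function.update e a (e a')) = 0 := by
  apply minor_eq_zero_of_eq z _ h
  rw [Function.update_of_ne h, Function.update_self]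

/-- Cramer: `d • x (e a) = - ∑_{i ∉ range e} c i • x i`, with `c i` minors. -/
lemma minor_smul_eq {n j : ℕ} (x : Fin n → M) (z : Fin j → (Fin n → R)) (hz : ∀ b, z b ∈ Rel R x)
    (e : Fin j → Fin n) (a : Fin j) :
    minor z e • x (e a) =
      - ∑ i ∈ Finset.univ.filter (fun i => i ∉ Set.range e), minor z (Function.update e a i) • x i := by
  have h0 := cramer_sum_eq_zero x z hz e a
  rw [← Finset.sum_filter_add_sum_filter_not Finset.univ (fun i => i ∉ Set.range e)] at h0
  have h1 : ∑ i ∈ Finset.univ.filter (fun i => ¬ i ∉ Set.range e), minor z (Function.update e a i) • x i =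
      minor z e • x (e a) := by
    rw [Finset.sum_eq_single (e a)]
    · rw [minor_update_self]
    · intro i hi hne
      simp only [Finset.mem_filter, Finset.mem_univ, true_and, not_not] at hi
      obtain ⟨a', rfl⟩ := hi
      have : a' ≠ a := fun h => hne (by rw [h])
      rw [minor_update_of_ne z e this, zero_smul]
    · intro h
      exact absurd (by simp) h
  rw [h1] at h0
  exact eq_neg_of_add_eq_zero_right h0

lemma smul_mem_span_compl {n j : ℕ} (x : Fin n → M) (z : Fin j → (Fin n → R)) (hz : ∀ b, z b ∈ Rel R x)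
    (e : Fin j → Fin n) (a : Fin j) :
    minor z e • x (e a) ∈ Submodule.span R (x '' (Set.range e)ᶜ) := by
  rw [minor_smul_eq x z hz e a]
  apply Submodule.neg_mem
  apply Submodule.sum_mem
  intro i hi
  simp only [Finset.mem_filter, Finset.mem_univ, true_and] at hi
  exact Submodule.smul_mem _ _ (Submodule.subset_span ⟨i, hi, rfl⟩)


section Algebra

variable {A : Type w} [CommRing A] [Algebra R A] {N : Type*} [AddCommGroup N] [Module R N] [Module A N]
  [IsScalarTower R A N]

/-- If a minor `d` of relations of `x` becomes a unit in `A`, the images of the `x i`, `i ∉ range e`, span as soon as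
all the images of the `x i` span. -/
lemma span_compl_eq_top {n j : ℕ} (x : Fin n → M) (z : Fin j → (Fin n → R)) (hz : ∀ b, z b ∈ Rel R x)
    (e : Fin j → Fin n) (φ : M →ₗ[R] N) (hφ : Submodule.span A (Set.range (φ ∘ x)) = ⊤)
    (hd : IsUnit (algebraMap R A (minor z e))) :
    Submodule.span A ((φ ∘ x) '' (Set.range e)ᶜ) = ⊤ := by
  rw [eq_top_iff, ← hφ, Submodule.span_le]
  rintro _ ⟨i, rfl⟩
  by_cases hi : i ∈ Set.range e
  · obtain ⟨a, rfl⟩ := hi
    obtain ⟨u, hu⟩ := hd
    have h1 : φ (x (e a)) = (↑u⁻¹ : A) • (algebraMap R A (minor z e)) • φ (x (e a)) := by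
      rw [← hu, smul_smul, Units.inv_mul, one_smul]
    have h2 : (algebraMap R A (minor z e)) • φ (x (e a)) = φ (minor z e • x (e a)) := by
      rw [algebraMap_smul, map_smul]
    change φ (x (e a)) ∈ _
    rw [h1, h2]
    apply Submodule.smul_mem
    have h3 := smul_mem_span_compl x z hz e a
    have h4 : φ (minor z e • x (e a)) ∈ Submodule.map φ (Submodule.span R (x '' (Set.range e)ᶜ)) :=
      Submodule.mem_map_of_mem h3
    rw [Submodule.map_span, ← Set.image_comp] at h4
    exact Submodule.span_subset_span R A _ h4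
  · exact Submodule.subset_span ⟨i, hi, rfl⟩

end Algebra

/-- padding a spanning family indexed by a small finite set to a family indexed by `Fin k` -/
lemma exists_fin_span_of_card_le {A : Type*} [Semiring A] {N : Type*} [AddCommMonoid N] [Module A N]
    {ι : Type*} (y : ι → N) (T : Finset ι) (k : ℕ) (hT : T.card ≤ k)
    (hy : Submodule.span A (y '' (T : Set ι)) = ⊤) :
    ∃ g : Fin k → N, Submodule.span A (Set.range g) = ⊤ := by
  classical
  refine ⟨fun i => if h : (i : ℕ) < T.card then y (T.equivFin.symm ⟨i, h⟩) else 0, ?_⟩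
  rw [eq_top_iff, ← hy, Submodule.span_le]
  rintro _ ⟨t, ht, rfl⟩
  apply Submodule.subset_span
  let i := T.equivFin ⟨t, ht⟩
  refine ⟨⟨i, lt_of_lt_of_le i.2 hT⟩, ?_⟩
  simp only [Fin.is_lt, ↓reduceDIte, Fin.eta]
  simp [i]

section Algebra2

variable {A : Type w} [CommRing A] [Algebra R A] {N : Type*} [AddCommGroup N] [Module R N] [Module A N]
  [IsScalarTower R A N]

/-- If an `(n-k)`-minor of relations of the `n`-tuple `x` becomes a unit in `A`, then `k` elements generate `N` over
`A`, provided the images of the `x i` do. -/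
theorem exists_span_of_minor_unit {n : ℕ} (k : ℕ) (x : Fin n → M) (z : Fin (n - k) → (Fin n → R))
    (hz : ∀ b, z b ∈ Rel R x)
    (e : Fin (n - k) → Fin n) (φ : M →ₗ[R] N) (hφ : Submodule.span A (Set.range (φ ∘ x)) = ⊤)
    (hd : IsUnit (algebraMap R A (minor z e))) :
    ∃ g : Fin k → N, Submodule.span A (Set.range g) = ⊤ := by
  classical
  by_cases he : Function.Injective e
  · have h1 := span_compl_eq_top x z hz e φ hφ hd
    apply exists_fin_span_of_card_le (φ ∘ x) (Finset.univ.image e)ᶜ k
    · rw [Finset.card_compl, Finset.card_image_of_injective _ he]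
      simp only [Fintype.card_fin, Finset.card_univ]
      omega
    · convert h1 using 3
      ext i
      simp
  · have hd0 : minor z e = 0 := by
      rw [Function.Injective] at he
      push Not at he
      obtain ⟨a, a', hea, hne⟩ := he
      exact minor_eq_zero_of_eq z e hne hea
    rw [hd0, map_zero] at hd
    have : Subsingleton A := subsingleton_of_zero_eq_one (isUnit_zero_iff.mp hd)
    have : Subsingleton N := Module.subsingleton A N
    exact ⟨fun _ => 0, Subsingleton.elim _ _⟩

end Algebra2


/-- Fitting ideals are invariant under linear equivalences. -/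
theorem fitt_congr_le {M' : Type*} [AddCommGroup M'] [Module R M'] (f : M ≃ₗ[R] M') (k : ℕ) :
    Fitt.ideal R M k ≤ Fitt.ideal R M' k := by
  rw [Fitt.ideal, Ideal.span_le]
  rintro d ⟨n, x, a, hx, ha, rfl⟩
  refine Ideal.subset_span ⟨n, f ∘ x, a, ?_, ?_, rfl⟩
  · have : (f : M → M') ∘ x = (f : M →ₗ[R] M') ∘ x := rfl
    rw [this, Set.range_comp, ← Submodule.map_span, hx, Submodule.map_top, LinearMap.range_eq_top]
    exact f.surjective
  · intro i hi
    have := congrArg f (ha i hi)
    simpa using this

theorem fitt_congr {M' : Type*} [AddCommGroup M'] [Module R M'] (f : M ≃ₗ[R] M') (k : ℕ) :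
    Fitt.ideal R M k = Fitt.ideal R M' k :=
  le_antisymm (fitt_congr_le f k) (fitt_congr_le f.symm k)

/-- a module generated by `k` elements has `k`-th Fitting ideal `⊤` -/
theorem fitt_eq_top_of_span {k : ℕ} (g : Fin k → M) (hg : Submodule.span R (Set.range g) = ⊤) :
    Fitt.ideal R M k = ⊤ := by
  rw [fitt_eq_Min g hg k, Nat.sub_self, Min_zero]

theorem fitt_eq_top_of_span_of_le {n k : ℕ} (h : n ≤ k) (g : Fin n → M) (hg : Submodule.span R (Set.range g) = ⊤) :
    Fitt.ideal R M k = ⊤ := by
  rw [fitt_eq_Min g hg k, Nat.sub_eq_zero_of_le h, Min_zero]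

theorem fitt_mono [Module.Finite R M] {k k' : ℕ} (h : k ≤ k') : Fitt.ideal R M k ≤ Fitt.ideal R M k' := by
  obtain ⟨n, x, hx⟩ := Module.Finite.exists_fin (R := R) (M := M)
  rw [fitt_eq_Min x hx k, fitt_eq_Min x hx k']
  exact Min_antitone _ (by omega)

/-- Fitting ideals commute with base change (`IsBaseChange` form). -/
theorem fitt_isBaseChange [Module.Finite R M] {A : Type w} [CommRing A] [Algebra R A] {N : Type*} [AddCommGroup N]
    [Module R N] [Module A N] [IsScalarTower R A N] {f : M →ₗ[R] N} (h : IsBaseChange A f) (k : ℕ) :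
    Fitt.ideal A N k = (Fitt.ideal R M k).map (algebraMap R A) := by
  rw [← fitt_congr h.equiv k, fitt_baseChange]

/-- Fitting ideals commute with localization. -/
theorem fitt_localizedModule [Module.Finite R M] (S : Submonoid R) (k : ℕ) :
    Fitt.ideal (Localization S) (LocalizedModule S M) k = (Fitt.ideal R M k).map (algebraMap R (Localization S)) :=
  fitt_isBaseChange (LocalizedModule.isBaseChange S M) k

/-- if `Fitt_k M ⊄ p` there is a minor of relations (of any given generating tuple) outside `p` -/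
theorem exists_minor_notMem {n : ℕ} (x : Fin n → M) (hx : Submodule.span R (Set.range x) = ⊤) (k : ℕ)
    (p : Ideal R) (hp : ¬ Fitt.ideal R M k ≤ p) :
    ∃ (z : Fin (n - k) → (Fin n → R)) (e : Fin (n - k) → Fin n), (∀ b, z b ∈ Rel R x) ∧ minor z e ∉ p := by
  by_contra hcon
  push Not at hcon
  apply hp
  rw [fitt_eq_Min x hx k, Min, Ideal.span_le]
  rintro d ⟨z, e, hz, rfl⟩
  exact hcon z e hz

/-- over a local ring, `Fitt_k M = ⊤` implies that `M` is generated by `k` elements -/
theorem exists_span_of_fitt_eq_top [IsLocalRing R] [Module.Finite R M] (k : ℕ) (h : Fitt.ideal R M k = ⊤) :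
    ∃ g : Fin k → M, Submodule.span R (Set.range g) = ⊤ := by
  obtain ⟨n, x, hx⟩ := Module.Finite.exists_fin (R := R) (M := M)
  have hp : ¬ Fitt.ideal R M k ≤ IsLocalRing.maximalIdeal R := by
    rw [h]
    intro hle
    exact (IsLocalRing.maximalIdeal.isMaximal R).ne_top (top_le_iff.mp hle)
  obtain ⟨z, e, hz, hd⟩ := exists_minor_notMem x hx k _ hp
  refine exists_span_of_minor_unit (A := R) k x z hz e LinearMap.id (by simpa using hx) ?_
  simpa using hd


/-- minors of the zero relation module vanish -/
lemma Min_zero_set {n : ℕ} {K : Set (Fin n → R)} (hK : ∀ v ∈ K, v = 0) (j : ℕ) (hj : 1 ≤ j) :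
    Min K j = ⊥ := by
  rw [eq_bot_iff, Min, Ideal.span_le]
  rintro d ⟨z, e, hz, rfl⟩
  rw [SetLike.mem_coe, Ideal.mem_bot, minor]
  apply Matrix.det_eq_zero_of_column_eq_zero (⟨0, hj⟩ : Fin j)
  intro a
  simp [hK _ (hz ⟨0, hj⟩)]

/-- if the `1`-minors vanish, all relations vanish -/
lemma eq_zero_of_Min_one_eq_bot {n : ℕ} {K : Set (Fin n → R)} (h : Min K 1 = ⊥) : ∀ v ∈ K, v = 0 := by
  intro v hv
  funext i
  have h1 : minor (fun _ : Fin 1 => v) (fun _ => i) ∈ Min K 1 := minor_mem_Min _ _ (fun _ => hv)
  rw [h, Ideal.mem_bot, minor, Matrix.det_fin_one] at h1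
  simpa using h1

/-- Fitting ideals of a free module with a basis indexed by `Fin r` -/
theorem fitt_of_basis {r : ℕ} (b : Module.Basis (Fin r) R M) (k : ℕ) :
    (k < r → Fitt.ideal R M k = ⊥) ∧ (r ≤ k → Fitt.ideal R M k = ⊤) := by
  constructor
  · intro hk
    rw [fitt_eq_Min b b.span_eq k]
    apply Min_zero_set _ _ (by omega)
    intro v hv
    have h1 := (mem_Rel b v).mp hv
    funext i
    exact Fintype.linearIndependent_iff.mp b.linearIndependent v h1 i
  · intro hk
    exact fitt_eq_top_of_span_of_le hk b b.span_eq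

/-- a spanning `r`-tuple is a basis as soon as `Fitt_{r-1} = ⊥` -/
theorem linearIndependent_of_fitt_eq_bot {r : ℕ} (g : Fin (r + 1) → M) (hg : Submodule.span R (Set.range g) = ⊤)
    (h : Fitt.ideal R M r = ⊥) : LinearIndependent R g := by
  rw [fitt_eq_Min g hg r, Nat.add_sub_cancel_left] at h
  rw [Fintype.linearIndependent_iff]
  intro v hv i
  have := eq_zero_of_Min_one_eq_bot h v ((mem_Rel g v).mpr hv)
  rw [this]
  rfl

/-- local-to-global for `I = ⊤` on basic opens -/
theorem ideal_eq_top_of_away (I : Ideal R)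
    (h : ∀ (p : Ideal R) [p.IsPrime], ∃ f : R, f ∉ p ∧ I.map (algebraMap R (Localization.Away f)) = ⊤) : I = ⊤ := by
  by_contra hI
  obtain ⟨m, hm, hIm⟩ := Ideal.exists_le_maximal I hI
  obtain ⟨f, hf, hIf⟩ := h m
  have h2 := (not_iff_not.mpr (IsLocalization.map_algebraMap_ne_top_iff_disjoint (Submonoid.powers f)
    (Localization.Away f) I)).mp (by rw [not_not]; exact hIf)
  rw [Set.not_disjoint_iff] at h2
  obtain ⟨y, ⟨t, rfl⟩, hy⟩ := h2
  exact hf (Ideal.IsPrime.mem_of_pow_mem inferInstance t (hIm hy))

/-- local-to-global for `I = ⊥` on basic opens -/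
theorem ideal_eq_bot_of_away (I : Ideal R)
    (h : ∀ (p : Ideal R) [p.IsPrime], ∃ f : R, f ∉ p ∧ I.map (algebraMap R (Localization.Away f)) = ⊥) : I = ⊥ := by
  rw [eq_bot_iff]
  intro a ha
  rw [Ideal.mem_bot]
  by_contra ha0
  have hann : (Ideal.span {a}).annihilator ≠ ⊤ := by
    intro htop
    apply ha0
    have h1 : (1 : R) ∈ (Ideal.span {a}).annihilator := by rw [htop]; exact Submodule.mem_top
    have := Submodule.mem_annihilator.mp h1 a (Ideal.mem_span_singleton_self a)
    simpa using this
  obtain ⟨m, hm, hIm⟩ := Ideal.exists_le_maximal _ hann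
  obtain ⟨f, hf, hIf⟩ := h m
  have h1 : algebraMap R (Localization.Away f) a = 0 := by
    have : algebraMap R (Localization.Away f) a ∈ I.map (algebraMap R (Localization.Away f)) :=
      Ideal.mem_map_of_mem _ ha
    rwa [hIf, Ideal.mem_bot] at this
  obtain ⟨⟨_, t, rfl⟩, ht⟩ := (IsLocalization.map_eq_zero_iff (Submonoid.powers f) (Localization.Away f) a).mp h1
  have h2 : f ^ t ∈ (Ideal.span {a}).annihilator := by
    rw [Submodule.mem_annihilator]
    intro y hy
    obtain ⟨c, rfl⟩ := Ideal.mem_span_singleton'.mp hy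
    rw [smul_eq_mul, mul_left_comm]
    simp only at ht
    rw [ht, mul_zero]
  exact hf (Ideal.IsPrime.mem_of_pow_mem inferInstance t (hIm h2))

end Groth.Agent.Lib.Helper45.Fitting
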