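import Mathlib.CategoryTheory.FiberedCategory.Fibered
import Mathlib.CategoryTheory.Comma.Over.Basic

/-! Helper lemmas: lifting (strongly) cartesian arrows along `Over.forget`. -/

set_option autoImplicit false
universe v₁ u₁ v₂ u₂

namespace Groth.Agent.Lib.Helper45

open CategoryTheory Functor

variable {𝒮 : Type u₁} [Category.{v₁} 𝒮] {C : Type u₂} [Category.{v₂} C]

theorem sc_map' (p : 𝒮 ⥤ C)
    {R S : C} {a b : 𝒮} (f : R ⟶ S) (φ : a ⟶ b) [h : p.IsStronglyCartesian f φ] :
    p.IsStronglyCartesian (p.map φ) φ := by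
  obtain ⟨⟩ := (inferInstance : p.IsHomLift f φ)
  exact h

theorem over_obj_ext {U : C} {R S : Over U} (e : R.left = S.left)
    (h : R.hom = eqToHom e ≫ S.hom) : R = S := by
  obtain ⟨Rl, ⟨⟨⟩⟩, Rh⟩ := R
  obtain ⟨Sl, ⟨⟨⟩⟩, Sh⟩ := S
  change Rl = Sl at e
  subst e
  simp only [eqToHom_refl, Category.id_comp] at h
  change Rh = Sh at h
  subst h
  rfl

/-- strongly cartesian for `p' ⋙ forget` implies strongly cartesian for `p'` (clean form). -/
theorem sc_of_comp_forget {U : C} (p' : 𝒮 ⥤ Over U) {x y : 𝒮} (φ : x ⟶ y)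
    [h : (p' ⋙ Over.forget U).IsStronglyCartesian ((p' ⋙ Over.forget U).map φ) φ] :
    p'.IsStronglyCartesian (p'.map φ) φ := by
  refine { toIsHomLift := inferInstance, universal_property' := ?_ }
  intro a' g φ' hφ'
  have h1 : g ≫ p'.map φ = p'.map φ' := IsHomLift.eq_of_isHomLift p' (g ≫ p'.map φ) φ'
  let q := p' ⋙ Over.forget U
  let gl : q.obj a' ⟶ q.obj x := g.left
  have h2 : gl ≫ q.map φ = q.map φ' := by
    have := congrArg (fun k => k.left) h1
    simp only [Over.comp_left] at this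
    exact this
  have : q.IsHomLift (gl ≫ q.map φ) φ' := by
    rw [h2]; exact Functor.IsHomLift.map (p := q) φ'
  obtain ⟨χ, ⟨hχ1, hχ2⟩, hχu⟩ :=
    Functor.IsStronglyCartesian.universal_property' (p := q)
      (f := q.map φ) (φ := φ) (a' := a') gl φ'
  have hχ1' : g.left = (p'.map χ).left :=
    IsHomLift.eq_of_isHomLift q gl χ
  have hg : g = p'.map χ := Over.OverMorphism.ext hχ1'
  refine ⟨χ, ⟨?_, hχ2⟩, ?_⟩
  · rw [hg]; infer_instance
  · rintro χ' ⟨hχ'1, hχ'2⟩
    apply hχu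
    refine ⟨?_, hχ'2⟩
    have : g = p'.map χ' := IsHomLift.eq_of_isHomLift p' g χ'
    have hgl : gl = q.map χ' := congrArg (fun k => k.left) this
    rw [hgl]
    exact Functor.IsHomLift.map (p := q) χ'

/-- a lift for `p' ⋙ forget` of `f.left` is a lift for `p'` of `f`. -/
theorem isHomLift_of_comp_forget {U : C} (p' : 𝒮 ⥤ Over U) {a b : 𝒮} {R : Over U}
    (f : R ⟶ p'.obj a) (φ : b ⟶ a) [h : (p' ⋙ Over.forget U).IsHomLift f.left φ] :
    p'.IsHomLift f φ := by
  have e : (p'.obj b).left = R.left := IsHomLift.domain_eq (p' ⋙ Over.forget U) f.left φ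
  have hfac : (p'.map φ).left = eqToHom e ≫ f.left := by
    have := IsHomLift.fac' (p' ⋙ Over.forget U) f.left φ
    simpa using this
  have hh : (p'.obj b).hom = eqToHom e ≫ R.hom := by
    rw [← Over.w (p'.map φ), hfac, Category.assoc, Over.w f]
  have ha : p'.obj b = R := over_obj_ext e hh
  apply IsHomLift.of_fac' p' f φ ha rfl
  ext
  simp [hfac, Over.eqToHom_left]

theorem sc_of_comp_forget' {U : C} (p' : 𝒮 ⥤ Over U) {a b : 𝒮} {R : Over U}
    (f : R ⟶ p'.obj a) (φ : b ⟶ a) [h : (p' ⋙ Over.forget U).IsStronglyCartesian f.left φ] :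
    p'.IsStronglyCartesian f φ := by
  have h1 : p'.IsHomLift f φ := isHomLift_of_comp_forget p' f φ
  have h2 : (p' ⋙ Over.forget U).IsStronglyCartesian ((p' ⋙ Over.forget U).map φ) φ :=
    sc_map' (p' ⋙ Over.forget U) f.left φ
  have h3 := sc_of_comp_forget p' φ
  have ha : p'.obj b = R := IsHomLift.domain_eq p' f φ
  subst ha
  have hf : f = p'.map φ := IsHomLift.eq_of_isHomLift p' f φ
  subst hf
  exact h3

end Groth.Agent.Lib.Helper45
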