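import Groth.Prelude.Def_FibCat2
import Groth.Agent.Lib.Helper45.OverFib

/-! Projections of 2-fibre products over `C` of categories fibred in groupoids. -/

set_option autoImplicit false
set_option backward.isDefEq.respectTransparency false
set_option backward.isDefEq.respectTransparency.types false

universe v₄ u₄ v₃ u₃ v₂ u₂ v u

namespace Groth.Agent.Lib.Helper45

open CategoryTheory CategoryTheory.Limits Functor FibCat

section general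
variable {C : Type u} [Category.{v} C] {𝒮 : Type u₂} [Category.{v₂} 𝒮]

theorem sc_of_isHomLift (p : 𝒮 ⥤ C) {R S : C} {a b : 𝒮} (f : R ⟶ S) (φ : a ⟶ b)
    [hl : p.IsHomLift f φ] (h : p.IsStronglyCartesian (p.map φ) φ) :
    p.IsStronglyCartesian f φ := by
  obtain ⟨⟩ := hl
  exact h

theorem isIso_of_isHomLift_id (p : 𝒮 ⥤ C) (hp : FibCat.IsFibGrpd p) {a b : 𝒮} (φ : a ⟶ b) (R : C)
    [p.IsHomLift (𝟙 R) φ] : IsIso φ := by
  have h1 := hp.isStronglyCartesian φ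
  have h2 : p.IsStronglyCartesian (𝟙 R) φ := sc_of_isHomLift p (𝟙 R) φ h1
  exact IsStronglyCartesian.isIso_of_base_isIso p (𝟙 R) φ

end general

variable {C : Type u} [Category.{v} C]
variable {𝒳 : BasedCategory.{v₂, u₂} C} {𝒴 : BasedCategory.{v₃, u₃} C} {𝒮 : BasedCategory.{v₄, u₄} C}

/-- the second component of a morphism of the fibre product lies over the image of the first -/
theorem snd_isHomLift (F : 𝒳 ⥤ᵇ 𝒮) (G : 𝒴 ⥤ᵇ 𝒮) {P Q : (fp F G).obj} (Φ : P ⟶ Q) :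
    𝒴.p.IsHomLift (𝒳.p.map Φ.hom.fst) Φ.hom.snd :=
  fp_isHomLift_snd F G Φ

theorem fpFst_isFibGrpd (F : 𝒳 ⥤ᵇ 𝒮) (G : 𝒴 ⥤ᵇ 𝒮) (h𝒴 : FibCat.IsFibGrpd 𝒴.p)
    (h𝒮 : FibCat.IsFibGrpd 𝒮.p) : FibCat.IsFibGrpd (fpFst F G).toFunctor := by
  refine { exists_lift := ?_, isStronglyCartesian := ?_ }
  · intro P x' f
    -- unpack P
    let x : 𝒳.obj := P.obj.fst
    let y : 𝒴.obj := P.obj.snd
    let θ : F.obj x ≅ G.obj y := P.obj.iso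
    have hθ : 𝒮.p.IsHomLift (𝟙 (𝒳.p.obj x)) θ.hom := P.property
    let f' : x' ⟶ x := f
    have e : 𝒳.p.obj x = 𝒴.p.obj y :=
      (IsHomLift.codomain_eq 𝒮.p (𝟙 (𝒳.p.obj x)) θ.hom).symm.trans (G.w_obj y)
    obtain ⟨y', ψ, hψ⟩ := h𝒴.exists_lift (x := y) (𝒳.p.map f' ≫ eqToHom e)
    have hψ' : 𝒴.p.IsHomLift (𝒳.p.map f') ψ := by
      have := (IsHomLift.lift_comp_eqToHom_iff 𝒴.p (𝒳.p.map f') ψ e).mp hψ
      exact this
    have hGψ : 𝒮.p.IsStronglyCartesian (𝒳.p.map f') (G.map ψ) :=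
      sc_of_isHomLift 𝒮.p (𝒳.p.map f') (G.map ψ) (h𝒮.isStronglyCartesian (G.map ψ))
    have hcomp : 𝒮.p.IsHomLift (𝒳.p.map f') (F.map f' ≫ θ.hom) := inferInstance
    let θ' : F.obj x' ⟶ G.obj y' :=
      IsStronglyCartesian.map 𝒮.p (𝒳.p.map f') (G.map ψ) (g := 𝟙 (𝒳.p.obj x'))
        (f' := 𝒳.p.map f') (Category.id_comp _).symm (F.map f' ≫ θ.hom)
    have hθ'1 : 𝒮.p.IsHomLift (𝟙 (𝒳.p.obj x')) θ' :=
      IsStronglyCartesian.map_isHomLift 𝒮.p (𝒳.p.map f') (G.map ψ) (Category.id_comp _).symm _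
    have hθ'2 : θ' ≫ G.map ψ = F.map f' ≫ θ.hom :=
      IsStronglyCartesian.fac 𝒮.p (𝒳.p.map f') (G.map ψ) (Category.id_comp _).symm _
    haveI : IsIso θ' := isIso_of_isHomLift_id 𝒮.p h𝒮 θ' (𝒳.p.obj x')
    let P' : (fp F G).obj := ⟨⟨x', y', asIso θ'⟩, hθ'1⟩
    let Φ : P' ⟶ P := ObjectProperty.homMk ⟨f', ψ, hθ'2.symm⟩
    refine ⟨P', Φ, ?_⟩
    exact Functor.IsHomLift.map (p := (fpFst F G).toFunctor) Φ
  · intro P' P Φ
    let q := (fpFst F G).toFunctor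
    refine { toIsHomLift := inferInstance, universal_property' := ?_ }
    intro P'' g Ψ hΨ
    let f : P'.obj.fst ⟶ P.obj.fst := Φ.hom.fst
    let g' : P''.obj.fst ⟶ P'.obj.fst := g
    have hΨ1 : g' ≫ f = Ψ.hom.fst := IsHomLift.eq_of_isHomLift q (g ≫ q.map Φ) Ψ
    -- strongly cartesian second components
    have hΦs : 𝒴.p.IsHomLift (𝒳.p.map f) Φ.hom.snd := snd_isHomLift F G Φ
    have hΨs : 𝒴.p.IsHomLift (𝒳.p.map Ψ.hom.fst) Ψ.hom.snd := snd_isHomLift F G Ψ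
    have hsc : 𝒴.p.IsStronglyCartesian (𝒳.p.map f) Φ.hom.snd :=
      sc_of_isHomLift 𝒴.p (𝒳.p.map f) Φ.hom.snd (h𝒴.isStronglyCartesian Φ.hom.snd)
    have hbase : 𝒳.p.map Ψ.hom.fst = 𝒳.p.map g' ≫ 𝒳.p.map f := by
      rw [← hΨ1, Functor.map_comp]
    let χ : P''.obj.snd ⟶ P'.obj.snd :=
      IsStronglyCartesian.map 𝒴.p (𝒳.p.map f) Φ.hom.snd hbase Ψ.hom.snd
    have hχ1 : 𝒴.p.IsHomLift (𝒳.p.map g') χ :=
      IsStronglyCartesian.map_isHomLift 𝒴.p (𝒳.p.map f) Φ.hom.snd hbase Ψ.hom.snd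
    have hχ2 : χ ≫ Φ.hom.snd = Ψ.hom.snd :=
      IsStronglyCartesian.fac 𝒴.p (𝒳.p.map f) Φ.hom.snd hbase Ψ.hom.snd
    -- compatibility
    have hP' : 𝒮.p.IsHomLift (𝟙 (𝒳.p.obj P'.obj.fst)) P'.obj.iso.hom := P'.property
    have hP'' : 𝒮.p.IsHomLift (𝟙 (𝒳.p.obj P''.obj.fst)) P''.obj.iso.hom := P''.property
    have hGΦ : 𝒮.p.IsStronglyCartesian (𝒳.p.map f) (G.map Φ.hom.snd) :=
      sc_of_isHomLift 𝒮.p (𝒳.p.map f) (G.map Φ.hom.snd) (h𝒮.isStronglyCartesian (G.map Φ.hom.snd))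
    have hw : F.map g' ≫ P'.obj.iso.hom = P''.obj.iso.hom ≫ G.map χ := by
      have i1 : 𝒮.p.IsHomLift (𝒳.p.map g') (F.map g' ≫ P'.obj.iso.hom) := inferInstance
      have i2 : 𝒮.p.IsHomLift (𝒳.p.map g') (P''.obj.iso.hom ≫ G.map χ) := inferInstance
      apply IsStronglyCartesian.ext 𝒮.p (𝒳.p.map f) (G.map Φ.hom.snd) (𝒳.p.map g')
      rw [Category.assoc, Category.assoc, ← G.map_comp, hχ2]
      have w1 := Φ.hom.w
      have w2 := Ψ.hom.w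
      rw [← w2, ← hΨ1, F.map_comp, Category.assoc]
      congr 1
      exact w1.symm
    let X : P'' ⟶ P' := ObjectProperty.homMk ⟨g', χ, hw⟩
    refine ⟨X, ⟨?_, ?_⟩, ?_⟩
    · exact Functor.IsHomLift.map (p := q) X
    · apply ObjectProperty.hom_ext
      apply CategoricalPullback.hom_ext
      · exact hΨ1
      · exact hχ2
    · rintro X' ⟨hX'1, hX'2⟩
      have h1 : g' = X'.hom.fst := IsHomLift.eq_of_isHomLift q g X'
      have h2 : X'.hom.snd ≫ Φ.hom.snd = Ψ.hom.snd := by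
        have := congrArg (fun k => k.hom.snd) hX'2
        exact this
      have h3 : 𝒴.p.IsHomLift (𝒳.p.map g') X'.hom.snd := by
        rw [h1]; exact snd_isHomLift F G X'
      have h4 : X'.hom.snd = χ :=
        IsStronglyCartesian.map_uniq 𝒴.p (𝒳.p.map f) Φ.hom.snd hbase Ψ.hom.snd X'.hom.snd h2
      apply ObjectProperty.hom_ext
      apply CategoricalPullback.hom_ext
      · exact h1.symm
      · exact h4

theorem isHomLift_id_of_eq {C : Type u} [Category.{v} C] {𝒯 : Type u₂} [Category.{v₂} 𝒯] (p : 𝒯 ⥤ C)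
    {R R' : C} (h : R = R') {a b : 𝒯} (φ : a ⟶ b) [hl : p.IsHomLift (𝟙 R) φ] :
    p.IsHomLift (𝟙 R') φ := by
  subst h
  exact hl

/-- the first component of a morphism of the fibre product lies over the image of the second -/
theorem fst_isHomLift (F : 𝒳 ⥤ᵇ 𝒮) (G : 𝒴 ⥤ᵇ 𝒮) {P Q : (fp F G).obj} (Φ : P ⟶ Q) :
    𝒳.p.IsHomLift (𝒴.p.map Φ.hom.snd) Φ.hom.fst := by
  have h := snd_isHomLift F G Φ
  exact IsHomLift.of_fac' 𝒳.p (𝒴.p.map Φ.hom.snd) Φ.hom.fst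
    (IsHomLift.domain_eq 𝒴.p (𝒳.p.map Φ.hom.fst) Φ.hom.snd).symm
    (IsHomLift.codomain_eq 𝒴.p (𝒳.p.map Φ.hom.fst) Φ.hom.snd).symm
    (IsHomLift.fac 𝒴.p (𝒳.p.map Φ.hom.fst) Φ.hom.snd)

theorem obj_base_eq (F : 𝒳 ⥤ᵇ 𝒮) (G : 𝒴 ⥤ᵇ 𝒮) (P : (fp F G).obj) :
    𝒳.p.obj P.obj.fst = 𝒴.p.obj P.obj.snd := by
  have hθ : 𝒮.p.IsHomLift (𝟙 (𝒳.p.obj P.obj.fst)) P.obj.iso.hom := P.property
  exact (IsHomLift.codomain_eq 𝒮.p (𝟙 (𝒳.p.obj P.obj.fst)) P.obj.iso.hom).symm.trans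
    (G.w_obj P.obj.snd)

theorem obj_iso_isHomLift_snd (F : 𝒳 ⥤ᵇ 𝒮) (G : 𝒴 ⥤ᵇ 𝒮) (P : (fp F G).obj) :
    𝒮.p.IsHomLift (𝟙 (𝒴.p.obj P.obj.snd)) P.obj.iso.hom := by
  have hθ : 𝒮.p.IsHomLift (𝟙 (𝒳.p.obj P.obj.fst)) P.obj.iso.hom := P.property
  exact isHomLift_id_of_eq 𝒮.p (obj_base_eq F G P) P.obj.iso.hom

theorem fpSnd_isFibGrpd (F : 𝒳 ⥤ᵇ 𝒮) (G : 𝒴 ⥤ᵇ 𝒮) (h𝒳 : FibCat.IsFibGrpd 𝒳.p)
    (h𝒮 : FibCat.IsFibGrpd 𝒮.p) : FibCat.IsFibGrpd (fpSnd F G).toFunctor := by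
  refine { exists_lift := ?_, isStronglyCartesian := ?_ }
  · intro P y' f
    let x : 𝒳.obj := P.obj.fst
    let y : 𝒴.obj := P.obj.snd
    let θ : F.obj x ≅ G.obj y := P.obj.iso
    have hθ : 𝒮.p.IsHomLift (𝟙 (𝒴.p.obj y)) θ.hom := obj_iso_isHomLift_snd F G P
    let f' : y' ⟶ y := f
    have e : 𝒳.p.obj x = 𝒴.p.obj y := obj_base_eq F G P
    obtain ⟨x', φ, hφ⟩ := h𝒳.exists_lift (x := x) (𝒴.p.map f' ≫ eqToHom e.symm)
    have hφ' : 𝒳.p.IsHomLift (𝒴.p.map f') φ :=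
      (IsHomLift.lift_comp_eqToHom_iff 𝒳.p (𝒴.p.map f') φ e.symm).mp hφ
    have hGf : 𝒮.p.IsStronglyCartesian (𝒴.p.map f') (G.map f') :=
      sc_of_isHomLift 𝒮.p (𝒴.p.map f') (G.map f') (h𝒮.isStronglyCartesian (G.map f'))
    have hcomp : 𝒮.p.IsHomLift (𝒴.p.map f') (F.map φ ≫ θ.hom) := inferInstance
    let θ' : F.obj x' ⟶ G.obj y' :=
      IsStronglyCartesian.map 𝒮.p (𝒴.p.map f') (G.map f') (g := 𝟙 (𝒴.p.obj y'))
        (f' := 𝒴.p.map f') (Category.id_comp _).symm (F.map φ ≫ θ.hom)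
    have hθ'1 : 𝒮.p.IsHomLift (𝟙 (𝒴.p.obj y')) θ' :=
      IsStronglyCartesian.map_isHomLift 𝒮.p (𝒴.p.map f') (G.map f') (Category.id_comp _).symm _
    have hθ'2 : θ' ≫ G.map f' = F.map φ ≫ θ.hom :=
      IsStronglyCartesian.fac 𝒮.p (𝒴.p.map f') (G.map f') (Category.id_comp _).symm _
    haveI : IsIso θ' := isIso_of_isHomLift_id 𝒮.p h𝒮 θ' (𝒴.p.obj y')
    have e' : 𝒴.p.obj y' = 𝒳.p.obj x' := (IsHomLift.domain_eq 𝒳.p (𝒴.p.map f') φ).symm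
    have hθ'3 : 𝒮.p.IsHomLift (𝟙 (𝒳.p.obj x')) θ' := isHomLift_id_of_eq 𝒮.p e' θ'
    let P' : (fp F G).obj := ⟨⟨x', y', asIso θ'⟩, hθ'3⟩
    let Φ : P' ⟶ P := ObjectProperty.homMk ⟨φ, f', hθ'2.symm⟩
    refine ⟨P', Φ, ?_⟩
    exact Functor.IsHomLift.map (p := (fpSnd F G).toFunctor) Φ
  · intro P' P Φ
    let q := (fpSnd F G).toFunctor
    refine { toIsHomLift := inferInstance, universal_property' := ?_ }
    intro P'' g Ψ hΨ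
    let f : P'.obj.snd ⟶ P.obj.snd := Φ.hom.snd
    let g' : P''.obj.snd ⟶ P'.obj.snd := g
    have hΨ1 : g' ≫ f = Ψ.hom.snd := IsHomLift.eq_of_isHomLift q (g ≫ q.map Φ) Ψ
    have hΦs : 𝒳.p.IsHomLift (𝒴.p.map f) Φ.hom.fst := fst_isHomLift F G Φ
    have hΨs : 𝒳.p.IsHomLift (𝒴.p.map Ψ.hom.snd) Ψ.hom.fst := fst_isHomLift F G Ψ
    have hsc : 𝒳.p.IsStronglyCartesian (𝒴.p.map f) Φ.hom.fst :=
      sc_of_isHomLift 𝒳.p (𝒴.p.map f) Φ.hom.fst (h𝒳.isStronglyCartesian Φ.hom.fst)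
    have hbase : 𝒴.p.map Ψ.hom.snd = 𝒴.p.map g' ≫ 𝒴.p.map f := by
      rw [← hΨ1, Functor.map_comp]
    let χ : P''.obj.fst ⟶ P'.obj.fst :=
      IsStronglyCartesian.map 𝒳.p (𝒴.p.map f) Φ.hom.fst hbase Ψ.hom.fst
    have hχ1 : 𝒳.p.IsHomLift (𝒴.p.map g') χ :=
      IsStronglyCartesian.map_isHomLift 𝒳.p (𝒴.p.map f) Φ.hom.fst hbase Ψ.hom.fst
    have hχ2 : χ ≫ Φ.hom.fst = Ψ.hom.fst :=
      IsStronglyCartesian.fac 𝒳.p (𝒴.p.map f) Φ.hom.fst hbase Ψ.hom.fst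
    have hP' : 𝒮.p.IsHomLift (𝟙 (𝒴.p.obj P'.obj.snd)) P'.obj.iso.hom := obj_iso_isHomLift_snd F G P'
    have hP'' : 𝒮.p.IsHomLift (𝟙 (𝒴.p.obj P''.obj.snd)) P''.obj.iso.hom :=
      obj_iso_isHomLift_snd F G P''
    have hGΦ : 𝒮.p.IsStronglyCartesian (𝒴.p.map f) (G.map f) :=
      sc_of_isHomLift 𝒮.p (𝒴.p.map f) (G.map f) (h𝒮.isStronglyCartesian (G.map f))
    have hw : F.map χ ≫ P'.obj.iso.hom = P''.obj.iso.hom ≫ G.map g' := by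
      have i1 : 𝒮.p.IsHomLift (𝒴.p.map g') (F.map χ ≫ P'.obj.iso.hom) := inferInstance
      have i2 : 𝒮.p.IsHomLift (𝒴.p.map g') (P''.obj.iso.hom ≫ G.map g') := inferInstance
      apply IsStronglyCartesian.ext 𝒮.p (𝒴.p.map f) (G.map f) (𝒴.p.map g')
      rw [Category.assoc, Category.assoc, ← G.map_comp, hΨ1]
      have w1 : F.map Φ.hom.fst ≫ P.obj.iso.hom = P'.obj.iso.hom ≫ G.map f := Φ.hom.w
      have w2 := Ψ.hom.w
      rw [← w2, ← hχ2, F.map_comp, Category.assoc]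
      congr 1
      exact w1.symm
    let X : P'' ⟶ P' := ObjectProperty.homMk ⟨χ, g', hw⟩
    refine ⟨X, ⟨?_, ?_⟩, ?_⟩
    · exact Functor.IsHomLift.map (p := q) X
    · apply ObjectProperty.hom_ext
      apply CategoricalPullback.hom_ext
      · exact hχ2
      · exact hΨ1
    · rintro X' ⟨hX'1, hX'2⟩
      have h1 : g' = X'.hom.snd := IsHomLift.eq_of_isHomLift q g X'
      have h2 : X'.hom.fst ≫ Φ.hom.fst = Ψ.hom.fst := by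
        have := congrArg (fun k => k.hom.fst) hX'2
        exact this
      have h3 : 𝒳.p.IsHomLift (𝒴.p.map g') X'.hom.fst := by
        rw [h1]; exact fst_isHomLift F G X'
      have h4 : X'.hom.fst = χ :=
        IsStronglyCartesian.map_uniq 𝒳.p (𝒴.p.map f) Φ.hom.fst hbase Ψ.hom.fst X'.hom.fst h2
      apply ObjectProperty.hom_ext
      apply CategoricalPullback.hom_ext
      · exact h4
      · exact h1.symm

end Groth.Agent.Lib.Helper45
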