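import Groth.Agent.Lib.Helper45.FittingSplit
import Groth.Prelude.Def_BlowUp2
import Groth.Prelude.Def_FlatCA

/-!
# The affine blow-up algebra and strict transforms (helper45)

* `BlowupAlg.algebraMap_mem_nonZeroDivisors` : `a` is a nonzerodivisor in (a copy of) `R[I/a]`.
* `BlowupAlg.map_eq_span` : `I · R[I/a] = (a)` for `a ∈ I`.
* `mem_powTorsion` : membership in `FlatCA.powTorsion`.
* `mem_Rel_mkQ_powTorsion` : relations in the quotient by the `a`-power torsion.
* `fitt_le_of_surjective` : Fitting ideals grow along surjections.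
* `fitt_quot_powTorsion_eq_top`, `fitt_quot_powTorsion_eq_bot`.
-/

namespace Groth.Agent.Lib.Helper45

open Fitting

universe u v

namespace BlowupAlg

variable {R : Type u} [CommRing R] (I : Ideal R) (a : R)
  {R₁ : Type u} [CommRing R₁] [Algebra R R₁] (e : R₁ ≃ₐ[R] ↥(BlowUp.affineAlgebra R I a))

include e in
/-- `a` is a nonzerodivisor in the affine blow-up algebra -/
theorem algebraMap_mem_nonZeroDivisors : algebraMap R R₁ a ∈ nonZeroDivisors R₁ := by
  rw [mem_nonZeroDivisors_iff_right]
  intro q hq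
  have h1 : e (q * algebraMap R R₁ a) = 0 := by rw [hq, map_zero]
  rw [map_mul, AlgEquiv.commutes] at h1
  have h2 : ((e q : ↥(BlowUp.affineAlgebra R I a)) : Localization.Away a) * algebraMap R (Localization.Away a) a = 0 := by
    have := congrArg (Subtype.val) h1
    simpa using this
  have hu : IsUnit (algebraMap R (Localization.Away a) a) :=
    IsLocalization.map_units (Localization.Away a) (⟨a, Submonoid.mem_powers a⟩ : Submonoid.powers a)
  have h3 : ((e q : ↥(BlowUp.affineAlgebra R I a)) : Localization.Away a) = 0 := (hu.mul_left_eq_zero).mp h2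
  have h4 : e q = 0 := Subtype.ext h3
  exact (map_eq_zero_iff e e.injective).mp h4

include e in
/-- `I · R[I/a] = (a)` -/
theorem map_eq_span (ha : a ∈ I) : I.map (algebraMap R R₁) = Ideal.span {algebraMap R R₁ a} := by
  apply le_antisymm
  · rw [Ideal.map_le_iff_le_comap]
    intro x hx
    rw [Ideal.mem_comap, Ideal.mem_span_singleton']
    have hmem : IsLocalization.mk' (Localization.Away a) x (⟨a, Submonoid.mem_powers a⟩ : Submonoid.powers a) ∈
        BlowUp.affineAlgebra R I a := Algebra.subset_adjoin ⟨x, hx, rfl⟩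
    refine ⟨e.symm ⟨_, hmem⟩, ?_⟩
    apply e.injective
    rw [map_mul, AlgEquiv.apply_symm_apply, AlgEquiv.commutes, AlgEquiv.commutes]
    apply Subtype.ext
    simp only [Subalgebra.coe_mul, Subalgebra.coe_algebraMap]
    rw [mul_comm]
    exact IsLocalization.mk'_spec' (Localization.Away a) x (⟨a, Submonoid.mem_powers a⟩ : Submonoid.powers a)
  · rw [Ideal.span_le, Set.singleton_subset_iff]
    exact Ideal.mem_map_of_mem _ ha

end BlowupAlg


namespace Fitting

section General

variable {S : Type u} [CommRing S] {N : Type v} [AddCommGroup N] [Module S N]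

/-- Fitting ideals grow along surjections. -/
theorem fitt_le_of_surjective {N' : Type*} [AddCommGroup N'] [Module S N'] (φ : N →ₗ[S] N')
    (hφ : Function.Surjective φ) (k : ℕ) : Fitt.ideal S N k ≤ Fitt.ideal S N' k := by
  rw [Fitt.ideal, Ideal.span_le]
  rintro d ⟨n, x, a, hx, ha, rfl⟩
  refine Ideal.subset_span ⟨n, φ ∘ x, a, ?_, ?_, rfl⟩
  · rw [Set.range_comp, ← Submodule.map_span, hx, Submodule.map_top, LinearMap.range_eq_top]
    exact hφ
  · intro i hi
    have := congrArg φ (ha i hi)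
    simpa using this

/-- if `Fitt_k N = (g)` with `g` a nonzerodivisor, then `Fitt_i (N ⧸ T) = ⊤` for `i ≥ k` and any `T ⊇ ker g`. -/
theorem fitt_quot_eq_top_of_ker_le [Module.Finite S N] (k : ℕ) (g : S) (hg : g ∈ nonZeroDivisors S)
    (hk : Fitt.ideal S N k = Ideal.span {g}) (T : Submodule S N)
    (hT : LinearMap.ker (g • (LinearMap.id : N →ₗ[S] N)) ≤ T) (i : ℕ) (hi : k ≤ i) :
    Fitt.ideal S (N ⧸ T) i = ⊤ := by
  obtain ⟨n₀, x₀, hx₀⟩ := Module.Finite.exists_fin (R := S) (M := N)
  let x : Fin (n₀ + k) → N := Fin.append x₀ (fun _ => 0)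
  have hx : Submodule.span S (Set.range x) = ⊤ := by
    rw [eq_top_iff, ← hx₀]
    apply Submodule.span_mono
    rintro _ ⟨i, rfl⟩
    exact ⟨Fin.castAdd k i, by simp [x]⟩
  set K := Rel S x with hK
  have hMin : Min (K : Set (Fin (n₀ + k) → S)) n₀ = Ideal.span {g} := by
    rw [← hk, fitt_eq_Min x hx k, Nat.add_sub_cancel]
  set π := (LinearMap.ker (g • (LinearMap.id : N →ₗ[S] N))).mkQ with hπ
  have hxq : Submodule.span S (Set.range (π ∘ x)) = ⊤ := by
    rw [Set.range_comp, ← Submodule.map_span, hx, Submodule.map_top, LinearMap.range_eq_top]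
    exact Submodule.mkQ_surjective _
  set Kf := Rel S (π ∘ x) with hKf
  have h2 : Min (Kf : Set (Fin (n₀ + k) → S)) n₀ = ⊤ := by
    have hC := span_cofactor_eq_top _ g hg hMin
    have hCpow := Ideal.span_pow_eq_top _ hC n₀
    rw [eq_top_iff, ← hCpow, Ideal.span_le]
    rintro _ ⟨c, ⟨z, e, hz, hd⟩, rfl⟩
    have hmem : ∀ a i, minor z (Function.update e a i) ∈ Ideal.span {g} := by
      intro a i
      rw [← hMin]
      exact minor_mem_Min _ _ hz
    choose w hw using fun a i => Ideal.mem_span_singleton'.mp (hmem a i)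
    have hwK : ∀ a, w a ∈ Kf := by
      intro a
      rw [hKf, mem_Rel_mkQ_ker_smul, mem_Rel]
      have := cramer_sum_eq_zero x z hz e a
      simp only [Pi.smul_apply, smul_eq_mul]
      simp_rw [mul_comm g, hw]
      exact this
    have hwe : ∀ a a', w a (e a') = if a' = a then c else 0 := by
      intro a a'
      apply (mul_cancel_right_mem_nonZeroDivisors hg).mp
      rw [hw]
      split_ifs with h
      · subst h
        rw [minor_update_self, hd]
      · rw [minor_update_of_ne z e h, zero_mul]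
    have hdet : minor w e = c ^ n₀ := by
      have : (Matrix.of fun a' a => w a (e a')) = Matrix.diagonal (fun _ : Fin n₀ => c) := by
        ext a' a
        simp [hwe, Matrix.diagonal_apply]
      rw [minor, this, Matrix.det_diagonal, Finset.prod_const, Finset.card_univ, Fintype.card_fin]
    change c ^ n₀ ∈ _
    rw [← hdet]
    exact minor_mem_Min _ _ hwK
  have h3 : Fitt.ideal S (N ⧸ LinearMap.ker (g • (LinearMap.id : N →ₗ[S] N))) i = ⊤ := by
    rw [fitt_eq_Min (π ∘ x) hxq i, eq_top_iff, ← h2]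
    exact Min_antitone _ (by omega)
  have hsurj : Function.Surjective (Submodule.mapQ _ T LinearMap.id hT) := by
    intro q
    obtain ⟨v, rfl⟩ := Submodule.Quotient.mk_surjective _ q
    exact ⟨Submodule.Quotient.mk v, by simp⟩
  rw [eq_top_iff, ← h3]
  exact fitt_le_of_surjective _ hsurj i

end General

section Strict

variable {S : Type u} [CommRing S] (x : S) {N : Type u} [AddCommGroup N] [Module S N]

lemma mem_powTorsion (v : N) : v ∈ FlatCA.powTorsion S x N ↔ ∃ m : ℕ, x ^ m • v = 0 := by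
  rw [FlatCA.powTorsion, Submodule.mem_iSup_of_directed]
  · simp only [Submodule.mem_torsionBy_iff]
  · apply Monotone.directed_le
    intro m m' hmm' v hv
    rw [Submodule.mem_torsionBy_iff] at hv ⊢
    obtain ⟨t, rfl⟩ := Nat.exists_eq_add_of_le hmm'
    rw [pow_add, mul_comm, mul_smul, hv, smul_zero]

lemma mem_Rel_mkQ_powTorsion {n : ℕ} (y : Fin n → N) (v : Fin n → S) :
    v ∈ Rel S ((FlatCA.powTorsion S x N).mkQ ∘ y) ↔ ∃ m : ℕ, x ^ m • v ∈ Rel S y := by
  rw [mem_Rel]
  have h1 : ∑ i, v i • ((FlatCA.powTorsion S x N).mkQ ∘ y) i = (FlatCA.powTorsion S x N).mkQ (∑ i, v i • y i) := by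
    simp only [Function.comp_apply, map_sum, map_smul]
  rw [h1, Submodule.mkQ_apply, Submodule.Quotient.mk_eq_zero, mem_powTorsion]
  apply exists_congr
  intro m
  rw [mem_Rel, Finset.smul_sum]
  simp only [smul_smul, Pi.smul_apply, smul_eq_mul]

/-- strict transform: `Fitt_i = ⊤` for `i ≥ k` when `Fitt_k N = (x)` -/
theorem fitt_quot_powTorsion_eq_top [Module.Finite S N] (k : ℕ) (hx : x ∈ nonZeroDivisors S)
    (hk : Fitt.ideal S N k = Ideal.span {x}) (i : ℕ) (hi : k ≤ i) :
    Fitt.ideal S (N ⧸ FlatCA.powTorsion S x N) i = ⊤ := by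
  apply fitt_quot_eq_top_of_ker_le k x hx hk _ _ i hi
  intro v hv
  rw [mem_powTorsion]
  exact ⟨1, by simpa using hv⟩

/-- strict transform: `Fitt_i = ⊥` when `Fitt_i N` is `x`-power torsion -/
theorem fitt_quot_powTorsion_eq_bot [Module.Finite S N] (i : ℕ) (hx : x ∈ nonZeroDivisors S)
    (hkill : ∀ d ∈ Fitt.ideal S N i, ∃ m : ℕ, x ^ m * d = 0) :
    Fitt.ideal S (N ⧸ FlatCA.powTorsion S x N) i = ⊥ := by
  obtain ⟨n, y, hy⟩ := Module.Finite.exists_fin (R := S) (M := N)
  have hyq : Submodule.span S (Set.range ((FlatCA.powTorsion S x N).mkQ ∘ y)) = ⊤ := by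
    rw [Set.range_comp, ← Submodule.map_span, hy, Submodule.map_top, LinearMap.range_eq_top]
    exact Submodule.mkQ_surjective _
  rw [fitt_eq_Min _ hyq i, eq_bot_iff, Min, Ideal.span_le]
  rintro d ⟨z, e, hz, rfl⟩
  choose m hm using fun b => (mem_Rel_mkQ_powTorsion x y (z b)).mp (hz b)
  -- common exponent
  let m₀ := Finset.univ.sup m
  have hm₀ : ∀ b, x ^ m₀ • z b ∈ Rel S y := by
    intro b
    have hle : m b ≤ m₀ := Finset.le_sup (f := m) (Finset.mem_univ b)
    obtain ⟨t, ht⟩ := Nat.exists_eq_add_of_le hle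
    rw [ht, pow_add, mul_comm, mul_smul]
    exact Submodule.smul_mem _ _ (hm b)
  have hmem : minor (fun b => x ^ m₀ • z b) e ∈ Fitt.ideal S N i := by
    rw [fitt_eq_Min y hy i]
    exact minor_mem_Min _ _ hm₀
  obtain ⟨m', hm'⟩ := hkill _ hmem
  rw [minor_smul, ← mul_assoc] at hm'
  rw [SetLike.mem_coe, Ideal.mem_bot]
  exact (mul_left_mem_nonZeroDivisors_eq_zero_iff (mul_mem (pow_mem hx _) (pow_mem (pow_mem hx _) _))).mp
    (by rwa [mul_comm] at hm')

end Strict


section Kill

variable {R : Type u} [CommRing R]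

/-- an element which is locally zero on `D(a)` is killed by a power of `a` -/
lemma exists_pow_mul_eq_zero_of_forall_prime (a d : R)
    (h : ∀ (p : Ideal R) [p.IsPrime], a ∉ p → ∃ s : R, s ∉ p ∧ s * d = 0) : ∃ m : ℕ, a ^ m * d = 0 := by
  have hrad : a ∈ ((Ideal.span {d}).annihilator).radical := by
    rw [Ideal.radical_eq_sInf, Ideal.mem_sInf]
    rintro p ⟨hle, hp⟩
    by_contra hap
    obtain ⟨s, hs, hsd⟩ := h p hap
    apply hs
    apply hle
    rw [Submodule.mem_annihilator]
    intro y hy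
    obtain ⟨c, rfl⟩ := Ideal.mem_span_singleton'.mp hy
    rw [smul_eq_mul, mul_left_comm, hsd, mul_zero]
  obtain ⟨m, hm⟩ := hrad
  refine ⟨m, ?_⟩
  have := Submodule.mem_annihilator.mp hm d (Ideal.mem_span_singleton_self d)
  simpa using this

/-- elements of a mapped ideal are killed by a power of `x` when the generators are -/
lemma exists_pow_mul_eq_zero_of_mem_map {S : Type*} [CommRing S] (φ : R →+* S) (I : Ideal R) (a : R)
    (h : ∀ d ∈ I, ∃ m : ℕ, a ^ m * d = 0) (d' : S) (hd' : d' ∈ I.map φ) : ∃ m : ℕ, φ a ^ m * d' = 0 := by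
  rw [Ideal.map] at hd'
  induction hd' using Submodule.span_induction with
  | mem d' hd =>
    obtain ⟨d, hd, rfl⟩ := hd
    obtain ⟨m, hm⟩ := h d hd
    exact ⟨m, by rw [← map_pow, ← map_mul, hm, map_zero]⟩
  | zero => exact ⟨0, by simp⟩
  | add u v _ _ hu hv =>
    obtain ⟨m, hm⟩ := hu
    obtain ⟨m', hm'⟩ := hv
    refine ⟨m + m', ?_⟩
    have e1 : φ a ^ (m + m') * u = φ a ^ m' * (φ a ^ m * u) := by ring
    have e2 : φ a ^ (m + m') * v = φ a ^ m * (φ a ^ m' * v) := by ring
    rw [mul_add, e1, e2, hm, hm', mul_zero, mul_zero, add_zero]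
  | smul c u _ hu =>
    obtain ⟨m, hm⟩ := hu
    exact ⟨m, by rw [smul_eq_mul, mul_left_comm, hm, mul_zero]⟩

/-- if `M_p` is free of rank `k` on `D(a)`, the lower Fitting ideals are `a`-power torsion -/
lemma exists_pow_mul_eq_zero_of_free {M : Type v} [AddCommGroup M] [Module R M] [Module.Finite R M] (k : ℕ) (a : R)
    (hfree : ∀ (p : Ideal R) [p.IsPrime], a ∉ p →
      Module.Free (Localization.AtPrime p) (LocalizedModule p.primeCompl M) ∧
        Module.finrank (Localization.AtPrime p) (LocalizedModule p.primeCompl M) = k)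
    (i : ℕ) (hi : i < k) (d : R) (hd : d ∈ Fitt.ideal R M i) : ∃ m : ℕ, a ^ m * d = 0 := by
  apply exists_pow_mul_eq_zero_of_forall_prime
  intro p _ hap
  obtain ⟨hfr, hrk⟩ := hfree p hap
  let b := Module.finBasisOfFinrankEq (Localization.AtPrime p) (LocalizedModule p.primeCompl M) hrk
  have h1 := (fitt_of_basis b i).1 hi
  rw [fitt_localizedModule] at h1
  have h2 : algebraMap R (Localization.AtPrime p) d = 0 := by
    have : algebraMap R (Localization.AtPrime p) d ∈ (Fitt.ideal R M i).map (algebraMap R (Localization.AtPrime p)) :=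
      Ideal.mem_map_of_mem _ hd
    rwa [h1, Ideal.mem_bot] at this
  obtain ⟨⟨s, hs⟩, hsd⟩ := (IsLocalization.map_eq_zero_iff p.primeCompl (Localization.AtPrime p) d).mp h2
  exact ⟨s, hs, hsd⟩

end Kill


section LocFree

variable {R : Type u} [CommRing R]

/-- minors of a finite set of vectors generate a finitely generated ideal -/
lemma Min_fg {n : ℕ} (G : Set (Fin n → R)) (hG : G.Finite) (j : ℕ) : (Min G j).FG := by
  have hfin : {d | ∃ (z : Fin j → (Fin n → R)) (e : Fin j → Fin n), (∀ b, z b ∈ G) ∧ d = minor z e}.Finite := by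
    have h1 : (Set.univ.pi (fun _ : Fin j => G)).Finite := Set.Finite.pi (fun _ => hG)
    have h2 : ((Set.univ.pi (fun _ : Fin j => G)) ×ˢ (Set.univ : Set (Fin j → Fin n))).Finite :=
      h1.prod Set.finite_univ
    refine (h2.image (fun p => minor p.1 p.2)).subset ?_
    rintro d ⟨z, e, hz, rfl⟩
    exact ⟨(z, e), ⟨fun b _ => hz b, Set.mem_univ _⟩, rfl⟩
  exact Submodule.fg_span hfin

lemma nontrivial_away_of_notMem_prime (g : R) (p : Ideal R) [p.IsPrime] (hg : g ∉ p) :
    Nontrivial (Localization.Away g) := by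
  by_contra hnt
  rw [not_nontrivial_iff_subsingleton] at hnt
  have h0 : algebraMap R (Localization.Away g) 1 = 0 := Subsingleton.elim _ _
  obtain ⟨⟨_, t, rfl⟩, ht⟩ := (IsLocalization.map_eq_zero_iff (Submonoid.powers g) (Localization.Away g) 1).mp h0
  simp only [mul_one] at ht
  exact hg (Ideal.IsPrime.mem_of_pow_mem inferInstance t (ht ▸ p.zero_mem))

variable {M : Type v} [AddCommGroup M] [Module R M] [Module.Finite R M]

/-- if `M` is locally free of rank `r` on `D(f)`, the lower Fitting ideals are `f`-power torsion -/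
lemma exists_pow_mul_eq_zero_of_locally_free (f : R) (r : ℕ)
    (hf : ∀ (p : Ideal R) [p.IsPrime], f ∉ p → ∃ g : R, g ∉ p ∧
      Module.Free (Localization.Away g) (LocalizedModule (Submonoid.powers g) M) ∧
        Module.finrank (Localization.Away g) (LocalizedModule (Submonoid.powers g) M) = r)
    (i : ℕ) (hi : i < r) (d : R) (hd : d ∈ Fitt.ideal R M i) : ∃ m : ℕ, f ^ m * d = 0 := by
  apply exists_pow_mul_eq_zero_of_forall_prime
  intro p _ hfp
  obtain ⟨g, hg, hfr, hrk⟩ := hf p hfp
  have hnt := nontrivial_away_of_notMem_prime g p hg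
  let b := Module.finBasisOfFinrankEq (Localization.Away g) (LocalizedModule (Submonoid.powers g) M) hrk
  have h1 := (fitt_of_basis b i).1 hi
  rw [fitt_localizedModule] at h1
  have h2 : algebraMap R (Localization.Away g) d = 0 := by
    have : algebraMap R (Localization.Away g) d ∈ (Fitt.ideal R M i).map (algebraMap R (Localization.Away g)) :=
      Ideal.mem_map_of_mem _ hd
    rwa [h1, Ideal.mem_bot] at this
  obtain ⟨⟨_, t, rfl⟩, hsd⟩ := (IsLocalization.map_eq_zero_iff (Submonoid.powers g) (Localization.Away g) d).mp h2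
  exact ⟨g ^ t, fun h => hg (Ideal.IsPrime.mem_of_pow_mem inferInstance t h), hsd⟩

/-- if `M` is locally free of rank `r` on `D(f)`, a power of `f` lies in `Fitt_r M` -/
lemma exists_pow_mem_fitt_of_locally_free (f : R) (r : ℕ)
    (hf : ∀ (p : Ideal R) [p.IsPrime], f ∉ p → ∃ g : R, g ∉ p ∧
      Module.Free (Localization.Away g) (LocalizedModule (Submonoid.powers g) M) ∧
        Module.finrank (Localization.Away g) (LocalizedModule (Submonoid.powers g) M) = r) :
    ∃ m : ℕ, f ^ m ∈ Fitt.ideal R M r := by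
  change f ∈ (Fitt.ideal R M r).radical
  rw [Ideal.radical_eq_sInf, Ideal.mem_sInf]
  rintro p ⟨hle, hp⟩
  by_contra hfp
  obtain ⟨g, hg, hfr, hrk⟩ := hf p hfp
  have hnt := nontrivial_away_of_notMem_prime g p hg
  let b := Module.finBasisOfFinrankEq (Localization.Away g) (LocalizedModule (Submonoid.powers g) M) hrk
  have h1 := (fitt_of_basis b r).2 le_rfl
  rw [fitt_localizedModule] at h1
  have h2 := (not_iff_not.mpr (IsLocalization.map_algebraMap_ne_top_iff_disjoint (Submonoid.powers g)
    (Localization.Away g) (Fitt.ideal R M r))).mp (by rw [not_not]; exact h1)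
  rw [Set.not_disjoint_iff] at h2
  obtain ⟨y, ⟨t, rfl⟩, hy⟩ := h2
  exact hg (Ideal.IsPrime.mem_of_pow_mem inferInstance t (hle hy))

/-- a finite set of relations whose minors already contain a given element of `Min K j` -/
lemma exists_finite_subset_mem_Min {n : ℕ} (K : Set (Fin n → R)) (j : ℕ) (c : R) (hc : c ∈ Min K j) :
    ∃ G : Set (Fin n → R), G.Finite ∧ G ⊆ K ∧ c ∈ Min G j := by
  rw [Min] at hc
  obtain ⟨T, r, g, hsum⟩ := Submodule.mem_span_set'.mp hc
  choose z e hz hd using fun t => (g t).2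
  refine ⟨Set.range (fun tb : Fin T × Fin j => z tb.1 tb.2), Set.finite_range _, ?_, ?_⟩
  · rintro _ ⟨tb, rfl⟩
    exact hz tb.1 tb.2
  · rw [← hsum]
    apply Ideal.sum_mem
    intro t _
    apply Ideal.mul_mem_left
    rw [hd t]
    exact minor_mem_Min _ _ (fun b => ⟨(t, b), rfl⟩)

end LocFree


section StrictTop

open TensorProduct

variable {R : Type u} [CommRing R] {M : Type u} [AddCommGroup M] [Module R M] [Module.Finite R M]
  {R₁ : Type u} [CommRing R₁] [Algebra R R₁]

/-- **Strict transform, top Fitting ideal.** If `(f) * (n₀-minors of G)` becomes the principal ideal `(a)` with `a` a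
nonzerodivisor of `R₁`, where `G` is a set of relations of an `(n₀ + r)`-tuple generating `M`, then the `r`-th Fitting
ideal of the strict transform `(R₁ ⊗ M) / (a-power torsion)` is the unit ideal. -/
theorem fitt_strict_eq_top {n₀ r : ℕ} (x : Fin (n₀ + r) → M) (hx : Submodule.span R (Set.range x) = ⊤)
    (G : Set (Fin (n₀ + r) → R)) (hG : G ⊆ (Rel R x : Set (Fin (n₀ + r) → R))) (f a : R)
    (ha' : algebraMap R R₁ a ∈ nonZeroDivisors R₁)
    (hI : (Ideal.span {f} * Min G n₀).map (algebraMap R R₁) = Ideal.span {algebraMap R R₁ a}) :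
    Fitt.ideal R₁ ((R₁ ⊗[R] M) ⧸ FlatCA.powTorsion R₁ (algebraMap R R₁ a) (R₁ ⊗[R] M)) r = ⊤ := by
  set φ := algebraMap R R₁ with hφ
  set a' := φ a with ha'def
  set T := FlatCA.powTorsion R₁ a' (R₁ ⊗[R] M) with hT
  let y := bcTuple R R₁ x
  have hy : Submodule.span R₁ (Set.range y) = ⊤ := span_bcTuple R₁ x hx
  have hyq : Submodule.span R₁ (Set.range (T.mkQ ∘ y)) = ⊤ := by
    rw [Set.range_comp, ← Submodule.map_span, hy, Submodule.map_top, LinearMap.range_eq_top]
    exact Submodule.mkQ_surjective _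
  -- the generators of the mapped ideal
  let D' : Set R₁ := {d' | ∃ (z : Fin n₀ → (Fin (n₀ + r) → R)) (e : Fin n₀ → Fin (n₀ + r)),
    (∀ b, z b ∈ G) ∧ d' = φ (f * minor z e)}
  have hImem : ∀ (z : Fin n₀ → (Fin (n₀ + r) → R)) (e : Fin n₀ → Fin (n₀ + r)), (∀ b, z b ∈ G) →
      φ (f * minor z e) ∈ Ideal.span {a'} := by
    intro z e hz
    rw [← hI]
    exact Ideal.mem_map_of_mem _ (Ideal.mul_mem_mul (Ideal.mem_span_singleton_self f) (minor_mem_Min z e hz))
  have hD' : Ideal.span D' = Ideal.span {a'} := by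
    apply le_antisymm
    · rw [Ideal.span_le]
      rintro _ ⟨z, e, hz, rfl⟩
      exact hImem z e hz
    · rw [← hI, Ideal.map_le_iff_le_comap, Min, Ideal.span_mul_span', Ideal.span_le]
      rintro _ ⟨f', hf', δ, ⟨z, e, hz, rfl⟩, rfl⟩
      rw [Set.mem_singleton_iff] at hf'
      subst hf'
      exact Ideal.subset_span ⟨z, e, hz, rfl⟩
  have hC := span_cofactor_eq_top D' a' ha' hD'
  rw [← Ideal.radical_eq_top, eq_top_iff, ← hC, Ideal.span_le]
  rintro c ⟨z, e, hz, hd⟩
  refine ⟨n₀, ?_⟩
  -- the base-changed relations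
  have hzK : ∀ b, mapVec R₁ (z b) ∈ Rel R₁ y := by
    intro b
    rw [Rel_bcTuple R₁ x hx]
    exact Submodule.subset_span ⟨z b, hG (hz b), rfl⟩
  have hcoef : ∀ α i, φ f * minor (fun b => mapVec R₁ (z b)) (Function.update e α i) ∈ Ideal.span {a'} := by
    intro α i
    rw [minor_mapVec, ← map_mul]
    exact hImem z _ hz
  choose w hw using fun α i => Ideal.mem_span_singleton'.mp (hcoef α i)
  have hwK : ∀ α, w α ∈ Rel R₁ (T.mkQ ∘ y) := by
    intro α
    rw [mem_Rel_mkQ_powTorsion]
    refine ⟨1, ?_⟩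
    rw [mem_Rel]
    have := cramer_sum_eq_zero y _ hzK e α
    simp only [pow_one, Pi.smul_apply, smul_eq_mul]
    simp_rw [mul_comm a', hw, mul_smul]
    rw [← Finset.smul_sum, this, smul_zero]
  have hwe : ∀ α α', w α (e α') = if α' = α then c else 0 := by
    intro α α'
    apply (mul_cancel_right_mem_nonZeroDivisors ha').mp
    rw [hw]
    split_ifs with h
    · subst h
      rw [minor_update_self, minor_mapVec, ← map_mul, hd]
    · rw [minor_update_of_ne _ e h, mul_zero, zero_mul]
  have hdet : minor w e = c ^ n₀ := by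
    have : (Matrix.of fun α' α => w α (e α')) = Matrix.diagonal (fun _ : Fin n₀ => c) := by
      ext α' α
      simp [hwe, Matrix.diagonal_apply]
    rw [minor, this, Matrix.det_diagonal, Finset.prod_const, Finset.card_univ, Fintype.card_fin]
  rw [fitt_eq_Min (T.mkQ ∘ y) hyq r, Nat.add_sub_cancel, ← hdet]
  exact minor_mem_Min _ _ hwK

end StrictTop

end Fitting

end Groth.Agent.Lib.Helper45
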