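import Mathlib

/-!
# Counting algebra homs from a finite separable reduced algebra into an algebraically closed field
`card_hom_eq_finrank : Nat.card (B →ₐ[K] Ω) = Module.finrank K B`.
-/
open TensorProduct IsLocalRing

set_option linter.style.haveILetI false
set_option linter.unusedSectionVars false

namespace Groth.Agent.Lib.Helper45.CardHom
variable (K B Ω : Type*) [Field K] [CommRing B] [Algebra K B] [Module.Finite K B] [Field Ω] [Algebra K Ω] [IsAlgClosed Ω]

theorem card_hom_quot :
    Nat.card (B →ₐ[K] Ω) = ∑ᶠ m : MaximalSpectrum B, Nat.card ((B ⧸ m.asIdeal) →ₐ[K] Ω) := by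
  classical
  haveI : IsArtinianRing B := IsArtinianRing.of_finite K B
  haveI : Finite (MaximalSpectrum B) := inferInstance
  haveI := Fintype.ofFinite (MaximalSpectrum B)
  have hfinite : ∀ m : MaximalSpectrum B, Finite ((B ⧸ m.asIdeal) →ₐ[K] Ω) := by
    intro m
    haveI := m.isMaximal
    letI := Ideal.Quotient.field m.asIdeal
    infer_instance
  rw [finsum_eq_sum_of_fintype, ← Nat.card_sigma]
  symm
  let F : (Σ m : MaximalSpectrum B, ((B ⧸ m.asIdeal) →ₐ[K] Ω)) →
      (B →ₐ[K] Ω) := fun x => x.2.comp (Ideal.Quotient.mkₐ K x.1.asIdeal)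
  have hker : ∀ x, RingHom.ker (F x) = x.1.asIdeal := by
    rintro ⟨m, φ⟩
    haveI := m.isMaximal
    letI := Ideal.Quotient.field m.asIdeal
    ext b
    rw [RingHom.mem_ker]
    change φ (Ideal.Quotient.mk _ b) = 0 ↔ _
    rw [map_eq_zero_iff φ φ.toRingHom.injective, Ideal.Quotient.eq_zero_iff_mem]
  apply Nat.card_congr
  refine Equiv.ofBijective F ⟨?_, ?_⟩
  · rintro ⟨m, φ⟩ ⟨m', φ'⟩ h
    have hm : m = m' := by
      apply MaximalSpectrum.ext
      rw [← hker ⟨m, φ⟩, ← hker ⟨m', φ'⟩, h]
    subst hm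
    congr 1
    apply AlgHom.ext
    intro y
    obtain ⟨b, rfl⟩ := Ideal.Quotient.mk_surjective y
    exact DFunLike.congr_fun h b
  · intro h
    haveI : (RingHom.ker h).IsPrime := RingHom.ker_isPrime _
    have hmax : (RingHom.ker h).IsMaximal := IsArtinianRing.isMaximal_of_isPrime _
    let m : MaximalSpectrum B := ⟨RingHom.ker h, hmax⟩
    refine ⟨⟨m, Ideal.Quotient.liftₐ _ h (fun a ha => ha)⟩, ?_⟩
    apply AlgHom.ext
    intro b
    rfl

theorem card_hom_eq_finrank [IsReduced B] [Algebra.IsSeparable K B] :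
    Nat.card (B →ₐ[K] Ω) = Module.finrank K B := by
  classical
  haveI : IsArtinianRing B := IsArtinianRing.of_finite K B
  haveI : Finite (MaximalSpectrum B) := inferInstance
  haveI := Fintype.ofFinite (MaximalSpectrum B)
  rw [card_hom_quot K B Ω, finsum_eq_sum_of_fintype]
  have e := ((IsArtinianRing.equivPi B).restrictScalars K).toLinearEquiv.finrank_eq
  rw [e, Module.finrank_pi_fintype]
  apply Finset.sum_congr rfl
  intro m _
  haveI := m.isMaximal
  letI := Ideal.Quotient.field m.asIdeal
  haveI : Algebra.IsSeparable K (B ⧸ m.asIdeal) := by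
    refine ⟨fun y => ?_⟩
    obtain ⟨x, rfl⟩ := Ideal.Quotient.mk_surjective y
    have hx : IsSeparable K x := Algebra.IsSeparable.isSeparable K x
    have hint : IsIntegral K x := Algebra.IsIntegral.isIntegral x
    have : minpoly K (Ideal.Quotient.mk m.asIdeal x) ∣ minpoly K x := by
      apply minpoly.dvd
      have := Polynomial.aeval_algHom_apply (Ideal.Quotient.mkₐ K m.asIdeal) x (minpoly K x)
      rw [minpoly.aeval, map_zero] at this
      exact this
    exact hx.of_dvd this
  rw [← Field.finSepDegree_eq_finrank_of_isSeparable K (B ⧸ m.asIdeal),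
    Field.finSepDegree_eq_of_isAlgClosed K _ Ω]

end Groth.Agent.Lib.Helper45.CardHom
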