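import Mathlib

/-!
# Projectivity of `M ⧸ J M` over `A ⧸ J`, and a coefficientwise membership lemma (helper45)

* `projective_quotient_of_coords` : coordinates `s : M → (ι →₀ A ⧸ J)` reproducing `M ⧸ J M`.
* `projective_quotient_smul_top` : `M` projective over `A` ⇒ `M ⧸ J M` projective over `A ⧸ J`.
* `projective_quotient_smul_top_of_quotient` : `M` projective over `A ⧸ I`, `I ≤ J` ⇒ `M ⧸ J M` projective over `A ⧸ J`.
* `mem_of_smul_mem_smul_top` : if `M` is projective over a quotient `B` of `A`, a property of `ϖ • x ∈ 𝔄 M` can be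
  tested on coefficients.
-/

namespace Groth.Agent.Lib.Helper45.QuotProj

universe u v

variable {A : Type u} [CommRing A]

theorem projective_quotient_of_coords (J : Ideal A) (M : Type v) [AddCommGroup M] [Module A M]
    {ι : Type*} (b : ι → M) (s : M →ₗ[A] (ι →₀ A ⧸ J))
    (hs : ∀ m : M, Finsupp.linearCombination (A ⧸ J)
      (fun i => (J • (⊤ : Submodule A M)).mkQ (b i)) (s m) = (J • (⊤ : Submodule A M)).mkQ m) :
    Module.Projective (A ⧸ J) (M ⧸ J • (⊤ : Submodule A M)) := by
  have hker : J • (⊤ : Submodule A M) ≤ LinearMap.ker s := by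
    rw [Submodule.smul_le]
    intro r hr m _
    rw [LinearMap.mem_ker, map_smul]
    ext i
    rw [Finsupp.smul_apply, Finsupp.zero_apply, Algebra.smul_def, Ideal.Quotient.algebraMap_eq,
      Ideal.Quotient.eq_zero_iff_mem.mpr hr, zero_mul]
  let s₁ : (M ⧸ J • (⊤ : Submodule A M)) →ₗ[A] (ι →₀ A ⧸ J) := (J • (⊤ : Submodule A M)).liftQ s hker
  let s₂ : (M ⧸ J • (⊤ : Submodule A M)) →ₗ[A ⧸ J] (ι →₀ A ⧸ J) :=
    LinearMap.extendScalarsOfSurjective Ideal.Quotient.mk_surjective s₁
  refine Module.Projective.of_split s₂ (Finsupp.linearCombination (A ⧸ J)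
      (fun i => (J • (⊤ : Submodule A M)).mkQ (b i))) ?_
  ext x
  obtain ⟨m, rfl⟩ := Submodule.mkQ_surjective _ x
  simp only [LinearMap.comp_apply, LinearMap.id_apply, s₂, LinearMap.extendScalarsOfSurjective_apply, s₁,
    Submodule.mkQ_apply, Submodule.liftQ_apply]
  exact hs m

theorem projective_quotient_smul_top (J : Ideal A) (M : Type v) [AddCommGroup M] [Module A M]
    [Module.Projective A M] : Module.Projective (A ⧸ J) (M ⧸ J • (⊤ : Submodule A M)) := by
  obtain ⟨s₀, hs₀⟩ := (Module.projective_def' (R := A) (P := M)).mp inferInstance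
  let g : (M →₀ A) →ₗ[A] (M →₀ A ⧸ J) := Finsupp.mapRange.linearMap (Algebra.linearMap A (A ⧸ J))
  refine projective_quotient_of_coords J M id (g ∘ₗ s₀) ?_
  intro m
  have h1 : m = Finsupp.linearCombination A id (s₀ m) := (LinearMap.congr_fun hs₀ m).symm
  conv_rhs => rw [h1]
  rw [LinearMap.comp_apply]
  generalize s₀ m = t
  induction t using Finsupp.induction_linear with
  | zero => simp
  | add x y hx hy => simp only [map_add, hx, hy]
  | single a c =>
    simp only [g, Finsupp.mapRange.linearMap_apply, Finsupp.mapRange_single, Algebra.linearMap_apply,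
      Finsupp.linearCombination_single, id_eq, Ideal.Quotient.algebraMap_eq, map_smul]
    rfl

theorem projective_quotient_smul_top_of_quotient (I J : Ideal A) (hIJ : I ≤ J) (M : Type v) [AddCommGroup M]
    [Module A M] [Module (A ⧸ I) M] [IsScalarTower A (A ⧸ I) M] [Module.Projective (A ⧸ I) M] :
    Module.Projective (A ⧸ J) (M ⧸ J • (⊤ : Submodule A M)) := by
  obtain ⟨s₀, hs₀⟩ := (Module.projective_def' (R := A ⧸ I) (P := M)).mp inferInstance
  let fac : (A ⧸ I) →ₗ[A] (A ⧸ J) := (Ideal.Quotient.factorₐ A hIJ).toLinearMap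
  have hfac : ∀ a : A, fac (Ideal.Quotient.mk I a) = Ideal.Quotient.mk J a := fun a => rfl
  let g : (M →₀ A ⧸ I) →ₗ[A] (M →₀ A ⧸ J) := Finsupp.mapRange.linearMap fac
  refine projective_quotient_of_coords J M id (g ∘ₗ (s₀.restrictScalars A)) ?_
  intro m
  have h1 : m = Finsupp.linearCombination (A ⧸ I) id (s₀ m) := (LinearMap.congr_fun hs₀ m).symm
  conv_rhs => rw [h1]
  rw [LinearMap.comp_apply, LinearMap.restrictScalars_apply]
  generalize s₀ m = t
  induction t using Finsupp.induction_linear with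
  | zero => simp
  | add x y hx hy => simp only [map_add, hx, hy]
  | single a c =>
    obtain ⟨c, rfl⟩ := Ideal.Quotient.mk_surjective c
    simp only [g, Finsupp.mapRange.linearMap_apply, Finsupp.mapRange_single, hfac,
      Finsupp.linearCombination_single, id_eq]
    have : (Ideal.Quotient.mk I c) • a = c • a := by
      rw [← Ideal.Quotient.algebraMap_eq, algebraMap_smul]
    rw [this, map_smul]
    rfl

/-- coefficientwise test -/
theorem mem_of_smul_mem_smul_top {B : Type*} [CommRing B] [Algebra A B]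
    (M : Type v) [AddCommGroup M] [Module A M] [Module B M] [IsScalarTower A B M] [Module.Projective B M]
    (𝔄 : Ideal A) (T : Submodule A M) (ϖ : A)
    (hc : ∀ c : B, algebraMap A B ϖ * c ∈ 𝔄.map (algebraMap A B) → ∀ m : M, c • m ∈ T)
    (x : M) (hx : ϖ • x ∈ 𝔄 • (⊤ : Submodule A M)) : x ∈ T := by
  obtain ⟨s₀, hs₀⟩ := (Module.projective_def' (R := B) (P := M)).mp inferInstance
  have h1 : ∀ y ∈ 𝔄 • (⊤ : Submodule A M), ∀ a, s₀ y a ∈ 𝔄.map (algebraMap A B) := by
    intro y hy
    refine Submodule.smul_induction_on hy ?_ ?_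
    · intro r hr m _ a
      rw [← algebraMap_smul B r m, map_smul, Finsupp.smul_apply, smul_eq_mul]
      exact Ideal.mul_mem_right _ _ (Ideal.mem_map_of_mem _ hr)
    · intro y y' hy hy' a
      rw [map_add, Finsupp.add_apply]
      exact Ideal.add_mem _ (hy a) (hy' a)
  have h2 : ∀ a, algebraMap A B ϖ * s₀ x a ∈ 𝔄.map (algebraMap A B) := by
    intro a
    have := h1 _ hx a
    rwa [← algebraMap_smul B ϖ x, map_smul, Finsupp.smul_apply, smul_eq_mul] at this
  have h3 : x = Finsupp.linearCombination B id (s₀ x) := (LinearMap.congr_fun hs₀ x).symm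
  rw [h3, Finsupp.linearCombination_apply, Finsupp.sum]
  exact Submodule.sum_mem _ fun a _ => hc _ (h2 a) a

end Groth.Agent.Lib.Helper45.QuotProj
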