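import Mathlib

/-!
# The ideal `W(𝔫) ⊆ W(k)` of Witt vectors with coefficients in a prime ideal `𝔫` (helper45)

`k` perfect of characteristic `p`.
* `wittIdeal 𝔫 = ker (W(k) → W(k/𝔫))`, `mem_wittIdeal_iff` (coefficientwise).
* stable under Frobenius and its inverse (for `𝔫` prime), `p`-saturated.
* `primeBelow 𝔐 = constantCoeff(𝔐)`; for a prime `𝔐 ∋ p` of `W(k)`:
  `wittIdeal (primeBelow 𝔐) ≤ 𝔐 ≤ wittIdeal (primeBelow 𝔐) ⊔ (p)`.
-/

namespace Groth.Agent.Lib.Helper45.WittIdeal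

open WittVector

universe u

variable (p : ℕ) [hp : Fact p.Prime] {k : Type u} [CommRing k]

/-- Witt vectors with all coefficients in `𝔫` -/
noncomputable def wittIdeal (𝔫 : Ideal k) : Ideal (WittVector p k) :=
  RingHom.ker (WittVector.map (Ideal.Quotient.mk 𝔫) : WittVector p k →+* WittVector p (k ⧸ 𝔫))

variable {p}

lemma mem_wittIdeal_iff (𝔫 : Ideal k) (x : WittVector p k) :
    x ∈ wittIdeal p 𝔫 ↔ ∀ i, x.coeff i ∈ 𝔫 := by
  rw [wittIdeal, RingHom.mem_ker, WittVector.ext_iff]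
  refine forall_congr' fun i => ?_
  rw [WittVector.map_coeff, WittVector.zero_coeff, Ideal.Quotient.eq_zero_iff_mem]

variable [CharP k p]

lemma frobenius_mem_wittIdeal_iff (𝔫 : Ideal k) [𝔫.IsPrime] (x : WittVector p k) :
    WittVector.frobenius x ∈ wittIdeal p 𝔫 ↔ x ∈ wittIdeal p 𝔫 := by
  rw [mem_wittIdeal_iff, mem_wittIdeal_iff]
  refine forall_congr' fun i => ?_
  rw [WittVector.coeff_frobenius_charP]
  exact Ideal.IsPrime.pow_mem_iff_mem ‹_› p hp.out.pos

lemma mem_wittIdeal_of_mul_p_mem (𝔫 : Ideal k) [𝔫.IsPrime] (x : WittVector p k)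
    (h : x * (p : WittVector p k) ∈ wittIdeal p 𝔫) : x ∈ wittIdeal p 𝔫 := by
  rw [mem_wittIdeal_iff] at h ⊢
  intro i
  have := h (i + 1)
  rw [WittVector.mul_charP_coeff_succ] at this
  exact (Ideal.IsPrime.pow_mem_iff_mem ‹_› p hp.out.pos).mp this

lemma mem_wittIdeal_of_p_mul_mem (𝔫 : Ideal k) [𝔫.IsPrime] (x : WittVector p k)
    (h : (p : WittVector p k) * x ∈ wittIdeal p 𝔫) : x ∈ wittIdeal p 𝔫 :=
  mem_wittIdeal_of_mul_p_mem 𝔫 x (by rwa [mul_comm])

lemma teichmuller_mem_wittIdeal (𝔫 : Ideal k) {a : k} (ha : a ∈ 𝔫) :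
    WittVector.teichmuller p a ∈ wittIdeal p 𝔫 := by
  rw [mem_wittIdeal_iff]
  intro i
  rcases Nat.eq_zero_or_pos i with rfl | hi
  · rwa [WittVector.teichmuller_coeff_zero]
  · rw [WittVector.teichmuller_coeff_pos p a i hi]; exact 𝔫.zero_mem

variable [PerfectRing k p]

lemma frobeniusEquiv_symm_mem_wittIdeal_iff (𝔫 : Ideal k) [𝔫.IsPrime] (x : WittVector p k) :
    (WittVector.frobeniusEquiv p k).symm x ∈ wittIdeal p 𝔫 ↔ x ∈ wittIdeal p 𝔫 := by
  rw [← frobenius_mem_wittIdeal_iff 𝔫 ((WittVector.frobeniusEquiv p k).symm x)]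
  have : WittVector.frobenius ((WittVector.frobeniusEquiv p k).symm x) = x := by
    rw [← WittVector.frobeniusEquiv_apply, RingEquiv.apply_symm_apply]
  rw [this]

variable (p) in
/-- the prime of `k` below a prime of `W(k)` containing `p` -/
noncomputable def primeBelow (𝔐 : Ideal (WittVector p k)) : Ideal k :=
  Ideal.map (WittVector.constantCoeff : WittVector p k →+* k) 𝔐

lemma primeBelow_isPrime (𝔐 : Ideal (WittVector p k)) [𝔐.IsPrime] (hpM : (p : WittVector p k) ∈ 𝔐) :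
    (primeBelow p 𝔐).IsPrime := by
  apply Ideal.map_isPrime_of_surjective (WittVector.constantCoeff_surjective p)
  rw [WittVector.ker_constantCoeff, Ideal.span_singleton_le_iff_mem]
  exact hpM

lemma mem_primeBelow_iff (𝔐 : Ideal (WittVector p k)) (a : k) :
    a ∈ primeBelow p 𝔐 ↔ ∃ x ∈ 𝔐, x.coeff 0 = a := by
  rw [primeBelow, Ideal.mem_map_iff_of_surjective _ (WittVector.constantCoeff_surjective p)]
  rfl

lemma wittIdeal_primeBelow_le (𝔐 : Ideal (WittVector p k)) (hpM : (p : WittVector p k) ∈ 𝔐) :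
    wittIdeal p (primeBelow p 𝔐) ≤ 𝔐 := by
  intro x hx
  have h0 := (mem_wittIdeal_iff _ x).mp hx 0
  obtain ⟨z, hz, hz0⟩ := (mem_primeBelow_iff 𝔐 _).mp h0
  have h1 : (x - z) ∈ Ideal.span {(p : WittVector p k)} := by
    rw [WittVector.mem_span_p_iff_coeff_zero_eq_zero]
    have : (x - z).coeff 0 = WittVector.constantCoeff (x - z) := rfl
    rw [this, map_sub]
    change x.coeff 0 - z.coeff 0 = 0
    rw [hz0, sub_self]
  have h2 : x - z ∈ 𝔐 := (Ideal.span_singleton_le_iff_mem (I := 𝔐)).mpr hpM h1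
  have : x = (x - z) + z := by ring
  rw [this]
  exact 𝔐.add_mem h2 hz

lemma le_wittIdeal_primeBelow_sup (𝔐 : Ideal (WittVector p k)) :
    𝔐 ≤ wittIdeal p (primeBelow p 𝔐) ⊔ Ideal.span {(p : WittVector p k)} := by
  intro x hx
  have h0 : x.coeff 0 ∈ primeBelow p 𝔐 := (mem_primeBelow_iff 𝔐 _).mpr ⟨x, hx, rfl⟩
  have h1 : (x - WittVector.teichmuller p (x.coeff 0)) ∈ Ideal.span {(p : WittVector p k)} := by
    rw [WittVector.mem_span_p_iff_coeff_zero_eq_zero]
    have : (x - WittVector.teichmuller p (x.coeff 0)).coeff 0 =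
        WittVector.constantCoeff (x - WittVector.teichmuller p (x.coeff 0)) := rfl
    rw [this, map_sub]
    change x.coeff 0 - (WittVector.teichmuller p (x.coeff 0)).coeff 0 = 0
    rw [WittVector.teichmuller_coeff_zero, sub_self]
  have : x = WittVector.teichmuller p (x.coeff 0) + (x - WittVector.teichmuller p (x.coeff 0)) := by ring
  rw [this]
  exact Submodule.add_mem_sup (teichmuller_mem_wittIdeal _ h0) h1

end Groth.Agent.Lib.Helper45.WittIdeal
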