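import Groth.Agent.Lib.Helper45.SplitMax
import Groth.Agent.Lib.Helper45.WittIdeal
import Groth.Agent.Lib.Helper45.QuotProj

/-!
# `M / V M` is projective for (truncated) Dieudonné modules over a perfect ring (helper45)

`core` : abstract statement; the input `hT` says that `M ⧸ W(𝔫) M` has only the expected `p`-torsion for every
prime `𝔫` of `k` (which holds because `M ⧸ W(𝔫) M` is again a (truncated) Dieudonné module over the perfect ring
`k ⧸ 𝔫`).  The proof checks `Tor₁(M/VM, κ(m)) = 0` at maximal ideals only.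
-/

namespace Groth.Agent.Lib.Helper45.DieudonneModV

open WittVector Groth.Agent.Lib.Helper45.WittIdeal Groth.Agent.Lib.Helper45.SplitInj

universe u v

variable {p : ℕ} [hp : Fact p.Prime] {k : Type u} [CommRing k] [CharP k p] [PerfectRing k p]
variable {M : Type v} [AddCommGroup M] [Module (WittVector p k) M]

local notation "W" => WittVector p k
local notation "P" => (Ideal.span {(p : WittVector p k)} : Ideal (WittVector p k))

lemma mem_P_smul_top_iff (x : M) : x ∈ P • (⊤ : Submodule W M) ↔ ∃ y : M, (p : W) • y = x := by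
  rw [Submodule.ideal_span_singleton_smul, Submodule.mem_smul_pointwise_iff_exists]
  simp

section core

variable (F : M →ₛₗ[(WittVector.frobenius : WittVector p k →+* WittVector p k)] M)
  (V : M →ₛₗ[((WittVector.frobeniusEquiv p k).symm : WittVector p k →+* WittVector p k)] M)

lemma V_smul_frob (r : W) (m : M) : V (WittVector.frobenius r • m) = r • V m := by
  rw [map_smulₛₗ]
  congr 1
  change (WittVector.frobeniusEquiv p k).symm (WittVector.frobenius r) = r
  rw [← WittVector.frobeniusEquiv_apply, RingEquiv.symm_apply_apply]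

lemma V_smul (r : W) (m : M) : V (r • m) = (WittVector.frobeniusEquiv p k).symm r • V m := by
  rw [map_smulₛₗ]; rfl

omit [PerfectRing k p] in
/-- `F` preserves `𝔄 M` -/
lemma F_mem_wittIdeal_smul (𝔫 : Ideal k) [𝔫.IsPrime] (u : M)
    (hu : u ∈ wittIdeal p 𝔫 • (⊤ : Submodule W M)) : F u ∈ wittIdeal p 𝔫 • (⊤ : Submodule W M) := by
  refine Submodule.smul_induction_on hu ?_ ?_
  · intro r hr m _
    rw [map_smulₛₗ]
    exact Submodule.smul_mem_smul ((frobenius_mem_wittIdeal_iff 𝔫 r).mpr hr) Submodule.mem_top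
  · intro x y hx hy
    rw [map_add]; exact Submodule.add_mem _ hx hy

variable (hFV : ∀ m : M, F (V m) = (p : WittVector p k) • m)
  (hVF : ∀ m : M, V (F m) = (p : WittVector p k) • m)

include hFV in
/-- the generalized "`Ker V = Im F` modulo `p` and `𝔄`" -/
lemma mem_of_V_mem (𝔫 : Ideal k) [𝔫.IsPrime]
    (hT : ∀ x : M, (p : W) • x ∈ wittIdeal p 𝔫 • (⊤ : Submodule W M) →
      x ∈ P • (⊤ : Submodule W M) ⊔ wittIdeal p 𝔫 • (⊤ : Submodule W M))
    (y : M) (hy : V y ∈ wittIdeal p 𝔫 • (⊤ : Submodule W M) ⊔ P • (⊤ : Submodule W M)) :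
    y ∈ Submodule.span W (Set.range F) ⊔ wittIdeal p 𝔫 • (⊤ : Submodule W M) := by
  obtain ⟨u, hu, z, hz, huz⟩ := Submodule.mem_sup.mp hy
  obtain ⟨y', rfl⟩ := (mem_P_smul_top_iff z).mp hz
  have h1 : (p : W) • (y - F y') = F u := by
    have h2 : F (V y) = F u + (p : W) • F y' := by
      rw [← huz, map_add, map_smulₛₗ, map_natCast]
    rw [hFV] at h2
    rw [smul_sub, h2]; abel
  have h3 := hT (y - F y') (h1 ▸ F_mem_wittIdeal_smul F 𝔫 u hu)
  have hPF : P • (⊤ : Submodule W M) ≤ Submodule.span W (Set.range F) := by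
    intro x hx
    obtain ⟨x', rfl⟩ := (mem_P_smul_top_iff x).mp hx
    rw [← hFV]
    exact Submodule.subset_span ⟨_, rfl⟩
  have h4 : y - F y' ∈ Submodule.span W (Set.range F) ⊔ wittIdeal p 𝔫 • (⊤ : Submodule W M) :=
    sup_le_sup_right hPF _ h3
  have h5 : F y' ∈ Submodule.span W (Set.range F) ⊔ wittIdeal p 𝔫 • (⊤ : Submodule W M) :=
    Submodule.mem_sup_left (Submodule.subset_span ⟨_, rfl⟩)
  have := Submodule.add_mem _ h4 h5
  rwa [sub_add_cancel] at this

include hFV hVF in
theorem core [Module.Finite W M]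
    [Module.Projective (W ⧸ P) (M ⧸ P • (⊤ : Submodule W M))]
    (hT : ∀ (𝔫 : Ideal k) [𝔫.IsPrime] (x : M), (p : W) • x ∈ wittIdeal p 𝔫 • (⊤ : Submodule W M) →
      x ∈ P • (⊤ : Submodule W M) ⊔ wittIdeal p 𝔫 • (⊤ : Submodule W M)) :
    Module.Projective (W ⧸ P)
      ((M ⧸ (P • (⊤ : Submodule W M))) ⧸
        Submodule.span (W ⧸ P)
          (Set.range fun m : M => (P • (⊤ : Submodule W M)).mkQ (V m))) := by
  set q : M →ₗ[W] (M ⧸ (P • (⊤ : Submodule W M))) := (P • (⊤ : Submodule W M)).mkQ with hq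
  set D : Submodule (W ⧸ P) (M ⧸ (P • (⊤ : Submodule W M))) :=
    Submodule.span (W ⧸ P) (Set.range fun m : M => q (V m)) with hD
  have hmk_smul : ∀ (r : W) (x : M ⧸ (P • (⊤ : Submodule W M))),
      Ideal.Quotient.mk P r • x = r • x := by
    intro r x
    obtain ⟨m, rfl⟩ := Submodule.mkQ_surjective _ x
    rfl
  -- Step A: every element of `D` is `q (V y)`
  have hA : ∀ d ∈ D, ∃ y : M, q (V y) = d := by
    intro d hd
    induction hd using Submodule.span_induction with
    | mem x hx => obtain ⟨m, rfl⟩ := hx; exact ⟨m, rfl⟩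
    | zero => exact ⟨0, by simp⟩
    | add x y _ _ hx hy =>
      obtain ⟨a, rfl⟩ := hx
      obtain ⟨b, rfl⟩ := hy
      exact ⟨a + b, by rw [map_add, map_add]⟩
    | smul r x _ hx =>
      obtain ⟨a, rfl⟩ := hx
      obtain ⟨r, rfl⟩ := Ideal.Quotient.mk_surjective r
      exact ⟨WittVector.frobenius r • a, by rw [V_smul_frob, map_smul, hmk_smul]⟩
  -- Step B: `D` is finitely generated
  have hB : D.FG := by
    classical
    obtain ⟨S, hS⟩ := (Module.Finite.fg_top : (⊤ : Submodule W M).FG)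
    refine ⟨S.image (fun m => q (V m)), ?_⟩
    apply le_antisymm
    · apply Submodule.span_mono
      rw [Finset.coe_image]
      exact Set.image_subset_range _ _
    · rw [hD, Submodule.span_le]
      rintro _ ⟨m, rfl⟩
      have hm : m ∈ Submodule.span W (S : Set M) := by rw [hS]; exact Submodule.mem_top
      rw [SetLike.mem_coe]
      change q (V m) ∈ _
      induction hm using Submodule.span_induction with
      | mem x hx => exact Submodule.subset_span (by rw [Finset.coe_image]; exact ⟨x, hx, rfl⟩)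
      | zero => simp
      | add x y _ _ hx hy => rw [map_add, map_add]; exact Submodule.add_mem _ hx hy
      | smul r x _ hx =>
        rw [V_smul, map_smul, ← hmk_smul]
        exact Submodule.smul_mem _ _ hx
  have : Module.Finite (W ⧸ P) (M ⧸ (P • (⊤ : Submodule W M))) :=
    Module.Finite.of_restrictScalars_finite W _ _
  refine projective_quotient_of_forall_maximal D hB ?_
  intro 𝔪 h𝔪 d hd hdm
  -- the corresponding ideals of `W`
  set 𝔐 : Ideal W := 𝔪.comap (Ideal.Quotient.mk P) with h𝔐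
  have : 𝔐.IsPrime := Ideal.comap_isPrime _ _
  have hpM : (p : W) ∈ 𝔐 := by
    rw [h𝔐, Ideal.mem_comap, Ideal.Quotient.eq_zero_iff_mem.mpr (Ideal.mem_span_singleton_self _)]
    exact 𝔪.zero_mem
  set 𝔫 : Ideal k := primeBelow p 𝔐 with h𝔫
  have : 𝔫.IsPrime := primeBelow_isPrime 𝔐 hpM
  have hle₁ : wittIdeal p 𝔫 ≤ 𝔐 := wittIdeal_primeBelow_le 𝔐 hpM
  have hle₂ : 𝔐 ≤ wittIdeal p 𝔫 ⊔ P := le_wittIdeal_primeBelow_sup 𝔐
  obtain ⟨y, rfl⟩ := hA d hd
  -- C1: lift membership in `𝔪 • ⊤`
  have hC1 : ∀ e ∈ 𝔪 • (⊤ : Submodule (W ⧸ P) (M ⧸ (P • (⊤ : Submodule W M)))),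
      ∃ z ∈ 𝔐 • (⊤ : Submodule W M), q z = e := by
    intro e he
    refine Submodule.smul_induction_on he ?_ ?_
    · intro r hr x _
      obtain ⟨r, rfl⟩ := Ideal.Quotient.mk_surjective r
      obtain ⟨m, rfl⟩ := Submodule.mkQ_surjective _ x
      exact ⟨r • m, Submodule.smul_mem_smul hr Submodule.mem_top, rfl⟩
    · rintro x x' ⟨z, hz, rfl⟩ ⟨z', hz', rfl⟩
      exact ⟨z + z', Submodule.add_mem _ hz hz', map_add _ _ _⟩
  obtain ⟨z, hz, hqz⟩ := hC1 _ hdm
  have hVy : V y ∈ wittIdeal p 𝔫 • (⊤ : Submodule W M) ⊔ P • (⊤ : Submodule W M) := by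
    have h1 : V y - z ∈ P • (⊤ : Submodule W M) := by
      rw [← Submodule.Quotient.mk_eq_zero, Submodule.Quotient.mk_sub, sub_eq_zero]
      exact hqz.symm
    have h2 : z ∈ wittIdeal p 𝔫 • (⊤ : Submodule W M) ⊔ P • (⊤ : Submodule W M) := by
      rw [← Submodule.sup_smul]
      exact Submodule.smul_mono_left hle₂ hz
    have := Submodule.add_mem _ (Submodule.mem_sup_right h1) h2
    rwa [sub_add_cancel] at this
  have hy := mem_of_V_mem F V hFV 𝔫 (hT 𝔫) y hVy
  -- C3: the submodule of `y` with `q (V y) ∈ 𝔪 • D`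
  let T' : Submodule W M :=
    { carrier := {y | q (V y) ∈ 𝔪 • D}
      zero_mem' := by simp
      add_mem' := by
        intro a b ha hb
        simp only [Set.mem_ofPred_eq] at ha hb ⊢
        rw [map_add, map_add]; exact Submodule.add_mem _ ha hb
      smul_mem' := by
        intro r a ha
        simp only [Set.mem_ofPred_eq] at ha ⊢
        rw [V_smul, map_smul, ← hmk_smul]
        exact Submodule.smul_mem _ _ ha }
  have hT'mem : ∀ y, y ∈ T' ↔ q (V y) ∈ 𝔪 • D := fun _ => Iff.rfl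
  have hT'₁ : Submodule.span W (Set.range F) ≤ T' := by
    rw [Submodule.span_le]
    rintro _ ⟨m, rfl⟩
    rw [SetLike.mem_coe, hT'mem, hVF]
    have : q ((p : W) • m) = 0 := by
      rw [hq, Submodule.mkQ_apply, Submodule.Quotient.mk_eq_zero]
      exact (mem_P_smul_top_iff _).mpr ⟨m, rfl⟩
    rw [this]; exact Submodule.zero_mem _
  have hT'₂ : wittIdeal p 𝔫 • (⊤ : Submodule W M) ≤ T' := by
    rw [Submodule.smul_le]
    intro r hr m _
    rw [hT'mem, V_smul, map_smul, ← hmk_smul]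
    refine Submodule.smul_mem_smul ?_ (Submodule.subset_span ⟨m, rfl⟩)
    rw [← Ideal.mem_comap]
    exact hle₁ ((frobeniusEquiv_symm_mem_wittIdeal_iff 𝔫 r).mpr hr)
  exact (hT'mem y).mp (sup_le hT'₁ hT'₂ hy)

end core

end Groth.Agent.Lib.Helper45.DieudonneModV
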