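import Mathlib
import Groth.Prelude.Def_FlatCA

/-!
# Associated primes of fibre modules (helper45)

`F = (κ(p) ⊗_R S) ⊗_S N` as an `S`-module: every element is a unit multiple of the image of some `n : N`,
and `1 ⊗ n = 0` iff `r n ∈ p N` for some `r ∉ p`.
-/

namespace Groth.Agent.Lib.Helper45.FibreAss

open TensorProduct FlatCA

universe u

set_option linter.unusedSectionVars false

attribute [local instance] Algebra.TensorProduct.rightAlgebra

lemma mem_ass_iff {S : Type*} [CommRing S] {M : Type*} [AddCommGroup M] [Module S M] (q : Ideal S) :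
    q ∈ ass S M ↔ q.IsPrime ∧ ∃ m : M, ∀ s, s ∈ q ↔ s • m = 0 := by
  constructor
  · rintro ⟨hq, m, rfl⟩
    exact ⟨hq, m, fun s => Submodule.mem_annihilator_span_singleton m s⟩
  · rintro ⟨hq, m, h⟩
    exact ⟨hq, m, Ideal.ext fun s => (h s).trans (Submodule.mem_annihilator_span_singleton m s).symm⟩

variable {R S : Type u} [CommRing R] [CommRing S] [Algebra R S] (N : Type u) [AddCommGroup N]
  [Module S N] [Module R N] [IsScalarTower R S N] (p : Ideal R) [p.IsPrime]

omit [p.IsPrime] in
/-- `p N` as `R`-submodule versus `S`-submodule -/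
lemma mem_map_smul_top_iff (n : N) :
    n ∈ (p.map (algebraMap R S)) • (⊤ : Submodule S N) ↔ n ∈ p • (⊤ : Submodule R N) := by
  constructor
  · intro h
    refine Submodule.smul_induction_on h ?_ ?_
    · intro a ha m _
      have : ∀ a ∈ p.map (algebraMap R S), ∀ m : N, a • m ∈ p • (⊤ : Submodule R N) := by
        intro a ha
        refine Submodule.span_induction (p := fun a _ => ∀ m : N, a • m ∈ p • (⊤ : Submodule R N))
          ?_ ?_ ?_ ?_ ha
        · rintro _ ⟨r, hr, rfl⟩ m
          rw [algebraMap_smul]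
          exact Submodule.smul_mem_smul hr Submodule.mem_top
        · intro m; rw [zero_smul]; exact Submodule.zero_mem _
        · intro x y _ _ hx hy m; rw [add_smul]; exact Submodule.add_mem _ (hx m) (hy m)
        · intro c x _ hx m; rw [smul_eq_mul, mul_comm, mul_smul]; exact hx _
      exact this a ha m
    · intro x y hx hy; exact Submodule.add_mem _ hx hy
  · intro h
    refine Submodule.smul_induction_on h ?_ ?_
    · intro r hr m _
      rw [← algebraMap_smul S r m]
      exact Submodule.smul_mem_smul (Ideal.mem_map_of_mem _ hr) Submodule.mem_top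
    · intro x y hx hy; exact Submodule.add_mem _ hx hy

section units

lemma algebraMap_fiber_eq (r : R) :
    algebraMap S (p.Fiber S) (algebraMap R S r) =
      algebraMap p.ResidueField (p.Fiber S) (algebraMap R p.ResidueField r) := by
  rw [← IsScalarTower.algebraMap_apply R S (p.Fiber S),
    ← IsScalarTower.algebraMap_apply R p.ResidueField (p.Fiber S)]

lemma isUnit_algebraMap_fiber (r : R) (hr : r ∉ p) :
    IsUnit (algebraMap S (p.Fiber S) (algebraMap R S r)) := by
  rw [algebraMap_fiber_eq]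
  refine IsUnit.map _ (IsUnit.mk0 _ ?_)
  rwa [Ne, Ideal.algebraMap_residueField_eq_zero]

lemma algebraMap_fiber_eq_zero (a : S) (ha : a ∈ p.map (algebraMap R S)) :
    algebraMap S (p.Fiber S) a = 0 := by
  have : p.map (algebraMap R S) ≤ RingHom.ker (algebraMap S (p.Fiber S)) := by
    rw [Ideal.map_le_iff_le_comap]
    intro r hr
    rw [Ideal.mem_comap, RingHom.mem_ker, algebraMap_fiber_eq,
      Ideal.algebraMap_residueField_eq_zero.mpr hr, map_zero]
  exact this ha

variable {N p}

lemma smul_eq_zero_iff_of_notMem (r : R) (hr : r ∉ p) (x : (p.Fiber S) ⊗[S] N) :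
    algebraMap R S r • x = 0 ↔ x = 0 := by
  rw [← algebraMap_smul (p.Fiber S) (algebraMap R S r) x]
  exact (isUnit_algebraMap_fiber p r hr).smul_eq_zero

lemma fiber_smul_eq_zero_iff_of_notMem (r : R) (hr : r ∉ p) (t : p.Fiber S) (x : (p.Fiber S) ⊗[S] N) :
    (algebraMap R S r • t) • x = 0 ↔ t • x = 0 := by
  rw [Algebra.smul_def, mul_smul]
  exact (isUnit_algebraMap_fiber p r hr).smul_eq_zero

end units

variable {N p}

/-- every element of the fibre module is, up to a unit, the image of an element of `N` -/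
lemma exists_smul_eq_one_tmul (x : (p.Fiber S) ⊗[S] N) :
    ∃ r ∉ p, ∃ n : N, algebraMap R S r • x = (1 : p.Fiber S) ⊗ₜ[S] n := by
  induction x using TensorProduct.induction_on with
  | zero => exact ⟨1, (Ideal.ne_top_iff_one p).mp (Ideal.IsPrime.ne_top inferInstance), 0, by simp⟩
  | tmul t n =>
    obtain ⟨r, hr, s, hs⟩ := Ideal.Fiber.exists_smul_eq_one_tmul p t
    refine ⟨r, hr, s • n, ?_⟩
    rw [TensorProduct.smul_tmul', algebraMap_smul, hs, ← TensorProduct.smul_tmul]
    congr 1
    rw [Algebra.smul_def, mul_one]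
    rfl
  | add x y hx hy =>
    obtain ⟨r, hr, n, hn⟩ := hx
    obtain ⟨r', hr', n', hn'⟩ := hy
    refine ⟨r * r', (Ideal.IsPrime.mul_mem_iff_mem_or_mem inferInstance).not.mpr (not_or.mpr ⟨hr, hr'⟩),
      algebraMap R S r' • n + algebraMap R S r • n', ?_⟩
    rw [smul_add, tmul_add, map_mul]
    congr 1
    · rw [mul_comm, mul_smul, hn, TensorProduct.tmul_smul]
    · rw [mul_smul, hn', TensorProduct.tmul_smul]

/-- the image of `p N` vanishes in the fibre module -/
lemma one_tmul_eq_zero_of_mem (y : N) (hy : y ∈ (p.map (algebraMap R S)) • (⊤ : Submodule S N)) :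
    (1 : p.Fiber S) ⊗ₜ[S] y = 0 := by
  refine Submodule.smul_induction_on hy ?_ ?_
  · intro a ha m _
    rw [← TensorProduct.smul_tmul, Algebra.smul_def, mul_one, algebraMap_fiber_eq_zero p a ha, zero_tmul]
  · intro x y hx hy
    rw [tmul_add, hx, hy, add_zero]

/-- the key computation: the kernel of `N → F` -/
lemma one_tmul_eq_zero_iff (n : N) :
    (1 : p.Fiber S) ⊗ₜ[S] n = 0 ↔
      ∃ r ∉ p, algebraMap R S r • n ∈ (p.map (algebraMap R S)) • (⊤ : Submodule S N) := by
  constructor
  · intro h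
    -- transport to `N ⊗[R] κ`
    let e₁ : (p.Fiber S) ⊗[S] N ≃ₗ[S] N ⊗[S] (p.Fiber S) := TensorProduct.comm S _ _
    let e₂ : N ⊗[S] (p.Fiber S) ≃ₗ[S] N ⊗[S] (S ⊗[R] p.ResidueField) :=
      TensorProduct.congr (LinearEquiv.refl S N)
        (Algebra.TensorProduct.commRight R S p.ResidueField).symm.toLinearEquiv
    let e₃ : N ⊗[S] (S ⊗[R] p.ResidueField) ≃ₗ[S] N ⊗[R] p.ResidueField :=
      AlgebraTensorModule.cancelBaseChange R S S N p.ResidueField
    have h1 : n ⊗ₜ[R] (1 : p.ResidueField) = 0 := by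
      have := congrArg (fun x => e₃ (e₂ (e₁ x))) h
      simp only [e₁, e₂, e₃, TensorProduct.comm_tmul, TensorProduct.congr_tmul, LinearEquiv.refl_apply,
        AlgEquiv.toLinearEquiv_apply, map_one, map_zero] at this
      rw [Algebra.TensorProduct.one_def, AlgebraTensorModule.cancelBaseChange_tmul, one_smul] at this
      exact this
    have h2 : (1 : p.ResidueField) ⊗ₜ[R] n = 0 := by
      have := congrArg (TensorProduct.comm R N p.ResidueField) h1
      rwa [TensorProduct.comm_tmul, map_zero] at this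
    have h3 : (1 : p.ResidueField) ⊗ₜ[R ⧸ p] ((1 : R ⧸ p) ⊗ₜ[R] n) = 0 := by
      apply (AlgebraTensorModule.cancelBaseChange R (R ⧸ p) p.ResidueField p.ResidueField N).injective
      rw [AlgebraTensorModule.cancelBaseChange_tmul, one_smul, map_zero, h2]
    have h4 := (IsLocalizedModule.eq_zero_iff (nonZeroDivisors (R ⧸ p))
      (TensorProduct.mk (R ⧸ p) p.ResidueField ((R ⧸ p) ⊗[R] N) 1)
      (m := (1 : R ⧸ p) ⊗ₜ[R] n)).mp h3
    obtain ⟨⟨c, hc⟩, hcn⟩ := h4
    obtain ⟨r, rfl⟩ := Ideal.Quotient.mk_surjective c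
    have hr : r ∉ p := by
      intro hr
      exact nonZeroDivisors.ne_zero hc (Ideal.Quotient.eq_zero_iff_mem.mpr hr)
    refine ⟨r, hr, ?_⟩
    rw [algebraMap_smul, mem_map_smul_top_iff]
    have h5 : (Ideal.Quotient.mk p r) ⊗ₜ[R] n = (0 : (R ⧸ p) ⊗[R] N) := by
      have : (Ideal.Quotient.mk p r) • ((1 : R ⧸ p) ⊗ₜ[R] n) = 0 := hcn
      rwa [TensorProduct.smul_tmul', smul_eq_mul, mul_one] at this
    have h6 := congrArg (quotTensorEquivQuotSMul N p) h5
    rw [quotTensorEquivQuotSMul_mk_tmul, map_zero, Submodule.Quotient.mk_eq_zero] at h6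
    exact h6
  · rintro ⟨r, hr, hrn⟩
    have := one_tmul_eq_zero_of_mem (p := p) _ hrn
    rw [TensorProduct.tmul_smul] at this
    exact (smul_eq_zero_iff_of_notMem r hr _).mp this

/-- annihilators of images -/
lemma smul_one_tmul_eq_zero_iff (s : S) (n : N) :
    s • ((1 : p.Fiber S) ⊗ₜ[S] n) = 0 ↔
      ∃ r ∉ p, (algebraMap R S r * s) • n ∈ (p.map (algebraMap R S)) • (⊤ : Submodule S N) := by
  rw [← TensorProduct.tmul_smul, one_tmul_eq_zero_iff]
  simp only [mul_smul]

/-- annihilator of an arbitrary element equals the annihilator of an image -/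
lemma exists_ann_eq (x : (p.Fiber S) ⊗[S] N) :
    ∃ n : N, ∀ s : S, s • x = 0 ↔ s • ((1 : p.Fiber S) ⊗ₜ[S] n) = 0 := by
  obtain ⟨r, hr, n, hn⟩ := exists_smul_eq_one_tmul x
  refine ⟨n, fun s => ?_⟩
  rw [← hn, smul_comm, smul_eq_zero_iff_of_notMem r hr]

variable (N p)

/-- (S9665) -/
theorem mem_ass_fibre_of_mem_ass_quotient (q : Ideal S) [q.IsPrime]
    (hq : q.comap (algebraMap R S) = p)
    (h : q ∈ ass S (N ⧸ (p.map (algebraMap R S)) • (⊤ : Submodule S N))) :
    q ∈ ass S ((p.Fiber S) ⊗[S] N) := by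
  rw [mem_ass_iff] at h ⊢
  obtain ⟨hq', nbar, hn⟩ := h
  obtain ⟨n, rfl⟩ := Submodule.mkQ_surjective _ nbar
  refine ⟨hq', (1 : p.Fiber S) ⊗ₜ[S] n, fun s => ?_⟩
  have hn' : ∀ s : S, s ∈ q ↔ s • n ∈ (p.map (algebraMap R S)) • (⊤ : Submodule S N) := by
    intro s
    rw [hn, Submodule.mkQ_apply, ← Submodule.Quotient.mk_smul, Submodule.Quotient.mk_eq_zero]
  rw [smul_one_tmul_eq_zero_iff]
  constructor
  · intro hs
    refine ⟨1, (Ideal.ne_top_iff_one p).mp (Ideal.IsPrime.ne_top inferInstance), ?_⟩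
    rw [map_one, one_mul]
    exact (hn' s).mp hs
  · rintro ⟨r, hr, hrs⟩
    have := (hn' _).mpr hrs
    rcases (Ideal.IsPrime.mul_mem_iff_mem_or_mem inferInstance).mp this with h1 | h1
    · exact absurd (hq ▸ (Ideal.mem_comap.mpr h1 : r ∈ q.comap (algebraMap R S))) hr
    · exact h1

/-- (S9666) -/
theorem mem_ass_quotient_of_mem_ass_fibre [IsNoetherianRing S] (q : Ideal S) [q.IsPrime]
    (hq : q.comap (algebraMap R S) = p)
    (h : q ∈ ass S ((p.Fiber S) ⊗[S] N)) :
    q ∈ ass S (N ⧸ (p.map (algebraMap R S)) • (⊤ : Submodule S N)) := by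
  classical
  rw [mem_ass_iff] at h ⊢
  obtain ⟨hq', x, hx⟩ := h
  obtain ⟨n, hn⟩ := exists_ann_eq x
  have hqn : ∀ s : S, s ∈ q ↔
      ∃ r ∉ p, (algebraMap R S r * s) • n ∈ (p.map (algebraMap R S)) • (⊤ : Submodule S N) := by
    intro s
    rw [hx, hn, smul_one_tmul_eq_zero_iff]
  have hnotin : ∀ r : R, r ∉ p → algebraMap R S r ∉ q := by
    intro r hr h1
    exact hr (hq ▸ (Ideal.mem_comap.mpr h1 : r ∈ q.comap (algebraMap R S)))
  obtain ⟨G, hG⟩ := (IsNoetherian.noetherian q : q.FG)
  have hGq : ∀ g ∈ G, g ∈ q := fun g hg => hG ▸ Ideal.subset_span hg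
  choose! ρ hρ using fun g (hg : g ∈ G) => (hqn g).mp (hGq g hg)
  set r' : R := ∏ g ∈ G, ρ g with hr'
  have hr'p : r' ∉ p := by
    rw [hr']
    intro hmem
    obtain ⟨g, hg, hgp⟩ := (Ideal.IsPrime.prod_mem_iff).mp hmem
    exact (hρ g hg).1 hgp
  refine ⟨hq', Submodule.Quotient.mk (algebraMap R S r' • n), fun s => ?_⟩
  rw [← Submodule.Quotient.mk_smul, Submodule.Quotient.mk_eq_zero, smul_smul]
  constructor
  · intro hs
    rw [← hG] at hs
    refine Submodule.span_induction
      (p := fun s _ => (s * algebraMap R S r') • n ∈ (p.map (algebraMap R S)) • (⊤ : Submodule S N))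
      ?_ ?_ ?_ ?_ hs
    · intro g hg
      have hg' : g ∈ G := hg
      have h1 := (hρ g hg').2
      have h2 : r' = (∏ g' ∈ G.erase g, ρ g') * ρ g := by
        rw [hr', ← Finset.mul_prod_erase G ρ hg', mul_comm]
      rw [h2, map_mul, ← mul_assoc, mul_comm g, mul_assoc, mul_smul, mul_comm g]
      exact Submodule.smul_mem _ _ h1
    · rw [zero_mul, zero_smul]; exact Submodule.zero_mem _
    · intro x y _ _ hx hy; rw [add_mul, add_smul]; exact Submodule.add_mem _ hx hy
    · intro a x _ hx; rw [smul_eq_mul, mul_assoc, mul_smul]; exact Submodule.smul_mem _ _ hx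
  · intro hs
    have h1 : s * algebraMap R S r' ∈ q := by
      rw [hqn]
      refine ⟨1, (Ideal.ne_top_iff_one p).mp (Ideal.IsPrime.ne_top inferInstance), ?_⟩
      rwa [map_one, one_mul]
    rcases (Ideal.IsPrime.mul_mem_iff_mem_or_mem inferInstance).mp h1 with h2 | h2
    · exact h2
    · exact absurd h2 (hnotin r' hr'p)

/-- every associated prime of the fibre module lies over `p` -/
theorem comap_eq_of_mem_ass_fibre (q : Ideal S) (h : q ∈ ass S ((p.Fiber S) ⊗[S] N)) :
    q.comap (algebraMap R S) = p := by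
  rw [mem_ass_iff] at h
  obtain ⟨hq', x, hx⟩ := h
  have hx0 : x ≠ 0 := by
    intro h0
    apply hq'.ne_top
    rw [Ideal.eq_top_iff_one, hx, h0, smul_zero]
  ext r
  rw [Ideal.mem_comap, hx]
  constructor
  · intro h1
    by_contra hr
    exact hx0 ((smul_eq_zero_iff_of_notMem r hr x).mp h1)
  · intro hr
    rw [← algebraMap_smul (p.Fiber S) (algebraMap R S r) x,
      algebraMap_fiber_eq_zero p _ (Ideal.mem_map_of_mem _ hr), zero_smul]

section flat

variable [Module.Flat R N]

variable {N p} in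
/-- for flat `N`, elements outside `p` are regular on `N / p N` -/
lemma mem_of_smul_mem_of_flat (r : R) (hr : r ∉ p) (n : N)
    (h : algebraMap R S r • n ∈ (p.map (algebraMap R S)) • (⊤ : Submodule S N)) :
    n ∈ (p.map (algebraMap R S)) • (⊤ : Submodule S N) := by
  rw [algebraMap_smul, mem_map_smul_top_iff] at h
  rw [mem_map_smul_top_iff]
  let f : (R ⧸ p) →ₗ[R] (R ⧸ p) := LinearMap.lsmul R (R ⧸ p) r
  have hf : Function.Injective f := by
    rw [← LinearMap.ker_eq_bot, LinearMap.ker_eq_bot']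
    intro x hx
    obtain ⟨x, rfl⟩ := Ideal.Quotient.mk_surjective x
    change r • (Ideal.Quotient.mk p x) = 0 at hx
    rw [Algebra.smul_def, Ideal.Quotient.algebraMap_eq, ← map_mul, Ideal.Quotient.eq_zero_iff_mem] at hx
    rw [Ideal.Quotient.eq_zero_iff_mem]
    exact ((Ideal.IsPrime.mul_mem_iff_mem_or_mem inferInstance).mp hx).resolve_left hr
  have hinj := Module.Flat.rTensor_preserves_injective_linearMap (M := N) f hf
  have h1 : (1 : R ⧸ p) ⊗ₜ[R] n = 0 := by
    apply hinj
    rw [map_zero, LinearMap.rTensor_tmul]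
    change (r • (1 : R ⧸ p)) ⊗ₜ[R] n = 0
    rw [TensorProduct.smul_tmul]
    apply (quotTensorEquivQuotSMul N p).injective
    rw [map_zero, ← map_one (Ideal.Quotient.mk p), quotTensorEquivQuotSMul_mk_tmul, one_smul,
      Submodule.Quotient.mk_eq_zero]
    exact h
  have h2 := congrArg (quotTensorEquivQuotSMul N p) h1
  rwa [map_zero, ← map_one (Ideal.Quotient.mk p), quotTensorEquivQuotSMul_mk_tmul, one_smul,
    Submodule.Quotient.mk_eq_zero] at h2

/-- (S9669, lying over) -/
theorem comap_eq_of_mem_ass_quotient_of_flat (q : Ideal S)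
    (h : q ∈ ass S (N ⧸ (p.map (algebraMap R S)) • (⊤ : Submodule S N))) :
    q.comap (algebraMap R S) = p := by
  rw [mem_ass_iff] at h
  obtain ⟨hq', nbar, hn⟩ := h
  obtain ⟨n, rfl⟩ := Submodule.mkQ_surjective _ nbar
  have hn' : ∀ s : S, s ∈ q ↔ s • n ∈ (p.map (algebraMap R S)) • (⊤ : Submodule S N) := by
    intro s
    rw [hn, Submodule.mkQ_apply, ← Submodule.Quotient.mk_smul, Submodule.Quotient.mk_eq_zero]
  have hn0 : n ∉ (p.map (algebraMap R S)) • (⊤ : Submodule S N) := by
    intro h0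
    apply hq'.ne_top
    rw [Ideal.eq_top_iff_one, hn', one_smul]
    exact h0
  ext r
  rw [Ideal.mem_comap, hn']
  constructor
  · intro h1
    by_contra hr
    exact hn0 (mem_of_smul_mem_of_flat r hr n h1)
  · intro hr
    exact Submodule.smul_mem_smul (Ideal.mem_map_of_mem _ hr) Submodule.mem_top

/-- (S9669) -/
theorem ass_quotient_eq_ass_fibre_of_flat :
    ass S (N ⧸ (p.map (algebraMap R S)) • (⊤ : Submodule S N)) = ass S ((p.Fiber S) ⊗[S] N) := by
  ext q
  constructor
  · intro h
    have hq' : q.IsPrime := ((mem_ass_iff q).mp h).1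
    exact mem_ass_fibre_of_mem_ass_quotient N p q (comap_eq_of_mem_ass_quotient_of_flat N p q h) h
  · intro h
    rw [mem_ass_iff] at h ⊢
    obtain ⟨hq', x, hx⟩ := h
    obtain ⟨n, hn⟩ := exists_ann_eq x
    refine ⟨hq', Submodule.Quotient.mk n, fun s => ?_⟩
    rw [hx, hn, smul_one_tmul_eq_zero_iff, ← Submodule.Quotient.mk_smul, Submodule.Quotient.mk_eq_zero]
    constructor
    · rintro ⟨r, hr, hrs⟩
      rw [mul_smul] at hrs
      exact mem_of_smul_mem_of_flat r hr _ hrs
    · intro hs
      refine ⟨1, (Ideal.ne_top_iff_one p).mp (Ideal.IsPrime.ne_top inferInstance), ?_⟩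
      rwa [map_one, one_mul]

end flat

section overFibreRing

variable {N p} in
lemma fiber_smul_eq_zero_iff_of_notMem' (r : R) (hr : r ∉ p) (t : p.Fiber S) (x : (p.Fiber S) ⊗[S] N) :
    (r • t) • x = 0 ↔ t • x = 0 := by
  rw [← algebraMap_smul S r t]
  exact fiber_smul_eq_zero_iff_of_notMem r hr t x

/-- (S9664) -/
theorem mem_ass_fibre_iff (q : Ideal S) :
    q ∈ ass S ((p.Fiber S) ⊗[S] N) ↔
      ∃ Q ∈ ass (p.Fiber S) ((p.Fiber S) ⊗[S] N),
        Q.comap (Algebra.TensorProduct.includeRight (R := R) (A := p.ResidueField) (B := S)).toRingHom =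
          q := by
  have hsmul : ∀ (s : S) (x : (p.Fiber S) ⊗[S] N),
      ((Algebra.TensorProduct.includeRight (R := R) (A := p.ResidueField) (B := S)).toRingHom s) • x =
        s • x := fun s x => algebraMap_smul (p.Fiber S) s x
  constructor
  · intro h
    rw [mem_ass_iff] at h
    obtain ⟨hq', x, hx⟩ := h
    have hx0 : x ≠ 0 := by
      intro h0
      apply hq'.ne_top
      rw [Ideal.eq_top_iff_one, hx, h0, smul_zero]
    have hQmem : ∀ t : p.Fiber S, t ∈ (Submodule.span (p.Fiber S) {x}).annihilator ↔ t • x = 0 :=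
      fun t => Submodule.mem_annihilator_span_singleton x t
    refine ⟨(Submodule.span (p.Fiber S) {x}).annihilator, ⟨?_, x, rfl⟩, ?_⟩
    · refine ⟨?_, ?_⟩
      · rw [Ideal.ne_top_iff_one, hQmem, one_smul]
        exact hx0
      · intro t t' htt'
        rw [hQmem] at htt'
        obtain ⟨r, hr, s, hs⟩ := Ideal.Fiber.exists_smul_eq_one_tmul p t
        obtain ⟨r', hr', s', hs'⟩ := Ideal.Fiber.exists_smul_eq_one_tmul p t'
        have h1 : (s * s') • x = 0 := by
          rw [← hsmul, map_mul, AlgHom.toRingHom_eq_coe, RingHom.coe_coe,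
            Algebra.TensorProduct.includeRight_apply, Algebra.TensorProduct.includeRight_apply, ← hs, ← hs',
            smul_mul_smul_comm, smul_assoc, htt', smul_zero]
        have h2 : s * s' ∈ q := (hx _).mpr h1
        rcases hq'.mem_or_mem h2 with h3 | h3
        · left
          rw [hQmem, ← fiber_smul_eq_zero_iff_of_notMem' r hr, hs]
          have := (hx s).mp h3
          rwa [← hsmul] at this
        · right
          rw [hQmem, ← fiber_smul_eq_zero_iff_of_notMem' r' hr', hs']
          have := (hx s').mp h3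
          rwa [← hsmul] at this
    · ext s
      rw [Ideal.mem_comap, hQmem, hsmul, hx]
  · rintro ⟨Q, hQ, rfl⟩
    rw [mem_ass_iff] at hQ ⊢
    obtain ⟨hQ', x, hx⟩ := hQ
    refine ⟨Ideal.comap_isPrime _ _, x, fun s => ?_⟩
    rw [Ideal.mem_comap, hx, hsmul]

end overFibreRing

section general

variable {S' : Type*} [CommRing S'] {A B C : Type*} [AddCommGroup A] [Module S' A] [AddCommGroup B] [Module S' B]
  [AddCommGroup C] [Module S' C]

lemma ass_subset_of_injective (f : A →ₗ[S'] B) (hf : Function.Injective f) : ass S' A ⊆ ass S' B := by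
  intro q hq
  rw [mem_ass_iff] at hq ⊢
  obtain ⟨hq', a, ha⟩ := hq
  refine ⟨hq', f a, fun s => ?_⟩
  rw [ha, ← map_smul, map_eq_zero_iff f hf]

lemma ass_eq_of_equiv (e : A ≃ₗ[S'] B) : ass S' A = ass S' B :=
  Set.Subset.antisymm (ass_subset_of_injective e.toLinearMap e.injective)
    (ass_subset_of_injective e.symm.toLinearMap e.symm.injective)

lemma ass_subset_union_of_exact (f : A →ₗ[S'] B) (g : B →ₗ[S'] C) (hf : Function.Injective f)
    (hfg : Function.Exact f g) : ass S' B ⊆ ass S' A ∪ ass S' C := by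
  intro q hq
  rw [mem_ass_iff] at hq
  obtain ⟨hq', b, hb⟩ := hq
  by_cases hcase : ∃ s : S', s ∉ q ∧ s • b ∈ LinearMap.range f
  · left
    obtain ⟨s, hs, a, ha⟩ := hcase
    rw [mem_ass_iff]
    refine ⟨hq', a, fun t => ?_⟩
    rw [← map_eq_zero_iff f hf, map_smul, ha, smul_smul, ← hb]
    constructor
    · intro ht; exact q.mul_mem_right _ ht
    · intro ht; exact (hq'.mem_or_mem ht).resolve_right hs
  · right
    push Not at hcase
    rw [mem_ass_iff]
    refine ⟨hq', g b, fun t => ?_⟩
    rw [← map_smul]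
    constructor
    · intro ht
      rw [(hb t).mp ht, map_zero]
    · intro ht
      by_contra htq
      exact hcase t htq ((hfg (t • b)).mp ht)

lemma ass_eq_empty_of_subsingleton [Subsingleton A] : ass S' A = ∅ := by
  rw [Set.eq_empty_iff_forall_notMem]
  intro q hq
  rw [mem_ass_iff] at hq
  obtain ⟨hq', a, ha⟩ := hq
  apply hq'.ne_top
  rw [Ideal.eq_top_iff_one, ha, Subsingleton.elim a 0, smul_zero]

end general

section tensor

variable [Module.Flat R N]

/-- `N ⊗ R/p₁ ≅ N / p₁ N` on the level of associated primes -/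
lemma ass_tensor_quotient (p₁ : Ideal R) :
    ass S (N ⊗[R] (R ⧸ p₁)) = ass S (N ⧸ (p₁.map (algebraMap R S)) • (⊤ : Submodule S N)) := by
  let f : N →ₗ[S] N ⊗[R] (R ⧸ p₁) :=
    { toFun := fun n => n ⊗ₜ[R] (1 : R ⧸ p₁)
      map_add' := fun x y => add_tmul x y 1
      map_smul' := fun s x => rfl }
  have hf : Function.Surjective f := by
    intro x
    induction x using TensorProduct.induction_on with
    | zero => exact ⟨0, map_zero f⟩
    | tmul n r =>
      obtain ⟨r, rfl⟩ := Ideal.Quotient.mk_surjective r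
      refine ⟨r • n, ?_⟩
      change (r • n) ⊗ₜ[R] (1 : R ⧸ p₁) = _
      rw [TensorProduct.smul_tmul, Algebra.smul_def, mul_one]
      rfl
    | add x y hx hy =>
      obtain ⟨a, rfl⟩ := hx
      obtain ⟨b, rfl⟩ := hy
      exact ⟨a + b, map_add f a b⟩
  have hker : LinearMap.ker f = (p₁.map (algebraMap R S)) • (⊤ : Submodule S N) := by
    ext n
    rw [LinearMap.mem_ker, mem_map_smul_top_iff]
    change n ⊗ₜ[R] (1 : R ⧸ p₁) = 0 ↔ _
    rw [← (tensorQuotEquivQuotSMul N p₁).map_eq_zero_iff, ← map_one (Ideal.Quotient.mk p₁),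
      tensorQuotEquivQuotSMul_tmul_mk, one_smul, Submodule.Quotient.mk_eq_zero]
  rw [← hker]
  exact (ass_eq_of_equiv (f.quotKerEquivOfSurjective hf)).symm

/-- (S9670) -/
theorem mem_ass_quotient_of_mem_ass_tensor [IsNoetherianRing R] (M : Type u) [AddCommGroup M] [Module R M]
    [Module.Finite R M] (q : Ideal S) (h : q ∈ ass S (N ⊗[R] M)) :
    q ∈ ass S (N ⧸ ((q.comap (algebraMap R S)).map (algebraMap R S)) • (⊤ : Submodule S N)) := by
  revert q
  induction ‹Module.Finite R M› using IsNoetherianRing.induction_on_isQuotientEquivQuotientPrime R with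
  | subsingleton M =>
    intro q h
    rw [ass_eq_empty_of_subsingleton] at h
    exact absurd h (Set.notMem_empty q)
  | quotient M p₁ e =>
    intro q h
    have : p₁.1.IsPrime := p₁.2
    have h1 : q ∈ ass S (N ⊗[R] (R ⧸ p₁.1)) := by
      rw [← ass_eq_of_equiv (TensorProduct.AlgebraTensorModule.congr (LinearEquiv.refl S N) e)]
      exact h
    rw [ass_tensor_quotient] at h1
    have h2 := comap_eq_of_mem_ass_quotient_of_flat N p₁.1 q h1
    rw [h2]
    exact h1
  | exact M₁ M₂ M₃ f g hf hg hfg ih₁ ih₃ =>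
    intro q h
    have hf' : Function.Injective (TensorProduct.AlgebraTensorModule.lTensor S N f) :=
      Module.Flat.lTensor_preserves_injective_linearMap (M := N) f hf
    have hfg' : Function.Exact (TensorProduct.AlgebraTensorModule.lTensor S N f)
        (TensorProduct.AlgebraTensorModule.lTensor S N g) := lTensor_exact N hfg hg
    rcases ass_subset_union_of_exact _ _ hf' hfg' h with h1 | h1
    · exact ih₁ q h1
    · exact ih₃ q h1

end tensor

end Groth.Agent.Lib.Helper45.FibreAss
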