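import Mathlib

/-!
# Fitting ideals: minors, Laplace expansion (helper45)

For a set `K` of vectors in `R^n`:
* `Min K j` : ideal generated by the `j × j` minors whose columns are (restrictions of) vectors of `K`;
* `J K k` : ideal generated by determinants of `n × n` matrices all of whose rows, except at most `k`, lie in `K`;
* `F0 K k` : same with the convention "the first `n - k` rows lie in `K`" (the convention of `Fitt.ideal`).

Main results: `Min_succ_le`, `Min_antitone`, `Min_span`, `J_le_Min`, `Min_le_F0`, `F0_le_J`, hence
`J K k = Min K (n - k) = F0 K k`.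
-/

namespace Groth.Agent.Lib.Helper45.Fitting

open Matrix

universe u

variable {R : Type u} [CommRing R]

/-- the minor with columns `z b` (restricted to the coordinates `e a`) -/
noncomputable def minor {n j : ℕ} (z : Fin j → (Fin n → R)) (e : Fin j → Fin n) : R :=
  (Matrix.of fun a b => z b (e a)).det

/-- ideal of `j × j` minors of vectors from `K` -/
def Min {n : ℕ} (K : Set (Fin n → R)) (j : ℕ) : Ideal R :=
  Ideal.span {d | ∃ (z : Fin j → (Fin n → R)) (e : Fin j → Fin n), (∀ b, z b ∈ K) ∧ d = minor z e}

lemma minor_mem_Min {n j : ℕ} {K : Set (Fin n → R)} (z : Fin j → (Fin n → R)) (e : Fin j → Fin n)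
    (hz : ∀ b, z b ∈ K) : minor z e ∈ Min K j :=
  Ideal.subset_span ⟨z, e, hz, rfl⟩

lemma Min_mono {n : ℕ} {K K' : Set (Fin n → R)} (h : K ⊆ K') (j : ℕ) : Min K j ≤ Min K' j := by
  apply Ideal.span_mono
  rintro d ⟨z, e, hz, rfl⟩
  exact ⟨z, e, fun b => h (hz b), rfl⟩

lemma Min_zero {n : ℕ} (K : Set (Fin n → R)) : Min K 0 = ⊤ := by
  rw [Ideal.eq_top_iff_one]
  have : (1 : R) = minor (n := n) (j := 0) (fun b => b.elim0) (fun b => b.elim0) := by
    simp [minor]
  rw [this]
  exact minor_mem_Min _ _ (fun b => b.elim0)

lemma Min_succ_le {n : ℕ} (K : Set (Fin n → R)) (j : ℕ) : Min K (j + 1) ≤ Min K j := by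
  rw [Min, Ideal.span_le]
  rintro d ⟨z, e, hz, rfl⟩
  rw [minor, Matrix.det_succ_row_zero]
  apply Ideal.sum_mem
  intro b _
  apply Ideal.mul_mem_left
  have : ((Matrix.of fun a b => z b (e a)).submatrix Fin.succ b.succAbove).det =
      minor (fun b' => z (b.succAbove b')) (fun a' => e a'.succ) := rfl
  rw [this]
  exact minor_mem_Min _ _ (fun b' => hz _)

lemma Min_antitone {n : ℕ} (K : Set (Fin n → R)) {j j' : ℕ} (h : j ≤ j') : Min K j' ≤ Min K j := by
  induction h with
  | refl => exact le_refl _
  | step _ ih => exact (Min_succ_le K _).trans ih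

/-- minors are multilinear in the columns: adding -/
lemma minor_update_add {n j : ℕ} (z : Fin j → (Fin n → R)) (e : Fin j → Fin n) (b : Fin j)
    (v w : Fin n → R) :
    minor (Function.update z b (v + w)) e = minor (Function.update z b v) e + minor (Function.update z b w) e := by
  have h : ∀ u : Fin n → R, (Matrix.of fun a b' => (Function.update z b u) b' (e a)) =
      Matrix.updateCol (Matrix.of fun a b' => z b' (e a)) b (fun a => u (e a)) := by
    intro u
    ext a b'
    by_cases hb : b' = b
    · subst hb; simp
    · simp [hb, Matrix.updateCol_ne hb]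
  simp only [minor, h]
  rw [← Matrix.det_updateCol_add]
  rfl

lemma minor_update_smul {n j : ℕ} (z : Fin j → (Fin n → R)) (e : Fin j → Fin n) (b : Fin j)
    (r : R) (v : Fin n → R) :
    minor (Function.update z b (r • v)) e = r * minor (Function.update z b v) e := by
  have h : ∀ u : Fin n → R, (Matrix.of fun a b' => (Function.update z b u) b' (e a)) =
      Matrix.updateCol (Matrix.of fun a b' => z b' (e a)) b (fun a => u (e a)) := by
    intro u
    ext a b'
    by_cases hb : b' = b
    · subst hb; simp
    · simp [hb, Matrix.updateCol_ne hb]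
  simp only [minor, h]
  rw [← Matrix.det_updateCol_smul]
  rfl

lemma minor_update_zero {n j : ℕ} (z : Fin j → (Fin n → R)) (e : Fin j → Fin n) (b : Fin j) :
    minor (Function.update z b 0) e = 0 := by
  have := minor_update_smul z e b 0 0
  simpa using this

/-- minors of vectors in the span are combinations of minors of the generators -/
lemma Min_span {n : ℕ} (G : Set (Fin n → R)) (j : ℕ) :
    Min (Submodule.span R G : Set (Fin n → R)) j = Min G j := by
  apply le_antisymm
  · rw [Min, Ideal.span_le]
    rintro d ⟨z, e, hz, rfl⟩
    -- induction on the set of columns not yet in `G`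
    suffices H : ∀ (t : Finset (Fin j)) (z : Fin j → (Fin n → R)),
        (∀ b ∈ t, z b ∈ Submodule.span R G) → (∀ b ∉ t, z b ∈ G) → minor z e ∈ Min G j from
      H Finset.univ z (fun b _ => hz b) (fun b hb => absurd (Finset.mem_univ b) hb)
    intro t
    induction t using Finset.induction_on with
    | empty =>
      intro z _ h2
      exact minor_mem_Min z e (fun b => h2 b (Finset.notMem_empty b))
    | insert b₀ t hb₀ ih =>
      intro z h1 h2
      have hzb : z b₀ ∈ Submodule.span R G := h1 b₀ (Finset.mem_insert_self _ _)
      have key : ∀ v ∈ Submodule.span R G, minor (Function.update z b₀ v) e ∈ Min G j := by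
        intro v hv
        induction hv using Submodule.span_induction with
        | mem v hv =>
          apply ih
          · intro b hb
            have : b ≠ b₀ := fun h => hb₀ (h ▸ hb)
            rw [Function.update_of_ne this]
            exact h1 b (Finset.mem_insert_of_mem hb)
          · intro b hb
            by_cases hbb : b = b₀
            · subst hbb; simpa using hv
            · rw [Function.update_of_ne hbb]
              exact h2 b (fun h => by
                rcases Finset.mem_insert.mp h with h | h
                · exact hbb h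
                · exact hb h)
        | zero => rw [minor_update_zero]; exact Ideal.zero_mem _
        | add v w _ _ hv hw => rw [minor_update_add]; exact Ideal.add_mem _ hv hw
        | smul r v _ hv => rw [minor_update_smul]; exact Ideal.mul_mem_left _ _ hv
      have := key (z b₀) hzb
      rwa [Function.update_eq_self] at this
  · exact Min_mono Submodule.subset_span j

/-- determinants of `n × n` matrices all of whose rows, except those in a set of at most `k` rows, lie in `K` -/
def J {n : ℕ} (K : Set (Fin n → R)) (k : ℕ) : Ideal R :=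
  Ideal.span {d | ∃ (a : Matrix (Fin n) (Fin n) R) (s : Finset (Fin n)), s.card ≤ k ∧
    (∀ i, i ∉ s → a i ∈ K) ∧ d = a.det}

/-- determinants of `n × n` matrices whose first `n - k` rows lie in `K` -/
def F0 {n : ℕ} (K : Set (Fin n → R)) (k : ℕ) : Ideal R :=
  Ideal.span {d | ∃ (a : Matrix (Fin n) (Fin n) R), (∀ i : Fin n, (i : ℕ) < n - k → a i ∈ K) ∧ d = a.det}

lemma J_mono_k {n : ℕ} (K : Set (Fin n → R)) {k k' : ℕ} (h : k ≤ k') : J K k ≤ J K k' := by
  apply Ideal.span_mono
  rintro d ⟨a, s, hs, ha, rfl⟩
  exact ⟨a, s, hs.trans h, ha, rfl⟩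

lemma J_mono {n : ℕ} {K K' : Set (Fin n → R)} (h : K ⊆ K') (k : ℕ) : J K k ≤ J K' k := by
  apply Ideal.span_mono
  rintro d ⟨a, s, hs, ha, rfl⟩
  exact ⟨a, s, hs, fun i hi => h (ha i hi), rfl⟩

lemma F0_le_J {n : ℕ} (K : Set (Fin n → R)) (k : ℕ) : F0 K k ≤ J K k := by
  apply Ideal.span_mono
  rintro d ⟨a, ha, rfl⟩
  refine ⟨a, Finset.univ.filter (fun i : Fin n => ¬ (i : ℕ) < n - k), ?_, ?_, rfl⟩
  · have h1 : (Finset.univ.filter (fun i : Fin n => ¬ (i : ℕ) < n - k)).card ≤ (Finset.Ico (n - k) n).card := by
      apply Finset.card_le_card_of_injOn (fun i : Fin n => (i : ℕ))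
      · intro i hi
        have hi' : ¬ (i : ℕ) < n - k := by simpa using hi
        simp only [Finset.coe_Ico, Set.mem_Ico]
        exact ⟨not_lt.mp hi', i.2⟩
      · intro i _ i' _ h
        exact Fin.ext h
    rw [Nat.card_Ico] at h1
    omega
  · intro i hi
    simp only [Finset.mem_filter, Finset.mem_univ, true_and, not_not] at hi
    exact ha i hi

/-- **Laplace expansion**: the determinant of a matrix all of whose rows outside `s` lie in `K` is a combination
of `(n - |s|)`-minors of `K`. -/
lemma det_mem_Min : ∀ (n : ℕ) (K : Set (Fin n → R)) (a : Matrix (Fin n) (Fin n) R) (s : Finset (Fin n)),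
    (∀ i, i ∉ s → a i ∈ K) → a.det ∈ Min K (n - s.card) := by
  intro n
  induction n with
  | zero =>
    intro K a s _
    rw [Nat.zero_sub, Min_zero]
    exact Submodule.mem_top
  | succ n ih =>
    intro K a s ha
    by_cases hs : s = ∅
    · subst hs
      rw [Finset.card_empty, Nat.sub_zero]
      have : a.det = minor (fun b => a b) id := by
        rw [minor, ← Matrix.det_transpose]
        rfl
      rw [this]
      exact minor_mem_Min _ _ (fun b => ha b (Finset.notMem_empty b))
    · obtain ⟨i₀, hi₀⟩ := Finset.nonempty_iff_ne_empty.mpr hs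
      rw [Matrix.det_succ_row a i₀]
      apply Ideal.sum_mem
      intro c _
      apply Ideal.mul_mem_left
      -- the minor matrix
      set K' : Set (Fin n → R) := {v | ∃ w ∈ K, v = fun l => w (c.succAbove l)} with hK'
      set s' : Finset (Fin n) := Finset.univ.filter (fun i' => i₀.succAbove i' ∈ s) with hs'
      have h1 := ih K' (a.submatrix i₀.succAbove c.succAbove) s' (by
        intro i' hi'
        simp only [hs', Finset.mem_filter, Finset.mem_univ, true_and] at hi'
        exact ⟨a (i₀.succAbove i'), ha _ hi', rfl⟩)
      have hcard : s'.card + 1 ≤ s.card := by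
        have : s'.card ≤ (s.erase i₀).card := by
          apply Finset.card_le_card_of_injOn (fun i' => i₀.succAbove i')
          · intro i' hi'
            have hi'' : i₀.succAbove i' ∈ s := by simpa [hs'] using hi'
            have : i₀.succAbove i' ∈ s.erase i₀ := Finset.mem_erase.mpr ⟨Fin.succAbove_ne i₀ i', hi''⟩
            exact this
          · intro i' _ i'' _ h
            exact Fin.succAbove_right_injective h
        rw [Finset.card_erase_of_mem hi₀] at this
        have hpos : 0 < s.card := Finset.card_pos.mpr ⟨i₀, hi₀⟩
        omega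
      have hscard : s.card ≤ n + 1 := by
        have := Finset.card_le_univ s
        simpa using this
      have h2 : Min K' (n - s'.card) ≤ Min K' (n + 1 - s.card) := Min_antitone K' (by omega)
      have h3 : Min K' (n + 1 - s.card) ≤ Min K (n + 1 - s.card) := by
        rw [Min, Ideal.span_le]
        rintro d ⟨z, e, hz, rfl⟩
        choose w hw hzw using hz
        have : minor z e = minor w (fun a' => c.succAbove (e a')) := by
          simp only [minor]
          congr 1
          ext a' b
          simp [hzw b]
        rw [this]
        exact minor_mem_Min _ _ hw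
      exact h3 (h2 h1)

lemma J_le_Min {n : ℕ} (K : Set (Fin n → R)) (k : ℕ) : J K k ≤ Min K (n - k) := by
  rw [J, Ideal.span_le]
  rintro d ⟨a, s, hs, ha, rfl⟩
  exact Min_antitone K (by omega) (det_mem_Min n K a s ha)

lemma minor_snoc_single {n j : ℕ} (z : Fin j → (Fin n → R)) (e : Fin j → Fin n) (c : Fin n)
    (hc : ∀ a, e a ≠ c) :
    minor (Fin.snoc (α := fun _ => Fin n → R) z (Pi.single c 1)) (Fin.snoc (α := fun _ => Fin n) e c) =
      minor z e := by
  classical
  rw [minor, Matrix.det_succ_column _ (Fin.last j)]
  rw [Finset.sum_eq_single (Fin.last j)]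
  · simp only [Matrix.of_apply, Fin.snoc_last, Pi.single_eq_same, mul_one, Fin.val_last]
    rw [← two_mul, pow_mul]
    simp only [neg_one_sq, one_pow, one_mul]
    rw [minor]
    congr 1
    ext a b
    simp [Fin.succAbove_last]
  · intro a _ ha
    obtain ⟨a', rfl⟩ : ∃ a' : Fin j, a = a'.castSucc := ⟨a.castPred ha, by simp⟩
    simp only [Matrix.of_apply, Fin.snoc_last, Fin.snoc_castSucc]
    rw [Pi.single_eq_of_ne (hc a')]
    simp
  · intro h; exact absurd (Finset.mem_univ _) h

/-- every `(n-k)`-minor of `K` is (up to sign) the determinant of a matrix whose first `n - k` rows are in `K` -/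
lemma minor_mem_F0 {n : ℕ} (K : Set (Fin n → R)) (k : ℕ) : ∀ (t j : ℕ), j + t = n → n - k ≤ j →
    ∀ (z : Fin j → (Fin n → R)), (∀ b : Fin j, (b : ℕ) < n - k → z b ∈ K) →
    ∀ e : Fin j → Fin n, minor z e ∈ F0 K k := by
  classical
  intro t
  induction t with
  | zero =>
    intro j hj _ z hz e
    have hjn : j = n := by omega
    subst hjn
    by_cases he : Function.Bijective e
    · let σ : Equiv.Perm (Fin j) := Equiv.ofBijective e he
      have h1 : (Matrix.of fun a b => z b (e a)) = (Matrix.of fun a b => z b a).submatrix σ id := by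
        ext a b; rfl
      rw [minor, h1, Matrix.det_permute]
      apply Ideal.mul_mem_left
      have h2 : (Matrix.of fun a b => z b a).det = (Matrix.of z).det := by
        rw [← Matrix.det_transpose]; rfl
      rw [h2]
      exact Ideal.subset_span ⟨Matrix.of z, fun i hi => hz i hi, rfl⟩
    · have he' : ¬ Function.Injective e := fun h => he (Finite.injective_iff_bijective.mp h)
      rw [Function.Injective] at he'
      push Not at he'
      obtain ⟨a, a', hee, hne⟩ := he'
      have : minor z e = 0 := by
        rw [minor]
        apply Matrix.det_zero_of_row_eq hne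
        ext b
        simp [hee]
      rw [this]
      exact Ideal.zero_mem _
  | succ t ih =>
    intro j hj hjk z hz e
    have hjn : j < n := by omega
    have hns : ¬ Function.Surjective e := by
      intro hsurj
      have := Fintype.card_le_of_surjective e hsurj
      simp at this
      omega
    rw [Function.Surjective] at hns
    push Not at hns
    obtain ⟨c, hc⟩ := hns
    rw [← minor_snoc_single z e c hc]
    apply ih (j + 1) (by omega) (by omega)
    intro b hb
    have hbj : (b : ℕ) < j := by omega
    have : b = (b.castLT hbj).castSucc := by simp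
    rw [this, Fin.snoc_castSucc]
    exact hz _ hb

lemma Min_le_F0 {n : ℕ} (K : Set (Fin n → R)) (k : ℕ) : Min K (n - k) ≤ F0 K k := by
  rw [Min, Ideal.span_le]
  rintro d ⟨z, e, hz, rfl⟩
  exact minor_mem_F0 K k (n - (n - k)) (n - k) (by omega) (le_refl _) z (fun b _ => hz b) e

theorem J_eq_Min {n : ℕ} (K : Set (Fin n → R)) (k : ℕ) : J K k = Min K (n - k) :=
  le_antisymm (J_le_Min K k) ((Min_le_F0 K k).trans (F0_le_J K k))

theorem F0_eq_Min {n : ℕ} (K : Set (Fin n → R)) (k : ℕ) : F0 K k = Min K (n - k) :=
  le_antisymm ((F0_le_J K k).trans (J_le_Min K k)) (Min_le_F0 K k)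

theorem F0_eq_J {n : ℕ} (K : Set (Fin n → R)) (k : ℕ) : F0 K k = J K k :=
  (F0_eq_Min K k).trans (J_eq_Min K k).symm

/-- the `n × n` minors of the rows of a square matrix generate the ideal `(det)` -/
theorem Min_range_rows {n : ℕ} (A : Matrix (Fin n) (Fin n) R) :
    Min (Set.range (fun i => A i)) n = Ideal.span {A.det} := by
  classical
  apply le_antisymm
  · rw [Min, Ideal.span_le]
    rintro d ⟨z, e, hz, rfl⟩
    choose τ hτ using hz
    have h1 : minor z e = (A.submatrix τ e).det := by
      rw [minor, ← Matrix.det_transpose]
      congr 1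
      ext a b
      simp [← hτ a]
    rw [SetLike.mem_coe, h1]
    by_cases hτb : Function.Bijective τ
    · by_cases heb : Function.Bijective e
      · let σ₁ : Equiv.Perm (Fin n) := Equiv.ofBijective τ hτb
        let σ₂ : Equiv.Perm (Fin n) := Equiv.ofBijective e heb
        have : A.submatrix τ e = (A.submatrix σ₁ id).submatrix id σ₂ := rfl
        rw [this, Matrix.det_permute', Matrix.det_permute]
        apply Ideal.mul_mem_left
        apply Ideal.mul_mem_left
        exact Ideal.subset_span rfl
      · have he' : ¬ Function.Injective e := fun h => heb (Finite.injective_iff_bijective.mp h)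
        rw [Function.Injective] at he'
        push Not at he'
        obtain ⟨a, a', hee, hne⟩ := he'
        have h0 : (A.submatrix τ e).det = 0 :=
          Matrix.det_zero_of_column_eq hne (fun i => by simp only [Matrix.submatrix_apply, hee])
        rw [h0]
        exact Ideal.zero_mem _
    · have hτ' : ¬ Function.Injective τ := fun h => hτb (Finite.injective_iff_bijective.mp h)
      rw [Function.Injective] at hτ'
      push Not at hτ'
      obtain ⟨a, a', hee, hne⟩ := hτ'
      have h0 : (A.submatrix τ e).det = 0 :=
        Matrix.det_zero_of_row_eq hne (by ext i; simp only [Matrix.submatrix_apply, hee])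
      rw [h0]
      exact Ideal.zero_mem _
  · rw [Ideal.span_le, Set.singleton_subset_iff]
    have : A.det = minor (fun b => A b) id := by
      rw [minor, ← Matrix.det_transpose]
      rfl
    rw [this]
    exact minor_mem_Min _ _ (fun b => ⟨b, rfl⟩)

end Groth.Agent.Lib.Helper45.Fitting
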