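import Groth.Agent.Lib.Helper45.FittingIndep

/-!
# Base change of Fitting ideals (helper45)

`fitt_baseChange : Fitt.ideal R' (R' ⊗[R] M) k = (Fitt.ideal R M k).map (algebraMap R R')` for a finite module `M`.
-/

namespace Groth.Agent.Lib.Helper45.Fitting

open Matrix TensorProduct

universe u v w

variable {R : Type u} [CommRing R] (R' : Type w) [CommRing R'] [Algebra R R']
  {M : Type v} [AddCommGroup M] [Module R M]

variable (R) in
/-- the base-changed tuple -/
def bcTuple {n : ℕ} (x : Fin n → M) : Fin n → R' ⊗[R] M :=
  fun i => (1 : R') ⊗ₜ[R] x i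

lemma span_bcTuple {n : ℕ} (x : Fin n → M) (hx : Submodule.span R (Set.range x) = ⊤) :
    Submodule.span R' (Set.range (bcTuple R R' x)) = ⊤ := by
  rw [eq_top_iff]
  rintro t -
  induction t using TensorProduct.induction_on with
  | zero => exact Submodule.zero_mem _
  | add a b ha hb => exact Submodule.add_mem _ ha hb
  | tmul r m =>
    have hm : m ∈ Submodule.span R (Set.range x) := by rw [hx]; exact Submodule.mem_top
    induction hm using Submodule.span_induction with
    | mem m hm =>
      obtain ⟨i, rfl⟩ := hm
      have : r ⊗ₜ[R] x i = r • bcTuple R R' x i := by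
        rw [bcTuple, TensorProduct.smul_tmul', smul_eq_mul, mul_one]
      rw [this]
      exact Submodule.smul_mem _ _ (Submodule.subset_span ⟨i, rfl⟩)
    | zero => rw [TensorProduct.tmul_zero]; exact Submodule.zero_mem _
    | add u v _ _ hu hv => rw [TensorProduct.tmul_add]; exact Submodule.add_mem _ hu hv
    | smul c u _ hu =>
      rw [TensorProduct.tmul_smul]
      have : c • r ⊗ₜ[R] u = (algebraMap R R' c) • (r ⊗ₜ[R] u) := by
        rw [algebraMap_smul]
      rw [this]
      exact Submodule.smul_mem _ _ hu

/-- the vector of images -/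
def mapVec {n : ℕ} (v : Fin n → R) : Fin n → R' :=
  fun i => algebraMap R R' (v i)

lemma minor_mapVec {n j : ℕ} (z : Fin j → (Fin n → R)) (e : Fin j → Fin n) :
    minor (fun b => mapVec R' (z b)) e = algebraMap R R' (minor z e) := by
  rw [minor, minor, RingHom.map_det]
  rfl

/-- relations of the base-changed tuple are spanned by the images of the relations -/
lemma Rel_bcTuple {n : ℕ} (x : Fin n → M) (hx : Submodule.span R (Set.range x) = ⊤) :
    (Rel R' (bcTuple R R' x) : Submodule R' (Fin n → R')) =
      Submodule.span R' (mapVec R' '' (Rel R x : Set (Fin n → R))) := by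
  classical
  apply le_antisymm
  · intro v' hv'
    rw [mem_Rel] at hv'
    let f : (Rel R x) →ₗ[R] (Fin n → R) := (Rel R x).subtype
    let g : (Fin n → R) →ₗ[R] M := Fintype.linearCombination R x
    have hfg : Function.Exact f g := by
      intro v
      constructor
      · intro hv; exact ⟨⟨v, hv⟩, rfl⟩
      · rintro ⟨k, rfl⟩; exact k.2
    have hg : Function.Surjective g := by
      rw [← LinearMap.range_eq_top, Fintype.range_linearCombination, hx]
    have hex := lTensor_exact R' hfg hg
    let φ := TensorProduct.piScalarRight R R' R' (Fin n)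
    let t := φ.symm v'
    have ht : t = ∑ i, v' i ⊗ₜ[R] (Pi.single i (1 : R) : Fin n → R) := by
      have hv'sum : v' = ∑ i, Pi.single i (v' i) := by
        ext j; simp [Finset.sum_apply, Pi.single_apply]
      change φ.symm v' = _
      conv_lhs => rw [hv'sum]
      rw [map_sum]
      simp [φ]
    have hker : (LinearMap.lTensor R' g) t = 0 := by
      rw [ht, map_sum]
      simp only [LinearMap.lTensor_tmul, g, Fintype.linearCombination_apply_single, one_smul]
      rw [← hv']
      apply Finset.sum_congr rfl
      intro i _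
      rw [bcTuple, TensorProduct.smul_tmul', smul_eq_mul, mul_one]
    have claim : ∀ s : R' ⊗[R] (Rel R x), φ ((LinearMap.lTensor R' f) s) ∈
        Submodule.span R' (mapVec R' '' (Rel R x : Set (Fin n → R))) := by
      intro s
      induction s using TensorProduct.induction_on with
      | zero => simp
      | add a b ha hb =>
        rw [map_add, map_add]
        exact Submodule.add_mem _ ha hb
      | tmul r k =>
        have : φ ((LinearMap.lTensor R' f) (r ⊗ₜ[R] k)) = r • mapVec R' (k : Fin n → R) := by
          ext i
          simp [φ, f, mapVec, Algebra.smul_def, mul_comm]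
        rw [this]
        exact Submodule.smul_mem _ _ (Submodule.subset_span ⟨k, k.2, rfl⟩)
    obtain ⟨s, hs⟩ := (hex t).mp hker
    have hv'eq : v' = φ ((LinearMap.lTensor R' f) s) := by
      rw [hs]; exact (φ.apply_symm_apply v').symm
    rw [hv'eq]
    exact claim s
  · rw [Submodule.span_le]
    rintro _ ⟨v, hv, rfl⟩
    change mapVec R' v ∈ Rel R' _
    rw [mem_Rel]
    have hv' := (mem_Rel x v).mp hv
    simp only [mapVec, bcTuple, algebraMap_smul, ← TensorProduct.tmul_smul, ← TensorProduct.tmul_sum, hv',
      TensorProduct.tmul_zero]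

/-- **Base change of Fitting ideals.** -/
theorem fitt_baseChange [Module.Finite R M] (k : ℕ) :
    Fitt.ideal R' (R' ⊗[R] M) k = (Fitt.ideal R M k).map (algebraMap R R') := by
  obtain ⟨n, x, hx⟩ := Module.Finite.exists_fin (R := R) (M := M)
  rw [fitt_eq_Min x hx k, fitt_eq_Min (bcTuple R R' x) (span_bcTuple R' x hx) k, Rel_bcTuple R' x hx,
    Min_span, Min, Min, Ideal.map_span]
  congr 1
  ext d
  constructor
  · rintro ⟨z, e, hz, rfl⟩
    choose w hw hzw using hz
    refine ⟨minor w e, ⟨w, e, hw, rfl⟩, ?_⟩
    rw [← minor_mapVec]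
    congr 1
    funext b
    exact hzw b
  · rintro ⟨d, ⟨z, e, hz, rfl⟩, rfl⟩
    exact ⟨fun b => mapVec R' (z b), e, fun b => ⟨z b, hz b, rfl⟩, (minor_mapVec R' z e).symm⟩

end Groth.Agent.Lib.Helper45.Fitting
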