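import Groth.Agent.Lib.Helper45.FittingIndep

/-!
# Fitting ideals of Kähler differentials via a presentation (helper45)

For a presentation `P` of `S` over `R` with generators indexed by `Fin n`:
* `kTuple P j = d(x_j)` generate `Ω[S⁄R]`;
* `Rel_kTuple` : their relations are spanned by the rows of the Jacobian matrix;
* `fitt_kaehler_eq_Min` : `Fitt.ideal S Ω[S⁄R] k = Min (range (jacRow P)) (n - k)`.
-/

namespace Groth.Agent.Lib.Helper45.Fitting

open Algebra MvPolynomial KaehlerDifferential

universe u t

variable {R S : Type u} [CommRing R] [CommRing S] [Algebra R S] {n : ℕ} {σ : Type t}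
  (P : Algebra.Presentation R S (Fin n) σ)

/-- the generators `d x_j` of the module of differentials -/
noncomputable def kTuple : Fin n → Ω[S⁄R] :=
  fun j => P.toExtension.toKaehler (P.cotangentSpaceBasis j)

/-- the rows of the Jacobian matrix (images in `S` of the partial derivatives of the relations) -/
noncomputable def jacRow (r : σ) : Fin n → S :=
  fun j => aeval P.val (pderiv j (P.relation r))

lemma span_kTuple : Submodule.span S (Set.range (kTuple P)) = ⊤ := by
  have : Set.range (kTuple P) = P.toExtension.toKaehler '' Set.range P.cotangentSpaceBasis := by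
    rw [← Set.range_comp]; rfl
  rw [this, ← Submodule.map_span, P.cotangentSpaceBasis.span_eq, Submodule.map_top, LinearMap.range_eq_top]
  exact Algebra.Extension.toKaehler_surjective

lemma repr_cotangentComplex_mk (r : σ) :
    (fun j => P.cotangentSpaceBasis.repr (P.toExtension.cotangentComplex
      (Extension.Cotangent.mk ⟨P.relation r, P.relation_mem_ker r⟩)) j) = jacRow P r := by
  funext j
  rw [Extension.cotangentComplex_mk]
  exact P.cotangentSpaceBasis_repr_one_tmul _ j

lemma Rel_kTuple : (Rel S (kTuple P) : Submodule S (Fin n → S)) =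
    Submodule.span S (Set.range (jacRow P)) := by
  classical
  -- the linear map `v ↦ Σ v j • basis j`
  let e : (Fin n → S) ≃ₗ[S] P.toExtension.CotangentSpace := P.cotangentSpaceBasis.equivFun.symm
  have he : ∀ v, e v = ∑ j, v j • P.cotangentSpaceBasis j := fun v => P.cotangentSpaceBasis.equivFun_symm_apply v
  have hrel : ∀ v : Fin n → S, v ∈ Rel S (kTuple P) ↔ P.toExtension.toKaehler (e v) = 0 := by
    intro v
    rw [mem_Rel, he, map_sum]
    simp only [map_smul, kTuple]
  apply le_antisymm
  · intro v hv
    rw [hrel] at hv
    obtain ⟨c, hc⟩ := (Algebra.Extension.exact_cotangentComplex_toKaehler (e v)).mp hv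
    have hspan := Extension.Cotangent.span_eq_top_of_span_eq_ker (P := P.toExtension) P.relation
      P.span_range_relation_eq_ker
    have hc' : c ∈ Submodule.span S (Set.range (fun i => Extension.Cotangent.mk (P := P.toExtension)
        ⟨P.relation i, P.span_range_relation_eq_ker.le (Ideal.subset_span ⟨i, rfl⟩)⟩)) := by
      rw [hspan]; exact Submodule.mem_top
    have hv' : v = e.symm (P.toExtension.cotangentComplex c) := by
      rw [hc, LinearEquiv.symm_apply_apply]
    rw [hv']
    clear hv' hc hv
    induction hc' using Submodule.span_induction with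
    | mem c hc =>
      obtain ⟨r, rfl⟩ := hc
      apply Submodule.subset_span
      refine ⟨r, ?_⟩
      rw [← repr_cotangentComplex_mk]
      rfl
    | zero => simp
    | add a b _ _ ha hb => rw [map_add, map_add]; exact Submodule.add_mem _ ha hb
    | smul s a _ ha => rw [map_smul, map_smul]; exact Submodule.smul_mem _ _ ha
  · rw [Submodule.span_le]
    rintro _ ⟨r, rfl⟩
    rw [SetLike.mem_coe, hrel]
    have : e (jacRow P r) = P.toExtension.cotangentComplex
        (Extension.Cotangent.mk ⟨P.relation r, P.relation_mem_ker r⟩) := by
      rw [← repr_cotangentComplex_mk]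
      exact P.cotangentSpaceBasis.equivFun.symm_apply_apply _
    rw [this]
    exact (Algebra.Extension.exact_cotangentComplex_toKaehler _).mpr ⟨_, rfl⟩

theorem fitt_kaehler_eq_Min (k : ℕ) :
    Fitt.ideal S (Ω[S⁄R]) k = Min (Set.range (jacRow P)) (n - k) := by
  rw [fitt_eq_Min (kTuple P) (span_kTuple P) k, Rel_kTuple, Min_span]

end Groth.Agent.Lib.Helper45.Fitting
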