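import Groth.Agent.Lib.Helper45.FittingLocal
import Groth.Prelude.Def_CAlgX

/-!
# Fitting ideals of the cokernel of a matrix (helper45)

`fitt_coker_eq_minorIdeal : Fitt.ideal R (Rⁿ ⧸ range A) k = CAlgX.minorIdeal A (n - k)` for an `n × m` matrix `A`.
-/

namespace Groth.Agent.Lib.Helper45.Fitting

open Matrix

universe u

variable {R : Type u} [CommRing R] {n m : ℕ}

/-- standard generators of the cokernel of a matrix -/
def cokerTuple (A : Matrix (Fin n) (Fin m) R) : Fin n → (Fin n → R) ⧸ LinearMap.range A.mulVecLin :=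
  fun i => Submodule.Quotient.mk (Pi.single i 1)

lemma sum_smul_cokerTuple (A : Matrix (Fin n) (Fin m) R) (v : Fin n → R) :
    ∑ i, v i • cokerTuple A i = Submodule.Quotient.mk v := by
  have h : ∀ i, cokerTuple A i = (LinearMap.range A.mulVecLin).mkQ (Pi.single i 1) := fun i => rfl
  simp only [h, ← map_smul, ← map_sum]
  rw [Submodule.mkQ_apply]
  congr 1
  funext j
  simp [Finset.sum_apply, Pi.single_apply]

lemma span_cokerTuple (A : Matrix (Fin n) (Fin m) R) : Submodule.span R (Set.range (cokerTuple A)) = ⊤ := by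
  rw [eq_top_iff]
  rintro q -
  obtain ⟨v, rfl⟩ := Submodule.Quotient.mk_surjective _ q
  rw [← sum_smul_cokerTuple]
  exact Submodule.sum_mem _ (fun i _ => Submodule.smul_mem _ _ (Submodule.subset_span ⟨i, rfl⟩))

lemma Rel_cokerTuple (A : Matrix (Fin n) (Fin m) R) :
    Rel R (cokerTuple A) = LinearMap.range A.mulVecLin := by
  ext v
  rw [mem_Rel, sum_smul_cokerTuple, Submodule.Quotient.mk_eq_zero]

lemma Min_range_col (A : Matrix (Fin n) (Fin m) R) (j : ℕ) :
    Min (Set.range A.col) j = CAlgX.minorIdeal A j := by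
  rw [Min, CAlgX.minorIdeal]
  congr 1
  ext d
  constructor
  · rintro ⟨z, e, hz, rfl⟩
    choose c hc using hz
    refine ⟨(e, c), ?_⟩
    simp only [minor]
    congr 1
    ext a b
    simp [← hc b, Matrix.col]
  · rintro ⟨⟨e, c⟩, rfl⟩
    refine ⟨fun b => A.col (c b), e, fun b => ⟨c b, rfl⟩, ?_⟩
    simp only [minor]
    congr 1

/-- **Fitting ideals of a cokernel are ideals of minors.** -/
theorem fitt_coker_eq_minorIdeal (A : Matrix (Fin n) (Fin m) R) (k : ℕ) :
    Fitt.ideal R ((Fin n → R) ⧸ LinearMap.range A.mulVecLin) k = CAlgX.minorIdeal A (n - k) := by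
  rw [fitt_eq_Min (cokerTuple A) (span_cokerTuple A) k, Rel_cokerTuple, Matrix.range_mulVecLin, Min_span,
    Min_range_col]

/-- minors of size larger than the number of rows vanish -/
lemma minorIdeal_eq_bot_of_lt (A : Matrix (Fin n) (Fin m) R) {j : ℕ} (h : n < j) : CAlgX.minorIdeal A j = ⊥ := by
  rw [eq_bot_iff, CAlgX.minorIdeal, Ideal.span_le]
  rintro d ⟨⟨e, c⟩, rfl⟩
  obtain ⟨a, a', hne, hea⟩ := Fintype.exists_ne_map_eq_of_card_lt e (by simpa using h)
  rw [SetLike.mem_coe, Ideal.mem_bot]
  apply Matrix.det_zero_of_row_eq hne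
  funext b
  simp [hea]


/-- minor ideals are invariant under transposition -/
lemma minorIdeal_transpose (A : Matrix (Fin n) (Fin m) R) (j : ℕ) :
    CAlgX.minorIdeal Aᵀ j = CAlgX.minorIdeal A j := by
  rw [CAlgX.minorIdeal, CAlgX.minorIdeal]
  congr 1
  ext d
  constructor
  · rintro ⟨⟨e, c⟩, rfl⟩
    exact ⟨(c, e), by simp only; rw [← Matrix.det_transpose, Matrix.transpose_submatrix]⟩
  · rintro ⟨⟨e, c⟩, rfl⟩
    exact ⟨(c, e), by simp only; rw [← Matrix.det_transpose, Matrix.transpose_submatrix, Matrix.transpose_transpose]⟩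

/-- minors of size larger than the number of columns vanish -/
lemma minorIdeal_eq_bot_of_lt_col (A : Matrix (Fin n) (Fin m) R) {j : ℕ} (h : m < j) :
    CAlgX.minorIdeal A j = ⊥ := by
  rw [← minorIdeal_transpose]
  exact minorIdeal_eq_bot_of_lt Aᵀ h

/-- the cokernel of the dual map is the cokernel of the transposed matrix -/
noncomputable def cokerDualEquiv (A : Matrix (Fin n) (Fin m) R) :
    ((Fin m → R) ⧸ LinearMap.range Aᵀ.mulVecLin) ≃ₗ[R]
      (Module.Dual R (Fin m → R) ⧸ LinearMap.range A.mulVecLin.dualMap) :=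
  Submodule.Quotient.equiv _ _ (dotProductEquiv R (Fin m)) (by
    ext ψ
    constructor
    · rintro ⟨_, ⟨u, rfl⟩, rfl⟩
      refine ⟨dotProductEquiv R (Fin n) u, ?_⟩
      refine LinearMap.ext fun w => ?_
      simp only [LinearMap.dualMap_apply, Matrix.mulVecLin_apply, LinearEquiv.coe_coe,
        dotProductEquiv_apply_apply, Matrix.dotProduct_mulVec, Matrix.mulVec_transpose]
    · rintro ⟨φ, rfl⟩
      obtain ⟨u, rfl⟩ := (dotProductEquiv R (Fin n)).surjective φ
      refine ⟨Aᵀ *ᵥ u, ⟨u, rfl⟩, ?_⟩
      refine LinearMap.ext fun w => ?_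
      simp only [LinearMap.dualMap_apply, Matrix.mulVecLin_apply, LinearEquiv.coe_coe,
        dotProductEquiv_apply_apply, Matrix.dotProduct_mulVec, Matrix.mulVec_transpose])

theorem fitt_cokerDual_eq_minorIdeal (A : Matrix (Fin n) (Fin m) R) (k : ℕ) :
    Fitt.ideal R (Module.Dual R (Fin m → R) ⧸ LinearMap.range A.mulVecLin.dualMap) k =
      CAlgX.minorIdeal A (m - k) := by
  rw [← fitt_congr (cokerDualEquiv A) k, fitt_coker_eq_minorIdeal, minorIdeal_transpose]

section Summand

variable {F : Type*} [AddCommGroup F] [Module R F]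

/-- over a local ring, complementary submodules of a finite free module are finite free and ranks add -/
lemma summand_free [IsLocalRing R] [Module.Free R F] [Module.Finite R F] (P N' : Submodule R F) (h : IsCompl P N') :
    Module.Free R P ∧ Module.Finite R P ∧ Module.Free R N' ∧ Module.Finite R N' ∧
      Module.finrank R P + Module.finrank R N' = Module.finrank R F := by
  let E := Submodule.prodEquivOfIsCompl P N' h
  have hfree : Module.Free R (P × N') := Module.Free.of_equiv E.symm
  have hfin : Module.Finite R (P × N') := Module.Finite.equiv E.symm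
  have hP : Module.Projective R P :=
    Module.Projective.of_split (LinearMap.inl R P N') (LinearMap.fst R P N') (LinearMap.fst_comp_inl R P N')
  have hN : Module.Projective R N' :=
    Module.Projective.of_split (LinearMap.inr R P N') (LinearMap.snd R P N') (LinearMap.snd_comp_inr R P N')
  have hPf : Module.Finite R P := Module.Finite.of_surjective (LinearMap.fst R P N') LinearMap.fst_surjective
  have hNf : Module.Finite R N' := Module.Finite.of_surjective (LinearMap.snd R P N') LinearMap.snd_surjective
  have hP' : Module.Free R P := Module.free_of_flat_of_isLocalRing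
  have hN' : Module.Free R N' := Module.free_of_flat_of_isLocalRing
  refine ⟨hP', hPf, hN', hNf, ?_⟩
  rw [← Module.finrank_prod, E.finrank_eq]

/-- a submodule with projective quotient has a complement -/
lemma exists_isCompl_of_projective_quotient (P : Submodule R F) [Module.Projective R (F ⧸ P)] :
    ∃ N' : Submodule R F, IsCompl P N' := by
  obtain ⟨s, hs⟩ := Module.projective_lifting_property P.mkQ LinearMap.id (Submodule.mkQ_surjective P)
  have hs' : ∀ y, P.mkQ (s y) = y := fun y => LinearMap.congr_fun hs y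
  refine ⟨LinearMap.range s, ?_⟩
  constructor
  · rw [Submodule.disjoint_def]
    rintro x hxP ⟨y, rfl⟩
    have h1 : P.mkQ (s y) = 0 := by
      rw [Submodule.mkQ_apply, Submodule.Quotient.mk_eq_zero]; exact hxP
    rw [hs'] at h1
    rw [h1, map_zero]
  · rw [codisjoint_iff, eq_top_iff]
    rintro x -
    have h1 : x - s (P.mkQ x) ∈ P := by
      rw [← Submodule.Quotient.mk_eq_zero, ← Submodule.mkQ_apply, map_sub, hs', sub_self]
    have h2 : x = (x - s (P.mkQ x)) + s (P.mkQ x) := by abel
    rw [h2]
    exact Submodule.add_mem_sup h1 ⟨_, rfl⟩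

end Summand

end Groth.Agent.Lib.Helper45.Fitting
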