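import Groth.Agent.Lib.Helper45.FittingLocal

/-!
# Fitting ideals of a product (helper45)

* `det_mem_Min_of_fintype` : minors indexed by an arbitrary fintype.
* `det_eq_zero_of_block`, `det_block` : determinants of matrices which are block diagonal with respect to a partition of
  the rows and a partition of the columns.
* `fitt_prod` : `Fitt_l (M × M') = ∑_{k ≤ l} Fitt_k M * Fitt_{l-k} M'`.
-/

namespace Groth.Agent.Lib.Helper45.Fitting

open Matrix

universe u v

variable {R : Type u} [CommRing R]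

/-- minors indexed by an arbitrary fintype -/
lemma det_mem_Min_of_fintype {n : ℕ} {K : Set (Fin n → R)} {ι : Type*} [Fintype ι] [DecidableEq ι]
    (z : ι → (Fin n → R)) (e : ι → Fin n) (hz : ∀ b, z b ∈ K) :
    (Matrix.of fun a b => z b (e a)).det ∈ Min K (Fintype.card ι) := by
  let ψ := Fintype.equivFin ι
  have : (Matrix.of fun a b => z b (e a)).det = minor (z ∘ ψ.symm) (e ∘ ψ.symm) := by
    rw [minor, ← Matrix.det_submatrix_equiv_self ψ.symm]
    rfl
  rw [this]
  exact minor_mem_Min _ _ (fun b => hz _)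

lemma Min_eq_bot_of_lt {n : ℕ} (K : Set (Fin n → R)) {j : ℕ} (h : n < j) : Min K j = ⊥ := by
  rw [eq_bot_iff, Min, Ideal.span_le]
  rintro d ⟨z, e, hz, rfl⟩
  obtain ⟨a, a', hne, hea⟩ := Fintype.exists_ne_map_eq_of_card_lt e (by simpa using h)
  exact minor_eq_zero_of_eq z e hne hea

section Block

variable {ι : Type*} [Fintype ι] [DecidableEq ι] (Z : Matrix ι ι R) (p q : ι → Prop) [DecidablePred p]
  [DecidablePred q]

lemma det_eq_zero_of_block (h1 : ∀ a b, p a → ¬ q b → Z a b = 0) (h2 : ∀ a b, ¬ p a → q b → Z a b = 0)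
    (hcard : Fintype.card {a // p a} ≠ Fintype.card {b // q b}) : Z.det = 0 := by
  rw [Matrix.det_apply]
  apply Finset.sum_eq_zero
  intro σ _
  suffices h : ∃ i, Z (σ i) i = 0 by
    obtain ⟨i, hi⟩ := h
    have h0 : ∏ i, Z (σ i) i = 0 := Finset.prod_eq_zero (Finset.mem_univ i) hi
    rw [h0, smul_zero]
  by_contra hne
  push Not at hne
  rcases lt_or_gt_of_ne hcard with hlt | hgt
  · have hq : ∀ b, q b → p (σ b) := by
      intro b hb
      by_contra hp
      exact hne b (h2 _ _ hp hb)
    have : Fintype.card {b // q b} ≤ Fintype.card {a // p a} :=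
      Fintype.card_le_of_injective (fun b => (⟨σ b.1, hq b.1 b.2⟩ : {a // p a}))
        (fun b b' h => Subtype.ext (σ.injective (Subtype.mk.inj h)))
    omega
  · have hq : ∀ b, ¬ q b → ¬ p (σ b) := by
      intro b hb hp
      exact hne b (h1 _ _ hp hb)
    have : Fintype.card {b // ¬ q b} ≤ Fintype.card {a // ¬ p a} :=
      Fintype.card_le_of_injective (fun b => (⟨σ b.1, hq b.1 b.2⟩ : {a // ¬ p a}))
        (fun b b' h => Subtype.ext (σ.injective (Subtype.mk.inj h)))
    rw [Fintype.card_subtype_compl, Fintype.card_subtype_compl] at this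
    have := Fintype.card_subtype_le p
    have := Fintype.card_subtype_le q
    omega

lemma det_block (h1 : ∀ a b, p a → ¬ q b → Z a b = 0) (h2 : ∀ a b, ¬ p a → q b → Z a b = 0)
    (φ1 : {a // p a} ≃ {b // q b}) (φ2 : {a // ¬ p a} ≃ {b // ¬ q b}) :
    ∃ s : ℤˣ, Z.det = ((s : ℤ) : R) *
      ((Matrix.of fun a a' : {a // p a} => Z a (φ1 a')).det *
        (Matrix.of fun a a' : {a // ¬ p a} => Z a (φ2 a')).det) := by
  let ε1 := Equiv.sumCompl p
  let ε2 := (Equiv.sumCongr φ1 φ2).trans (Equiv.sumCompl q)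
  have hblock : Z.submatrix ε1 ε2 = Matrix.fromBlocks
      (Matrix.of fun a a' : {a // p a} => Z a (φ1 a')) 0 0
      (Matrix.of fun a a' : {a // ¬ p a} => Z a (φ2 a')) := by
    ext (a | a) (b | b)
    · simp [ε1, ε2]
    · simpa [ε1, ε2] using h1 _ _ a.2 (φ2 b).2
    · simpa [ε1, ε2] using h2 _ _ a.2 (φ1 b).2
    · simp [ε1, ε2]
  have hdet : (Z.submatrix ε1 ε2).det =
      (Matrix.of fun a a' : {a // p a} => Z a (φ1 a')).det *
        (Matrix.of fun a a' : {a // ¬ p a} => Z a (φ2 a')).det := by
    rw [hblock, Matrix.det_fromBlocks_zero₂₁]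
  have hperm : (Z.submatrix ε1 ε2).det = Equiv.Perm.sign (ε2.symm.trans ε1.symm.symm) * Z.det := by
    have := Matrix.det_reindex ε1.symm ε2.symm Z
    exact this
  refine ⟨Equiv.Perm.sign (ε2.symm.trans ε1.symm.symm), ?_⟩
  rw [← hdet, hperm, ← mul_assoc]
  have hs : ∀ s : ℤˣ, (((s : ℤ) : R)) * ((s : ℤ) : R) = 1 := by
    intro s
    rcases Int.units_eq_one_or s with rfl | rfl <;> simp
  rw [hs, one_mul]

end Block


section Prod

variable {M : Type v} [AddCommGroup M] [Module R M] {M' : Type*} [AddCommGroup M'] [Module R M']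

/-- the generating tuple of the product -/
def prodTuple {n n' : ℕ} (x : Fin n → M) (y : Fin n' → M') : Fin (n + n') → M × M' :=
  Fin.append (fun i => (x i, 0)) (fun i => (0, y i))

/-- generators of the relations of the product tuple -/
def prodGens {n n' : ℕ} (K : Set (Fin n → R)) (K' : Set (Fin n' → R)) : Set (Fin (n + n') → R) :=
  {w | ∃ v ∈ K, w = Fin.append v 0} ∪ {w | ∃ v' ∈ K', w = Fin.append 0 v'}

lemma sum_smul_prodTuple {n n' : ℕ} (x : Fin n → M) (y : Fin n' → M') (v : Fin (n + n') → R) :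
    ∑ i, v i • prodTuple x y i =
      (∑ i, v (Fin.castAdd n' i) • x i, ∑ i, v (Fin.natAdd n i) • y i) := by
  rw [Fin.sum_univ_add]
  simp only [prodTuple, Fin.append_left, Fin.append_right]
  ext
  · simp [Prod.fst_sum]
  · simp [Prod.snd_sum]

lemma span_prodTuple {n n' : ℕ} (x : Fin n → M) (y : Fin n' → M')
    (hx : Submodule.span R (Set.range x) = ⊤) (hy : Submodule.span R (Set.range y) = ⊤) :
    Submodule.span R (Set.range (prodTuple x y)) = ⊤ := by
  rw [eq_top_iff]
  rintro ⟨m, m'⟩ -
  have hm : m ∈ Submodule.span R (Set.range x) := by rw [hx]; exact Submodule.mem_top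
  have hm' : m' ∈ Submodule.span R (Set.range y) := by rw [hy]; exact Submodule.mem_top
  obtain ⟨c, hc⟩ := (Submodule.mem_span_range_iff_exists_fun R).mp hm
  obtain ⟨c', hc'⟩ := (Submodule.mem_span_range_iff_exists_fun R).mp hm'
  rw [Submodule.mem_span_range_iff_exists_fun]
  refine ⟨Fin.append c c', ?_⟩
  rw [sum_smul_prodTuple]
  simp only [Fin.append_left, Fin.append_right, hc, hc']

lemma Rel_prodTuple {n n' : ℕ} (x : Fin n → M) (y : Fin n' → M') :
    Rel R (prodTuple x y) =
      Submodule.span R (prodGens (Rel R x : Set (Fin n → R)) (Rel R y : Set (Fin n' → R))) := by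
  apply le_antisymm
  · intro v hv
    rw [mem_Rel, sum_smul_prodTuple, Prod.mk_eq_zero] at hv
    have hv1 : (fun i => v (Fin.castAdd n' i)) ∈ Rel R x := (mem_Rel x _).mpr hv.1
    have hv2 : (fun i => v (Fin.natAdd n i)) ∈ Rel R y := (mem_Rel y _).mpr hv.2
    have hsum : v = Fin.append (fun i => v (Fin.castAdd n' i)) 0 + Fin.append 0 (fun i => v (Fin.natAdd n i)) := by
      funext i
      refine Fin.addCases (fun i => ?_) (fun i => ?_) i
      · simp [Fin.append_left]
      · simp [Fin.append_right]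
    rw [hsum]
    apply Submodule.add_mem
    · exact Submodule.subset_span (Or.inl ⟨_, hv1, rfl⟩)
    · exact Submodule.subset_span (Or.inr ⟨_, hv2, rfl⟩)
  · rw [Submodule.span_le]
    rintro w (⟨v, hv, rfl⟩ | ⟨v', hv', rfl⟩)
    · change _ ∈ Rel R _
      rw [mem_Rel, sum_smul_prodTuple, Prod.mk_eq_zero]
      simp only [Fin.append_left, Fin.append_right, Pi.zero_apply, zero_smul, Finset.sum_const_zero, and_true]
      exact (mem_Rel x v).mp hv
    · change _ ∈ Rel R _
      rw [mem_Rel, sum_smul_prodTuple, Prod.mk_eq_zero]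
      simp only [Fin.append_left, Fin.append_right, Pi.zero_apply, zero_smul, Finset.sum_const_zero, true_and]
      exact (mem_Rel y v').mp hv'

end Prod


section MinProd

variable {n n' : ℕ} (K : Set (Fin n → R)) (K' : Set (Fin n' → R))

/-- products of minors are minors of the block-diagonal relations -/
lemma mul_le_Min_prodGens (a1 a2 : ℕ) : Min K a1 * Min K' a2 ≤ Min (prodGens K K') (a1 + a2) := by
  rw [Min, Min, Ideal.span_mul_span, Ideal.span_le]
  rintro d ⟨d1, ⟨z1, e1, hz1, rfl⟩, d2, ⟨z2, e2, hz2, rfl⟩, rfl⟩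
  let z : Fin a1 ⊕ Fin a2 → (Fin (n + n') → R) :=
    Sum.elim (fun b => Fin.append (z1 b) 0) (fun b => Fin.append 0 (z2 b))
  let e : Fin a1 ⊕ Fin a2 → Fin (n + n') := Sum.elim (fun a => Fin.castAdd n' (e1 a)) (fun a => Fin.natAdd n (e2 a))
  have hz : ∀ b, z b ∈ prodGens K K' := by
    rintro (b | b)
    · exact Or.inl ⟨z1 b, hz1 b, rfl⟩
    · exact Or.inr ⟨z2 b, hz2 b, rfl⟩
  have h := det_mem_Min_of_fintype z e hz
  have hcard : Fintype.card (Fin a1 ⊕ Fin a2) = a1 + a2 := by simp
  rw [hcard] at h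
  have hblock : (Matrix.of fun a b => z b (e a)) = Matrix.fromBlocks
      (Matrix.of fun a b => z1 b (e1 a)) 0 0 (Matrix.of fun a b => z2 b (e2 a)) := by
    ext (a | a) (b | b) <;> simp [z, e, Fin.append_left, Fin.append_right]
  rw [hblock, Matrix.det_fromBlocks_zero₂₁] at h
  exact h

/-- minors of the block-diagonal relations are sums of products of minors -/
lemma Min_prodGens_le (j : ℕ) (I : Ideal R) (hI : ∀ a1 a2, a1 + a2 = j → Min K a1 * Min K' a2 ≤ I) :
    Min (prodGens K K') j ≤ I := by
  classical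
  rw [Min, Ideal.span_le]
  rintro d ⟨z, e, hz, rfl⟩
  set Z : Matrix (Fin j) (Fin j) R := Matrix.of fun a b => z b (e a) with hZ
  let q : Fin j → Prop := fun b => ∃ v ∈ K, z b = Fin.append v 0
  let p : Fin j → Prop := fun a => (e a : ℕ) < n
  have hq' : ∀ b, ¬ q b → ∃ v' ∈ K', z b = Fin.append 0 v' := by
    intro b hb
    rcases hz b with h | h
    · exact absurd h hb
    · exact h
  have h1 : ∀ a b, p a → ¬ q b → Z a b = 0 := by
    intro a b ha hb
    obtain ⟨v', -, hv'⟩ := hq' b hb
    have hea : e a = Fin.castAdd n' ⟨e a, ha⟩ := Fin.ext rfl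
    simp only [hZ, Matrix.of_apply, hv']
    rw [hea, Fin.append_left]
    rfl
  have h2 : ∀ a b, ¬ p a → q b → Z a b = 0 := by
    intro a b ha hb
    obtain ⟨v, -, hv⟩ := hb
    have hlt : (e a : ℕ) - n < n' := by have := (e a).2; simp only [p] at ha; omega
    have hea : e a = Fin.natAdd n ⟨(e a : ℕ) - n, hlt⟩ := by
      apply Fin.ext
      simp only [p] at ha
      simp only [Fin.natAdd_mk]
      omega
    simp only [hZ, Matrix.of_apply, hv]
    rw [hea, Fin.append_right]
    rfl
  change Z.det ∈ I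
  by_cases hcard : Fintype.card {a // p a} = Fintype.card {b // q b}
  · have hcard' : Fintype.card {a // ¬ p a} = Fintype.card {b // ¬ q b} := by
      rw [Fintype.card_subtype_compl, Fintype.card_subtype_compl, hcard]
    let φ1 := Fintype.equivOfCardEq hcard
    let φ2 := Fintype.equivOfCardEq hcard'
    obtain ⟨s, hs⟩ := det_block Z p q h1 h2 φ1 φ2
    rw [hs]
    apply Ideal.mul_mem_left
    have hsum : Fintype.card {a // p a} + Fintype.card {a // ¬ p a} = j := by
      rw [Fintype.card_subtype_compl]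
      have := Fintype.card_subtype_le p
      simp only [Fintype.card_fin] at this ⊢
      omega
    apply hI _ _ hsum
    apply Ideal.mul_mem_mul
    · -- first block
      choose vv hvK hvv using fun b : {b // q b} => b.2
      have hB : (Matrix.of fun a a' : {a // p a} => Z a (φ1 a')) =
          Matrix.of fun a a' : {a // p a} => (vv (φ1 a')) (⟨e a, a.2⟩ : Fin n) := by
        ext a a'
        have hea : e a = Fin.castAdd n' ⟨e a, a.2⟩ := Fin.ext rfl
        simp only [hZ, Matrix.of_apply]
        rw [hvv (φ1 a')]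
        exact (congrArg (Fin.append (vv (φ1 a')) 0) hea).trans (Fin.append_left _ _ _)
      rw [hB]
      exact det_mem_Min_of_fintype (fun a' => vv (φ1 a')) (fun a => (⟨e a, a.2⟩ : Fin n)) (fun b => hvK _)
    · choose vv hvK hvv using fun b : {b // ¬ q b} => hq' b.1 b.2
      have hlt : ∀ a : {a // ¬ p a}, (e a : ℕ) - n < n' := by
        intro a
        have := (e a).2
        have ha := a.2
        simp only [p] at ha
        omega
      have hB : (Matrix.of fun a a' : {a // ¬ p a} => Z a (φ2 a')) =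
          Matrix.of fun a a' : {a // ¬ p a} => (vv (φ2 a')) (⟨(e a : ℕ) - n, hlt a⟩ : Fin n') := by
        ext a a'
        have hea : e a = Fin.natAdd n ⟨(e a : ℕ) - n, hlt a⟩ := by
          apply Fin.ext
          have ha := a.2
          simp only [p] at ha
          simp only [Fin.natAdd_mk]
          omega
        simp only [hZ, Matrix.of_apply]
        rw [hvv (φ2 a')]
        exact (congrArg (Fin.append 0 (vv (φ2 a'))) hea).trans (Fin.append_right _ _ _)
      rw [hB]
      exact det_mem_Min_of_fintype (fun a' => vv (φ2 a')) (fun a => (⟨(e a : ℕ) - n, hlt a⟩ : Fin n'))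
        (fun b => hvK _)
  · rw [det_eq_zero_of_block Z p q h1 h2 hcard]
    exact I.zero_mem

end MinProd


/-- **Fitting ideals of a product.** -/
theorem fitt_prod {M : Type v} [AddCommGroup M] [Module R M] {M' : Type*} [AddCommGroup M'] [Module R M']
    [Module.Finite R M] [Module.Finite R M'] (l : ℕ) :
    Fitt.ideal R (M × M') l = ∑ k ∈ Finset.range (l + 1), Fitt.ideal R M k * Fitt.ideal R M' (l - k) := by
  obtain ⟨n, x, hx⟩ := Module.Finite.exists_fin (R := R) (M := M)
  obtain ⟨n', y, hy⟩ := Module.Finite.exists_fin (R := R) (M := M')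
  rw [fitt_eq_Min (prodTuple x y) (span_prodTuple x y hx hy) l, Rel_prodTuple, Min_span, Ideal.sum_eq_sup]
  apply le_antisymm
  · apply Min_prodGens_le
    intro a1 a2 hsum
    by_cases h1 : n < a1
    · rw [Min_eq_bot_of_lt _ h1, Ideal.bot_mul]; exact bot_le
    by_cases h2 : n' < a2
    · rw [Min_eq_bot_of_lt _ h2, Ideal.mul_bot]; exact bot_le
    have hk : n - a1 ∈ Finset.range (l + 1) := by
      rw [Finset.mem_range]; omega
    refine le_trans ?_ (Finset.le_sup (f := fun k => Fitt.ideal R M k * Fitt.ideal R M' (l - k)) hk)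
    rw [fitt_eq_Min x hx, fitt_eq_Min y hy]
    apply Ideal.mul_mono
    · exact Min_antitone _ (by omega)
    · exact Min_antitone _ (by omega)
  · apply Finset.sup_le
    intro k hk
    rw [Finset.mem_range] at hk
    rw [fitt_eq_Min x hx, fitt_eq_Min y hy]
    refine (mul_le_Min_prodGens _ _ _ _).trans ?_
    exact Min_antitone _ (by omega)

end Groth.Agent.Lib.Helper45.Fitting
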