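import Groth.Agent.Lib.Helper45.FittingProd

/-!
# Modules whose Fitting ideal is generated by a nonzerodivisor (helper45)

* `projective_of_locally_free` : a finite module which is free on a cover by basic opens is projective.
* `pd_lt_two_of_surjective` : projective dimension `≤ 1` from a surjection with projective source and kernel.
* `span_cofactor_eq_top` : if `span D = (f)` with `f` a nonzerodivisor, the cofactors `c` (`c * f ∈ D`) generate `⊤`.
* `projective_Rel_of_fitt_zero` : if `Fitt_0 N = (f)`, `f` a nonzerodivisor, the module of relations of any generating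
  tuple of `N` is projective.
-/

namespace Groth.Agent.Lib.Helper45.Fitting

open Matrix CategoryTheory

universe u v

variable {R : Type u} [CommRing R]

/-- a finite module which is free on basic open neighbourhoods of all primes is projective -/
theorem projective_of_locally_free {M : Type*} [AddCommGroup M] [Module R M] [Module.Finite R M]
    (h : ∀ (p : Ideal R) [p.IsPrime], ∃ g : R, g ∉ p ∧
      Module.Free (Localization.Away g) (LocalizedModule (Submonoid.powers g) M)) :
    Module.Projective R M := by
  let s : Set R := {g | Module.Free (Localization.Away g) (LocalizedModule (Submonoid.powers g) M)}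
  have hs : Ideal.span s = ⊤ := by
    by_contra hne
    obtain ⟨m, hm, hle⟩ := Ideal.exists_le_maximal _ hne
    obtain ⟨g, hg, hfree⟩ := h m
    exact hg (hle (Ideal.subset_span hfree))
  have hfp : Module.FinitePresentation R M := by
    apply Module.FinitePresentation.of_localizationSpan s hs
    intro g
    have : Module.Free (Localization.Away g.1) (LocalizedModule (Submonoid.powers g.1) M) := g.2
    exact Module.finitePresentation_of_projective _ _
  have hflat : Module.Flat R M := by
    apply Module.flat_of_localized_span R M s hs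
    intro g
    have : Module.Free (Localization.Away g.1) (LocalizedModule (Submonoid.powers g.1) M) := g.2
    exact Module.Flat.trans R (Localization.Away g.1) (LocalizedModule (Submonoid.powers g.1) M)
  exact Module.Flat.projective_of_finitePresentation

/-- projective dimension `≤ 1` from a presentation with projective kernel -/
theorem pd_lt_two_of_surjective {P M : Type u} [AddCommGroup P] [Module R P] [AddCommGroup M] [Module R M]
    [Module.Projective R P] (φ : P →ₗ[R] M) (hφ : Function.Surjective φ)
    [Module.Projective R (LinearMap.ker φ)] : HasProjectiveDimensionLT (ModuleCat.of R M) 2 := by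
  have hS := LinearMap.shortExact_shortComplexKer hφ
  have h2 : Projective φ.shortComplexKer.X₂ := (IsProjective.iff_projective P).mp inferInstance
  have h1 : Projective φ.shortComplexKer.X₁ := (IsProjective.iff_projective (LinearMap.ker φ)).mp inferInstance
  exact (hS.hasProjectiveDimensionLT_X₃_iff 0 h2).mpr (projective_iff_hasProjectiveDimensionLT_one.mp h1)

/-- cofactors of a generating set of a principal ideal generated by a nonzerodivisor generate the unit ideal -/
theorem span_cofactor_eq_top (D : Set R) (f : R) (hf : f ∈ nonZeroDivisors R) (hD : Ideal.span D = Ideal.span {f}) :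
    Ideal.span {c | c * f ∈ D} = ⊤ := by
  have hle : Ideal.span D ≤ Ideal.span {f} * Ideal.span {c | c * f ∈ D} := by
    rw [Ideal.span_le]
    intro d hd
    have hdf : d ∈ Ideal.span {f} := by rw [← hD]; exact Ideal.subset_span hd
    obtain ⟨c, rfl⟩ := Ideal.mem_span_singleton'.mp hdf
    rw [mul_comm c f]
    exact Ideal.mul_mem_mul (Ideal.mem_span_singleton_self f) (Ideal.subset_span hd)
  have hf' : f ∈ Ideal.span {f} * Ideal.span {c | c * f ∈ D} := by
    apply hle
    rw [hD]
    exact Ideal.mem_span_singleton_self f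
  obtain ⟨t, ht, hft⟩ := Ideal.mem_span_singleton_mul.mp hf'
  have : t = 1 := by
    apply (mul_cancel_left_mem_nonZeroDivisors hf).mp
    rw [hft, mul_one]
  rw [Ideal.eq_top_iff_one, ← this]
  exact ht

/-- dividing a linear map with values in `ι → R` by a nonzerodivisor -/
lemma exists_div_linear {V : Type*} [AddCommGroup V] [Module R V] {ι : Type*} (f : R)
    (hf : f ∈ nonZeroDivisors R) (L : V →ₗ[R] (ι → R)) (h : ∀ v i, L v i ∈ Ideal.span {f}) :
    ∃ τ : V →ₗ[R] (ι → R), ∀ v, f • τ v = L v := by
  choose t ht using fun v i => Ideal.mem_span_singleton'.mp (h v i)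
  refine ⟨{ toFun := t, map_add' := ?_, map_smul' := ?_ }, ?_⟩
  · intro v w
    funext i
    apply (mul_cancel_right_mem_nonZeroDivisors hf).mp
    rw [Pi.add_apply, add_mul, ht, ht, ht, map_add, Pi.add_apply]
  · intro r v
    funext i
    apply (mul_cancel_right_mem_nonZeroDivisors hf).mp
    rw [RingHom.id_apply, Pi.smul_apply, smul_eq_mul, mul_assoc, ht, ht, map_smul, Pi.smul_apply, smul_eq_mul]
  · intro v
    funext i
    change f • t v i = L v i
    rw [smul_eq_mul, mul_comm, ht]


/-- If `Fitt_0 N = (f)` with `f` a nonzerodivisor, the relations of a generating tuple form a projective module. -/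
theorem projective_Rel_of_fitt_zero {N : Type v} [AddCommGroup N] [Module R N] {b : ℕ} (y : Fin b → N)
    (hy : Submodule.span R (Set.range y) = ⊤) (f : R) (hf : f ∈ nonZeroDivisors R)
    (hF : Fitt.ideal R N 0 = Ideal.span {f}) : Module.Projective R (Rel R y) := by
  set K := Rel R y with hK
  have hF0 : F0 (K : Set (Fin b → R)) 0 = Ideal.span {f} := by rw [← fitt_eq_F0 y hy 0, hF]
  have hC := span_cofactor_eq_top _ f hf hF0
  have h1 : (1 : R) ∈ Ideal.span {c | c * f ∈
      {d | ∃ a : Matrix (Fin b) (Fin b) R, (∀ i : Fin b, (i : ℕ) < b - 0 → a i ∈ (K : Set (Fin b → R))) ∧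
        d = a.det}} := by
    rw [hC]; exact Submodule.mem_top
  obtain ⟨T, r, g, hsum⟩ := Submodule.mem_span_set'.mp h1
  choose a ha hdet using fun t => (g t).2
  have haK : ∀ t i, a t i ∈ K := fun t i => ha t i (by simpa using i.2)
  have hL : ∀ t (v : K) i, ((Matrix.cramer (a t)ᵀ).comp K.subtype) v i ∈ Ideal.span {f} := by
    intro t v i
    rw [← hF0]
    simp only [LinearMap.comp_apply, Submodule.subtype_apply, Matrix.cramer_transpose_apply]
    apply Ideal.subset_span
    refine ⟨(a t).updateRow i v, ?_, rfl⟩
    intro i' _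
    by_cases h : i' = i
    · subst h
      rw [Matrix.updateRow_self]
      exact v.2
    · rw [Matrix.updateRow_ne h]
      exact haK t i'
  choose τ hτ using fun t => exists_div_linear f hf _ (hL t)
  let p : Fin T → (Fin b → R) →ₗ[R] K := fun t =>
    Fintype.linearCombination R (fun i => (⟨a t i, haK t i⟩ : K))
  have hpτ : ∀ t (v : K), p t (τ t v) = (g t : R) • v := by
    intro t v
    apply Subtype.ext
    have hcoe : ((p t (τ t v) : K) : Fin b → R) = ∑ i, (τ t v) i • a t i := by
      simp only [p, Fintype.linearCombination_apply, Submodule.coe_sum, Submodule.coe_smul]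
    rw [hcoe, Submodule.coe_smul]
    have key : f • (∑ i, (τ t v) i • a t i) = f • ((g t : R) • (v : Fin b → R)) := by
      rw [Finset.smul_sum]
      simp_rw [smul_smul]
      have h2 : ∀ i, f * (τ t v) i = Matrix.cramer (a t)ᵀ (v : Fin b → R) i := fun i => congrFun (hτ t v) i
      simp_rw [h2]
      have h3 := Matrix.mulVec_cramer (a t)ᵀ (v : Fin b → R)
      rw [Matrix.det_transpose, ← hdet t, Matrix.mulVec_transpose, Matrix.vecMul_eq_sum] at h3
      rw [h3, mul_comm]
    funext i
    have := congrFun key i
    simp only [Pi.smul_apply, smul_eq_mul] at this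
    exact (mul_cancel_left_mem_nonZeroDivisors hf).mp this
  let ι : K →ₗ[R] (Fin T → (Fin b → R)) := LinearMap.pi (fun t => r t • τ t)
  let σ : (Fin T → (Fin b → R)) →ₗ[R] K := ∑ t, (p t).comp (LinearMap.proj t)
  apply Module.Projective.of_split ι σ
  ext v : 1
  simp only [σ, ι, LinearMap.comp_apply, LinearMap.sum_apply, LinearMap.proj_apply, LinearMap.pi_apply,
    LinearMap.smul_apply, map_smul, hpτ, LinearMap.id_apply]
  simp_rw [smul_smul]
  rw [← Finset.sum_smul]
  have : ∑ t, r t * (g t : R) = 1 := by simpa using hsum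
  rw [this, one_smul]


section Quot

variable {M : Type v} [AddCommGroup M] [Module R M]

lemma minor_smul {n j : ℕ} (f : R) (z : Fin j → (Fin n → R)) (e : Fin j → Fin n) :
    minor (fun b => f • z b) e = f ^ j * minor z e := by
  have : (Matrix.of fun a b => (f • z b) (e a)) = f • (Matrix.of fun a b => z b (e a)) := by
    ext a b; simp
  rw [minor, this, Matrix.det_smul, Fintype.card_fin]
  rfl

/-- relations of the images in `M ⧸ ker f` -/
lemma mem_Rel_mkQ_ker_smul {n : ℕ} (x : Fin n → M) (f : R) (v : Fin n → R) :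
    v ∈ Rel R ((LinearMap.ker (f • (LinearMap.id : M →ₗ[R] M))).mkQ ∘ x) ↔ f • v ∈ Rel R x := by
  rw [mem_Rel, mem_Rel]
  have h1 : ∑ i, v i • ((LinearMap.ker (f • (LinearMap.id : M →ₗ[R] M))).mkQ ∘ x) i =
      (LinearMap.ker (f • (LinearMap.id : M →ₗ[R] M))).mkQ (∑ i, v i • x i) := by
    simp only [Function.comp_apply, map_sum, map_smul]
  rw [h1, Submodule.mkQ_apply, Submodule.Quotient.mk_eq_zero, LinearMap.mem_ker, LinearMap.smul_apply,
    LinearMap.id_apply, Finset.smul_sum]
  simp only [smul_smul, Pi.smul_apply, smul_eq_mul]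

/-- **Fitting ideals of `M ⧸ ker f` when `Fitt_k M = (f)`, `Fitt_{k-1} M = 0`.** -/
theorem fitt_quot_ker_smul [Module.Finite R M] (k : ℕ) (f : R) (hf : f ∈ nonZeroDivisors R)
    (hk : Fitt.ideal R M k = Ideal.span {f}) (hk' : k = 0 ∨ Fitt.ideal R M (k - 1) = ⊥) :
    (∀ i, i < k → Fitt.ideal R (M ⧸ LinearMap.ker (f • (LinearMap.id : M →ₗ[R] M))) i = ⊥) ∧
      (∀ i, k ≤ i → Fitt.ideal R (M ⧸ LinearMap.ker (f • (LinearMap.id : M →ₗ[R] M))) i = ⊤) := by
  obtain ⟨n₀, x₀, hx₀⟩ := Module.Finite.exists_fin (R := R) (M := M)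
  let x : Fin (n₀ + k) → M := Fin.append x₀ (fun _ => 0)
  have hx : Submodule.span R (Set.range x) = ⊤ := by
    rw [eq_top_iff, ← hx₀]
    apply Submodule.span_mono
    rintro _ ⟨i, rfl⟩
    exact ⟨Fin.castAdd k i, by simp [x]⟩
  set K := Rel R x with hK
  have hMin : Min (K : Set (Fin (n₀ + k) → R)) n₀ = Ideal.span {f} := by
    rw [← hk, fitt_eq_Min x hx k, Nat.add_sub_cancel]
  have hMin' : Min (K : Set (Fin (n₀ + k) → R)) (n₀ + 1) = ⊥ := by
    by_cases hk0 : k = 0
    · subst hk0
      exact Min_eq_bot_of_lt _ (by omega)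
    · rcases hk' with h | h
      · exact absurd h hk0
      · rw [fitt_eq_Min x hx (k - 1)] at h
        rwa [show n₀ + k - (k - 1) = n₀ + 1 by omega] at h
  set π := (LinearMap.ker (f • (LinearMap.id : M →ₗ[R] M))).mkQ with hπ
  have hxq : Submodule.span R (Set.range (π ∘ x)) = ⊤ := by
    rw [Set.range_comp, ← Submodule.map_span, hx, Submodule.map_top, LinearMap.range_eq_top]
    exact Submodule.mkQ_surjective _
  set Kf := Rel R (π ∘ x) with hKf
  -- (i)
  have h1 : Min (Kf : Set (Fin (n₀ + k) → R)) (n₀ + 1) = ⊥ := by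
    rw [eq_bot_iff, Min, Ideal.span_le]
    rintro d ⟨z, e, hz, rfl⟩
    have hz' : ∀ b, f • z b ∈ K := fun b => (mem_Rel_mkQ_ker_smul x f (z b)).mp (hz b)
    have hm : minor (fun b => f • z b) e ∈ Min (K : Set (Fin (n₀ + k) → R)) (n₀ + 1) := minor_mem_Min _ _ hz'
    rw [hMin', Ideal.mem_bot, minor_smul] at hm
    rw [SetLike.mem_coe, Ideal.mem_bot]
    exact (mul_left_mem_nonZeroDivisors_eq_zero_iff (pow_mem hf _)).mp hm
  -- (ii)
  have h2 : Min (Kf : Set (Fin (n₀ + k) → R)) n₀ = ⊤ := by
    have hC := span_cofactor_eq_top _ f hf hMin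
    have hCpow := Ideal.span_pow_eq_top _ hC n₀
    rw [eq_top_iff, ← hCpow, Ideal.span_le]
    rintro _ ⟨c, ⟨z, e, hz, hd⟩, rfl⟩
    have hmem : ∀ a i, minor z (Function.update e a i) ∈ Ideal.span {f} := by
      intro a i
      rw [← hMin]
      exact minor_mem_Min _ _ hz
    choose w hw using fun a i => Ideal.mem_span_singleton'.mp (hmem a i)
    have hwK : ∀ a, w a ∈ Kf := by
      intro a
      rw [hKf, mem_Rel_mkQ_ker_smul, mem_Rel]
      have := cramer_sum_eq_zero x z hz e a
      simp only [Pi.smul_apply, smul_eq_mul]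
      simp_rw [mul_comm f, hw]
      exact this
    have hwe : ∀ a a', w a (e a') = if a' = a then c else 0 := by
      intro a a'
      apply (mul_cancel_right_mem_nonZeroDivisors hf).mp
      rw [hw]
      split_ifs with h
      · subst h
        rw [minor_update_self, hd]
      · rw [minor_update_of_ne z e h, zero_mul]
    have hdet : minor w e = c ^ n₀ := by
      have : (Matrix.of fun a' a => w a (e a')) = Matrix.diagonal (fun _ : Fin n₀ => c) := by
        ext a' a
        simp [hwe, Matrix.diagonal_apply]
      rw [minor, this, Matrix.det_diagonal, Finset.prod_const, Finset.card_univ, Fintype.card_fin]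
    change c ^ n₀ ∈ _
    rw [← hdet]
    exact minor_mem_Min _ _ hwK
  constructor
  · intro i hi
    rw [fitt_eq_Min (π ∘ x) hxq i, eq_bot_iff, ← h1]
    exact Min_antitone _ (by omega)
  · intro i hi
    rw [fitt_eq_Min (π ∘ x) hxq i, eq_top_iff, ← h2]
    exact Min_antitone _ (by omega)

end Quot

end Groth.Agent.Lib.Helper45.Fitting
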