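import Groth.Prelude.Def_Curv2
import Mathlib

/-!
# Global generation of O_X-modules (`Curv2.IsGloballyGenerated`): basic API

* `sectionOfTop M t` : the global section (in Mathlib's `SheafOfModules.sections`) attached to an element
  `t` of `M(⊤)`.
* `IsGloballyGenerated.of_epi` : quotients of globally generated modules are globally generated.
* `isGloballyGenerated_of_shortExact` : extension lemma.
-/

open CategoryTheory AlgebraicGeometry Opposite TopologicalSpace Limits

universe u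

namespace Groth.Agent.Lib.Helper45.GlobGen

variable {X : Scheme.{u}}

/-- The section of `M` (a compatible family over all opens) determined by its value on `⊤`. -/
noncomputable def sectionOfTop (M : X.Modules) (t : M.val.obj (op (⊤ : X.Opens))) : M.sections :=
  PresheafOfModules.sectionsMk (M := M.val)
    (fun U => M.val.map (homOfLE (le_top : U.unop ≤ ⊤)).op t)
    (by
      intro U V f
      rw [← PresheafOfModules.map_comp_apply]
      rfl)

lemma sectionOfTop_top (M : X.Modules) (t : M.val.obj (op (⊤ : X.Opens))) :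
    (sectionOfTop M t).1 (op ⊤) = t := by
  change M.val.map (homOfLE (le_top : (⊤ : X.Opens) ≤ ⊤)).op t = t
  have : (homOfLE (le_top : (⊤ : X.Opens) ≤ ⊤)).op = 𝟙 (op (⊤ : X.Opens)) := rfl
  rw [this, PresheafOfModules.map_id]
  rfl

lemma eq_sectionOfTop (M : X.Modules) (s : M.sections) :
    s = sectionOfTop M (s.1 (op ⊤)) := by
  apply PresheafOfModules.sections_ext
  intro U
  exact (PresheafOfModules.sections_property s (homOfLE (le_top : U.unop ≤ ⊤)).op).symm

lemma sectionsMap_sectionOfTop {M N : X.Modules} (f : M ⟶ N) (t : M.val.obj (op (⊤ : X.Opens))) :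
    SheafOfModules.sectionsMap f (sectionOfTop M t) = sectionOfTop N (f.val.app (op ⊤) t) := by
  rw [eq_sectionOfTop N (SheafOfModules.sectionsMap f (sectionOfTop M t))]
  congr 1
  change f.val.app (op ⊤) ((sectionOfTop M t).1 (op ⊤)) = _
  rw [sectionOfTop_top]

/-- Lifting sections along a map that is surjective on `⊤`. -/
lemma exists_sectionsMap_eq {M N : X.Modules} (f : M ⟶ N)
    (hf : Function.Surjective (f.val.app (op (⊤ : X.Opens))).hom) (s : N.sections) :
    ∃ t : M.sections, SheafOfModules.sectionsMap f t = s := by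
  obtain ⟨t, ht⟩ := hf (s.1 (op ⊤))
  refine ⟨sectionOfTop M t, ?_⟩
  rw [sectionsMap_sectionOfTop, eq_sectionOfTop N s]
  congr 1

/-- generic categorical lemma -/
lemma epi_of_parts {C : Type*} [Category C] [Abelian C] (S : ShortComplex C) (hS : S.ShortExact)
    {P₁ P₃ P : C} (p₁ : P₁ ⟶ S.X₁) (hp₁ : Epi p₁) (q₃ : P₃ ⟶ S.X₂) (hq : Epi (q₃ ≫ S.g))
    (r : P ⟶ S.X₂) (i₁ : P₁ ⟶ P) (i₃ : P₃ ⟶ P) (h₁ : i₁ ≫ r = p₁ ≫ S.f) (h₃ : i₃ ≫ r = q₃) :
    Epi r := by
  apply Preadditive.epi_of_cancel_zero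
  intro D c hc
  have hc1 : (p₁ ≫ S.f) ≫ c = 0 := by rw [← h₁, Category.assoc, hc, comp_zero]
  have hc3 : q₃ ≫ c = 0 := by rw [← h₃, Category.assoc, hc, comp_zero]
  have hfc : S.f ≫ c = 0 := by
    rw [Category.assoc] at hc1
    exact (cancel_epi p₁).mp (hc1.trans comp_zero.symm)
  have hcok := hS.gIsCokernel
  obtain ⟨c'', hc''⟩ : ∃ c'' : S.X₃ ⟶ D, S.g ≫ c'' = c :=
    ⟨hcok.desc (CokernelCofork.ofπ c hfc), hcok.fac (CokernelCofork.ofπ c hfc) WalkingParallelPair.one⟩
  have : (q₃ ≫ S.g) ≫ c'' = 0 := by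
    rw [Category.assoc, hc'', hc3]
  have hc0 : c'' = 0 := (cancel_epi (q₃ ≫ S.g)).mp (this.trans comp_zero.symm)
  rw [← hc'', hc0, comp_zero]

lemma of_epi {F G : X.Modules} (p : F ⟶ G) (hp : Epi p) (hF : Curv2.IsGloballyGenerated F) :
    Curv2.IsGloballyGenerated G := by
  obtain ⟨ι, q, hq⟩ := hF
  exact ⟨ι, q ≫ p, @epi_comp _ _ _ _ _ q hq p hp⟩

/-- Extension lemma: in a short exact sequence with `Γ(F) → Γ(F'')` surjective, if the outer terms are
globally generated then so is the middle term. -/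
lemma isGloballyGenerated_of_shortExact (S : ShortComplex X.Modules) (hS : S.ShortExact)
    (hsurj : Function.Surjective (S.g.val.app (op (⊤ : X.Opens))).hom)
    (h1 : Curv2.IsGloballyGenerated S.X₁) (h3 : Curv2.IsGloballyGenerated S.X₃) :
    Curv2.IsGloballyGenerated S.X₂ := by
  obtain ⟨ι₁, p₁, hp₁⟩ := h1
  obtain ⟨ι₃, p₃, hp₃⟩ := h3
  -- lift the sections of X₃
  choose t ht using fun i : ι₃ => exists_sectionsMap_eq S.g hsurj (SheafOfModules.freeHomEquiv S.X₃ p₃ i)
  let q₃ : (SheafOfModules.free ι₃ : X.Modules) ⟶ S.X₂ := (SheafOfModules.freeHomEquiv S.X₂).symm t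
  have hq₃ : q₃ ≫ S.g = p₃ := by
    apply (SheafOfModules.freeHomEquiv S.X₃).injective
    funext i
    refine (SheafOfModules.freeHomEquiv_comp_apply _ _ _).trans ?_
    simp only [q₃, Equiv.apply_symm_apply]
    exact ht i
  let s₁ : ι₁ → S.X₂.sections := SheafOfModules.freeHomEquiv S.X₂ (p₁ ≫ S.f)
  let r : (SheafOfModules.free (ι₁ ⊕ ι₃) : X.Modules) ⟶ S.X₂ :=
    (SheafOfModules.freeHomEquiv S.X₂).symm (Sum.elim s₁ t)
  refine ⟨ι₁ ⊕ ι₃, r, ?_⟩
  have h₁ : (SheafOfModules.freeMap (Sum.inl : ι₁ → ι₁ ⊕ ι₃) : (SheafOfModules.free ι₁ : X.Modules) ⟶ _) ≫ r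
      = p₁ ≫ S.f := by
    apply (SheafOfModules.freeHomEquiv S.X₂).injective
    funext i
    refine (SheafOfModules.freeHomEquiv_comp_apply _ _ _).trans ?_
    rw [SheafOfModules.freeHomEquiv_freeMap]
    simp only [Function.comp_apply, r]
    rw [SheafOfModules.sectionsMap_freeHomEquiv_symm_freeSection]
    rfl
  have h₃ : (SheafOfModules.freeMap (Sum.inr : ι₃ → ι₁ ⊕ ι₃) : (SheafOfModules.free ι₃ : X.Modules) ⟶ _) ≫ r
      = q₃ := by
    apply (SheafOfModules.freeHomEquiv S.X₂).injective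
    funext i
    refine (SheafOfModules.freeHomEquiv_comp_apply _ _ _).trans ?_
    rw [SheafOfModules.freeHomEquiv_freeMap]
    simp only [Function.comp_apply, r, q₃, Equiv.apply_symm_apply]
    rw [SheafOfModules.sectionsMap_freeHomEquiv_symm_freeSection]
    rfl
  exact epi_of_parts S hS p₁ hp₁ q₃ (hq₃ ▸ hp₃) r _ _ h₁ h₃

end Groth.Agent.Lib.Helper45.GlobGen
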