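import Mathlib

/-!
# Jacobian criterion: a point of `R[x_1..x_n]/(v_1..v_n)` where the Jacobian determinant does not
vanish is an étale (and quasi-finite) point.
-/

namespace Groth.Agent.Lib.Helper45.JacEtale

open Algebra

universe u v

variable {R : Type u} [CommRing R] {n : ℕ} (v : Fin n → MvPolynomial (Fin n) R)

/-- the naive presubmersive presentation -/
noncomputable def pre : PreSubmersivePresentation R (MvPolynomial (Fin n) R ⧸ Ideal.span (Set.range v)) (Fin n) (Fin n) :=
  PreSubmersivePresentation.naive (v := v) id Function.injective_id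

lemma pre_jacobian : (pre v).jacobian =
    Ideal.Quotient.mk (Ideal.span (Set.range v)) (Matrix.det (Matrix.of fun i j : Fin n => MvPolynomial.pderiv j (v i))) := by
  rw [PreSubmersivePresentation.jacobian_eq_jacobiMatrix_det]
  have : (pre v).jacobiMatrix = (Matrix.of fun i j : Fin n => MvPolynomial.pderiv j (v i)).transpose := by
    ext i j
    rw [pre, PreSubmersivePresentation.jacobiMatrix_naive]
    rfl
  rw [this, Matrix.det_transpose]
  rfl

/-- Localizing away from the Jacobian gives an étale algebra. -/
lemma etale_away (S' : Type*) [CommRing S'] [Algebra R S']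
    [Algebra (MvPolynomial (Fin n) R ⧸ Ideal.span (Set.range v)) S']
    [IsScalarTower R (MvPolynomial (Fin n) R ⧸ Ideal.span (Set.range v)) S']
    [IsLocalization.Away (pre v).jacobian S'] : Algebra.Etale R S' := by
  let Q : SubmersivePresentation (MvPolynomial (Fin n) R ⧸ Ideal.span (Set.range v)) S' Unit Unit :=
    SubmersivePresentation.localizationAway S' (pre v).jacobian
  let P : SubmersivePresentation R S' (Unit ⊕ Fin n) (Unit ⊕ Fin n) :=
    { toPreSubmersivePresentation := Q.toPreSubmersivePresentation.comp (pre v)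
      jacobian_isUnit := by
        rw [PreSubmersivePresentation.comp_jacobian_eq_jacobian_smul_jacobian, Algebra.smul_def, IsUnit.mul_iff]
        refine ⟨?_, Q.jacobian_isUnit⟩
        exact IsLocalization.map_units _ (⟨(pre v).jacobian, 1, by simp⟩ : Submonoid.powers (pre v).jacobian) }
  have : IsStandardSmoothOfRelativeDimension 0 R S' :=
    P.isStandardSmoothOfRelativeDimension (by simp [Presentation.dimension])
  infer_instance

/-- A ring map to a domain not killing the Jacobian gives an étale, quasi-finite point. -/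
lemma exists_point {D : Type*} [CommRing D] [IsDomain D]
    (ψ : (MvPolynomial (Fin n) R ⧸ Ideal.span (Set.range v)) →+* D) (hψ : ψ (pre v).jacobian ≠ 0) :
    ∃ q : PrimeSpectrum (MvPolynomial (Fin n) R ⧸ Ideal.span (Set.range v)),
      Algebra.QuasiFiniteAt R q.asIdeal ∧ Algebra.IsEtaleAt R q.asIdeal := by
  obtain ⟨q, hqdef⟩ : ∃ q : PrimeSpectrum (MvPolynomial (Fin n) R ⧸ Ideal.span (Set.range v)),
      q.asIdeal = RingHom.ker ψ := ⟨⟨RingHom.ker ψ, RingHom.ker_isPrime ψ⟩, rfl⟩
  refine ⟨q, ?_⟩
  have hq : q ∈ PrimeSpectrum.basicOpen (pre v).jacobian := by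
    change (pre v).jacobian ∉ q.asIdeal
    rwa [hqdef, RingHom.mem_ker]
  have hE : Algebra.Etale R (Localization.Away (pre v).jacobian) := etale_away v _
  have hsub : ↑(PrimeSpectrum.basicOpen (pre v).jacobian) ⊆
      Algebra.etaleLocus R (MvPolynomial (Fin n) R ⧸ Ideal.span (Set.range v)) :=
    Algebra.basicOpen_subset_etaleLocus_iff.mpr hE.formallyEtale
  have h1 : Algebra.IsEtaleAt R q.asIdeal := hsub hq
  refine ⟨?_, h1⟩
  have : Algebra.FormallyUnramified R (Localization.AtPrime q.asIdeal) := inferInstance
  have : Algebra.EssFiniteType R (Localization.AtPrime q.asIdeal) :=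
    Algebra.EssFiniteType.comp R (MvPolynomial (Fin n) R ⧸ Ideal.span (Set.range v)) _
  infer_instance

end Groth.Agent.Lib.Helper45.JacEtale
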