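import Groth.Agent.Lib.Helper45.FittingKaehler
import Groth.Agent.Lib.Helper45.FittingLocal

/-!
# Jacobian criterion, smooth case (helper45)

* `stdSmooth_away` : for `v : Fin j → R[x_1..x_N]` and an injective choice of columns `e : Fin j → Fin N`,
  the localization of `R[x]/(v)` at the Jacobian minor is standard smooth of relative dimension `N - j`.
* `exists_stdSmooth_surj` : if `S` is of finite type over `R` and the prime `q` does not contain the
  `p`-th Fitting ideal of `Ω[S⁄R]`, then some `S_Δ` (`Δ ∉ q`) is a quotient of a standard smooth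
  `R`-algebra of relative dimension `p`.
* `fitt_kaehler_eq_top_of_surjective` : a quotient `B` of a standard smooth `R`-algebra of relative dimension `p`
  has `Fitt_p Ω[B⁄R] = ⊤`.
-/

set_option linter.style.haveILetI false

namespace Groth.Agent.Lib.Helper45.JacSmooth

open Algebra MvPolynomial Groth.Agent.Lib.Helper45.Fitting

universe u

section Naive

variable {R : Type u} [CommRing R] {N j : ℕ} (v : Fin j → MvPolynomial (Fin N) R)
  (e : Fin j → Fin N) (he : Function.Injective e)

/-- the naive presubmersive presentation of `R[x]/(v)` with chosen columns `e` -/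
noncomputable def pre :
    PreSubmersivePresentation R (MvPolynomial (Fin N) R ⧸ Ideal.span (Set.range v)) (Fin N) (Fin j) :=
  PreSubmersivePresentation.naive (v := v) e he

/-- the Jacobian minor, as a polynomial -/
noncomputable def D : MvPolynomial (Fin N) R :=
  Matrix.det (Matrix.of fun a b : Fin j => MvPolynomial.pderiv (e a) (v b))

lemma pre_jacobian : (pre v e he).jacobian = Ideal.Quotient.mk (Ideal.span (Set.range v)) (D v e) := by
  rw [PreSubmersivePresentation.jacobian_eq_jacobiMatrix_det]
  have : (pre v e he).jacobiMatrix = (Matrix.of fun a b : Fin j => MvPolynomial.pderiv (e a) (v b)) := by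
    ext a b
    rw [pre, PreSubmersivePresentation.jacobiMatrix_naive]
    rfl
  rw [this]
  rfl

/-- Localizing away from the Jacobian minor gives a standard smooth algebra of relative dimension `N - j`. -/
lemma stdSmooth_away (T : Type*) [CommRing T] [Algebra R T]
    [Algebra (MvPolynomial (Fin N) R ⧸ Ideal.span (Set.range v)) T]
    [IsScalarTower R (MvPolynomial (Fin N) R ⧸ Ideal.span (Set.range v)) T]
    [IsLocalization.Away (pre v e he).jacobian T] :
    Algebra.IsStandardSmoothOfRelativeDimension (N - j) R T := by
  let Q : SubmersivePresentation (MvPolynomial (Fin N) R ⧸ Ideal.span (Set.range v)) T Unit Unit :=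
    SubmersivePresentation.localizationAway T (pre v e he).jacobian
  let P : SubmersivePresentation R T (Unit ⊕ Fin N) (Unit ⊕ Fin j) :=
    { toPreSubmersivePresentation := Q.toPreSubmersivePresentation.comp (pre v e he)
      jacobian_isUnit := by
        rw [PreSubmersivePresentation.comp_jacobian_eq_jacobian_smul_jacobian, Algebra.smul_def, IsUnit.mul_iff]
        refine ⟨?_, Q.jacobian_isUnit⟩
        exact IsLocalization.map_units _
          (⟨(pre v e he).jacobian, 1, by simp⟩ : Submonoid.powers (pre v e he).jacobian) }
  exact P.isStandardSmoothOfRelativeDimension (by simp [Presentation.dimension]; omega)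

end Naive

section Main

variable {R S : Type u} [CommRing R] [CommRing S] [Algebra R S]

/-- generators of a finite type algebra, padded to have at least `p` of them -/
lemma exists_generators [Algebra.FiniteType R S] (p : ℕ) :
    ∃ (N : ℕ) (val : Fin N → S), p ≤ N ∧ Function.Surjective (aeval (R := R) val) := by
  obtain ⟨n, f, hf⟩ := Algebra.FiniteType.iff_quotient_mvPolynomial''.mp
    (inferInstance : Algebra.FiniteType R S)
  refine ⟨n + p, Fin.addCases (fun i => f (X i)) (fun _ => 0), by omega, ?_⟩
  intro s
  obtain ⟨q, rfl⟩ := hf s
  refine ⟨rename (Fin.castAdd p) q, ?_⟩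
  rw [aeval_rename]
  have : (Fin.addCases (fun i => f (X i)) (fun _ => 0) : Fin (n + p) → S) ∘ Fin.castAdd p =
      fun i => f (X i) := by
    funext i; simp
  rw [this]
  exact (DFunLike.congr_fun (aeval_unique f) q).symm

/-- the presentation with all elements of the kernel as relations -/
noncomputable def presOfGenerators {N : ℕ} (G : Generators R S (Fin N)) :
    Presentation R S (Fin N) G.ker where
  toGenerators := G
  relation := Subtype.val
  span_range_relation_eq_ker := by
    rw [Subtype.range_val]
    exact Ideal.span_eq _

theorem exists_stdSmooth_surj [Algebra.FiniteType R S] (p : ℕ) (q : Ideal S) [q.IsPrime]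
    (h : ¬ Fitt.ideal S Ω[S⁄R] p ≤ q) :
    ∃ Δ : S, Δ ∉ q ∧ ∃ (T : Type u) (_ : CommRing T) (_ : Algebra R T),
      Algebra.IsStandardSmoothOfRelativeDimension p R T ∧
      ∀ (S' : Type u) [CommRing S'] [Algebra S S'] [IsLocalization.Away Δ S'],
        ∃ ψ : T →+* S', Function.Surjective ψ ∧
          ψ.comp (algebraMap R T) = (algebraMap S S').comp (algebraMap R S) := by
  obtain ⟨N, val, hpN, hval⟩ := exists_generators (R := R) (S := S) p
  let G : Generators R S (Fin N) := Generators.ofSurjective val hval
  let P : Presentation R S (Fin N) G.ker := presOfGenerators G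
  rw [fitt_kaehler_eq_Min P p] at h
  obtain ⟨z, e, hz, hΔ⟩ : ∃ (z : Fin (N - p) → (Fin N → S)) (e : Fin (N - p) → Fin N),
      (∀ b, z b ∈ Set.range (jacRow P)) ∧ minor z e ∉ q := by
    by_contra hcon
    push Not at hcon
    apply h
    rw [Fitting.Min, Ideal.span_le]
    rintro d ⟨z, e, hz, rfl⟩
    exact hcon z e hz
  choose r hr using hz
  have he : Function.Injective e := by
    intro a a' haa'
    by_contra hne
    apply hΔ
    have : minor z e = 0 := Matrix.det_zero_of_row_eq hne (by funext b; simp [haa'])
    rw [this]; exact q.zero_mem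
  let v : Fin (N - p) → MvPolynomial (Fin N) R := fun b => P.relation (r b)
  have hle : Ideal.span (Set.range v) ≤ RingHom.ker (aeval (R := R) val : _ →ₐ[R] S).toRingHom := by
    rw [Ideal.span_le]
    rintro _ ⟨b, rfl⟩
    exact P.aeval_val_relation (r b)
  let π : (MvPolynomial (Fin N) R ⧸ Ideal.span (Set.range v)) →ₐ[R] S :=
    Ideal.Quotient.liftₐ _ (aeval (R := R) val) (fun a ha => hle ha)
  have hπsurj : Function.Surjective π := by
    intro s
    obtain ⟨a, rfl⟩ := hval s
    exact ⟨Ideal.Quotient.mk _ a, rfl⟩
  have hπD : π (pre v e he).jacobian = minor z e := by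
    rw [pre_jacobian]
    change aeval (R := R) val (D v e) = _
    rw [D, AlgHom.map_det]
    rw [minor]
    congr 1
    ext a b
    change aeval (R := R) val (pderiv (e a) (P.relation (r b))) = z b (e a)
    rw [← hr b]
    rfl
  refine ⟨minor z e, hΔ, Localization.Away (pre v e he).jacobian, inferInstance, inferInstance, ?_, ?_⟩
  · have := stdSmooth_away v e he (Localization.Away (pre v e he).jacobian)
    rwa [Nat.sub_sub_self hpN] at this
  · intro S' _ _ _
    haveI : IsLocalization.Away (π.toRingHom (pre v e he).jacobian) S' := by
      change IsLocalization.Away (π (pre v e he).jacobian) S'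
      rw [hπD]; infer_instance
    refine ⟨IsLocalization.Away.map (Localization.Away (pre v e he).jacobian) S' π.toRingHom
      (pre v e he).jacobian, ?_, ?_⟩
    · exact RingHom.surjective_localizationPreserves.away π.toRingHom (pre v e he).jacobian _ _ hπsurj
    · rw [IsScalarTower.algebraMap_eq R (MvPolynomial (Fin N) R ⧸ Ideal.span (Set.range v))
        (Localization.Away (pre v e he).jacobian), ← RingHom.comp_assoc]
      rw [IsLocalization.Away.map, IsLocalization.map_comp, RingHom.comp_assoc]
      congr 1
      exact π.comp_algebraMap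

end Main

section Quot

variable {R A B : Type u} [CommRing R] [CommRing A] [CommRing B] [Algebra R A] [Algebra R B]
  [Algebra A B] [IsScalarTower R A B]

/-- A quotient of a standard smooth algebra of relative dimension `p` has `Fitt_p Ω = ⊤`. -/
theorem fitt_kaehler_eq_top_of_surjective (p : ℕ) [Algebra.IsStandardSmoothOfRelativeDimension p R A]
    (h : Function.Surjective (algebraMap A B)) : Fitt.ideal B Ω[B⁄R] p = ⊤ := by
  rcases subsingleton_or_nontrivial A with hA | hA
  · haveI : Subsingleton B := h.subsingleton
    exact Subsingleton.elim _ _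
  have hrank := Algebra.IsStandardSmoothOfRelativeDimension.rank_kaehlerDifferential (R := R) (S := A) p
  haveI : Algebra.IsStandardSmooth R A := Algebra.IsStandardSmoothOfRelativeDimension.isStandardSmooth p
  haveI hfin : Module.Finite A (Ω[A⁄R]) := inferInstance
  have hfr : Module.finrank A (Ω[A⁄R]) = p := Module.finrank_eq_of_rank_eq hrank
  let b := Module.finBasisOfFinrankEq A (Ω[A⁄R]) hfr
  refine fitt_eq_top_of_span (fun i => KaehlerDifferential.map R R A B (b i)) ?_
  rw [_root_.eq_top_iff]
  intro ω _
  obtain ⟨ω', rfl⟩ := KaehlerDifferential.map_surjective_of_surjective R R A B h ω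
  rw [← b.sum_repr ω', map_sum]
  refine Submodule.sum_mem _ fun i _ => ?_
  rw [map_smul, ← algebraMap_smul B (b.repr ω' i) (KaehlerDifferential.map R R A B (b i))]
  exact Submodule.smul_mem _ _ (Submodule.subset_span ⟨i, rfl⟩)

end Quot

end Groth.Agent.Lib.Helper45.JacSmooth
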