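import Groth.Agent.Lib.Helper45.JacSmooth
import Groth.Agent.Lib.Helper45.FittingProd
import Groth.Agent.Lib.Helper77.QuasiRegGen

/-!
# Jacobian criterion for quotients of standard smooth algebras by `c` elements (helper45)

* `fitt_eq_top_of_formallySmooth` : `C` formally smooth over `A` with `Ω[C⁄A]` free of rank `m + c`, `B = C/(f_1..f_c)`
  with `f` quasi-regular and `B` formally smooth over `A`; then `Fitt_m Ω[B⁄A] = ⊤`.
* `stdSmooth_of_fitt` : a presentation with `N` variables and `N - p` relations; if the prime `q` does not contain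
  `Fitt_p Ω`, then some `S_Δ`, `Δ ∉ q`, is standard smooth of relative dimension `p`.
-/

set_option linter.style.haveILetI false

namespace Groth.Agent.Lib.Helper45.LciJac

open Algebra MvPolynomial Groth.Agent.Lib.Helper45.Fitting

universe u

section K

variable {A C B : Type u} [CommRing A] [CommRing C] [CommRing B]
  [Algebra A C] [Algebra A B] [Algebra C B] [IsScalarTower A C B]

theorem fitt_eq_top_of_formallySmooth [Algebra.FormallySmooth A C] [Algebra.FormallySmooth A B]
    (hsurj : Function.Surjective (algebraMap C B)) {m c : ℕ}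
    (b : Module.Basis (Fin (m + c)) C Ω[C⁄A]) (f : Fin c → C)
    (hker : RingHom.ker (algebraMap C B) = Ideal.span (Set.range f))
    (hqr : CAlgX.IsQuasiRegular f) : Fitt.ideal B Ω[B⁄A] m = ⊤ := by
  classical
  let E : Algebra.Extension A B :=
    { Ring := C, σ := Function.surjInv hsurj, algebraMap_σ := Function.surjInv_eq hsurj }
  haveI : Algebra.FormallySmooth A E.Ring := ‹Algebra.FormallySmooth A C›
  obtain ⟨l, hl⟩ := (E.formallySmooth_iff_split_injection).mp inferInstance
  have hkerE : Ideal.span (Set.range f) = E.ker := hker.symm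
  have hmem : ∀ k, f k ∈ E.ker := fun k => hkerE.le (Ideal.subset_span ⟨k, rfl⟩)
  let g : Fin c → E.Cotangent := fun k => Algebra.Extension.Cotangent.mk ⟨f k, hmem k⟩
  have hgspan : Submodule.span B (Set.range g) = ⊤ :=
    Algebra.Extension.Cotangent.span_eq_top_of_span_eq_ker (P := E) f hkerE
  have hgli : LinearIndependent B g := by
    rw [Fintype.linearIndependent_iff]
    intro a ha k
    choose a' ha' using fun k => hsurj (a k)
    let s : E.ker := ∑ k, a' k • (⟨f k, hmem k⟩ : E.ker)
    have hs : Algebra.Extension.Cotangent.mk s = 0 := by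
      rw [map_sum, ← ha]
      refine Finset.sum_congr rfl fun k _ => ?_
      rw [map_smul, ← ha' k, algebraMap_smul]
    rw [Algebra.Extension.Cotangent.mk_eq_zero_iff] at hs
    have hs' : (s : C) = ∑ k, a' k * f k := by
      simp [s]
    rw [hs', ← hkerE] at hs
    have := Groth.Agent.Lib.Helper77.QuasiReg.mem_of_sum_mul_mem_sq f hqr a' hs k
    rw [← hker, RingHom.mem_ker, ha'] at this
    exact this
  let bK : Module.Basis (Fin c) B E.Cotangent := Module.Basis.mk hgli hgspan.ge
  let bM : Module.Basis (Fin (m + c)) B E.CotangentSpace := b.baseChange B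
  haveI : Module.Finite B E.Cotangent := Module.Finite.of_basis bK
  haveI : Module.Finite B E.CotangentSpace := Module.Finite.of_basis bM
  haveI : Module.Finite B Ω[B⁄A] := Module.Finite.of_surjective E.toKaehler E.toKaehler_surjective
  have hlc : ∀ x, l (E.cotangentComplex x) = x := fun x => DFunLike.congr_fun hl x
  let e : E.CotangentSpace ≃ₗ[B] E.Cotangent × Ω[B⁄A] :=
    LinearEquiv.ofBijective (l.prod E.toKaehler) (by
      constructor
      · rw [injective_iff_map_eq_zero]
        intro x hx
        have h1 : l x = 0 := congrArg Prod.fst hx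
        have h2 : E.toKaehler x = 0 := congrArg Prod.snd hx
        obtain ⟨k, rfl⟩ := (Algebra.Extension.exact_cotangentComplex_toKaehler x).mp h2
        rw [hlc] at h1
        rw [h1, map_zero]
      · rintro ⟨k, ω⟩
        obtain ⟨x₀, hx₀⟩ := E.toKaehler_surjective ω
        refine ⟨x₀ + E.cotangentComplex (k - l x₀), ?_⟩
        have h0 : E.toKaehler (E.cotangentComplex (k - l x₀)) = 0 :=
          (Algebra.Extension.exact_cotangentComplex_toKaehler _).mpr ⟨_, rfl⟩
        refine Prod.ext ?_ ?_
        · show l _ = k
          rw [map_add, hlc]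
          abel
        · show E.toKaehler _ = ω
          rw [map_add, h0, add_zero, hx₀])
  have h1 : Fitt.ideal B (E.Cotangent × Ω[B⁄A]) (m + c) = ⊤ := by
    rw [← fitt_congr e]
    exact (fitt_of_basis bM _).2 le_rfl
  rw [fitt_prod, Ideal.sum_eq_sup] at h1
  rw [_root_.eq_top_iff, ← h1]
  apply Finset.sup_le
  intro k hk
  rw [Finset.mem_range] at hk
  by_cases hkc : k < c
  · rw [(fitt_of_basis bK k).1 hkc, Ideal.bot_mul]
    exact bot_le
  · have h2 : Fitt.ideal B Ω[B⁄A] (m + c - k) ≤ Fitt.ideal B Ω[B⁄A] m := fitt_mono (by omega)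
    exact le_trans Ideal.mul_le_right h2

end K

section J

variable {R S : Type u} [CommRing R] [CommRing S] [Algebra R S]

theorem stdSmooth_of_fitt {N : ℕ} {σ : Type} [Finite σ] (P : Presentation R S (Fin N) σ) (p : ℕ)
    (hcard : Nat.card σ + p = N) (q : Ideal S) [q.IsPrime] (h : ¬ Fitt.ideal S Ω[S⁄R] p ≤ q) :
    ∃ Δ : S, Δ ∉ q ∧ ∀ (S' : Type u) [CommRing S'] [Algebra S S'] [Algebra R S'] [IsScalarTower R S S']
      [IsLocalization.Away Δ S'], Algebra.IsStandardSmoothOfRelativeDimension p R S' := by
  classical
  rw [fitt_kaehler_eq_Min P p] at h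
  obtain ⟨z, e, hz, hΔ⟩ : ∃ (z : Fin (N - p) → (Fin N → S)) (e : Fin (N - p) → Fin N),
      (∀ b, z b ∈ Set.range (jacRow P)) ∧ minor z e ∉ q := by
    by_contra hcon
    push Not at hcon
    apply h
    rw [Fitting.Min, Ideal.span_le]
    rintro d ⟨z, e, hz, rfl⟩
    exact hcon z e hz
  choose r hr using hz
  have he : Function.Injective e := by
    intro a a' haa'
    by_contra hne
    apply hΔ
    have : minor z e = 0 := Matrix.det_zero_of_row_eq hne (by funext b; simp [haa'])
    rw [this]; exact q.zero_mem
  have hrinj : Function.Injective r := by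
    intro a a' haa'
    by_contra hne
    apply hΔ
    have : minor z e = 0 := Matrix.det_zero_of_column_eq hne (by intro k; simp [← hr, haa'])
    rw [this]; exact q.zero_mem
  have hrsurj : Function.Surjective r := by
    haveI := Fintype.ofFinite σ
    have : Function.Bijective r := (Fintype.bijective_iff_injective_and_card r).mpr ⟨hrinj, by
      rw [Fintype.card_fin, ← Nat.card_eq_fintype_card]; omega⟩
    exact this.2
  let P' : Presentation R S (Fin N) (Fin (N - p)) :=
    { toGenerators := P.toGenerators
      relation := P.relation ∘ r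
      span_range_relation_eq_ker := by
        rw [hrsurj.range_comp]; exact P.span_range_relation_eq_ker }
  let PP : PreSubmersivePresentation R S (Fin N) (Fin (N - p)) :=
    { toPresentation := P', map := e, map_inj := he }
  have hjac : PP.jacobian = minor z e := by
    rw [PreSubmersivePresentation.jacobian_eq_jacobiMatrix_det, minor, RingHom.map_det]
    congr 1
    ext a b
    rw [RingHom.mapMatrix_apply, Matrix.map_apply, PreSubmersivePresentation.jacobiMatrix_apply,
      Matrix.of_apply, ← hr b, Generators.algebraMap_apply]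
    rfl
  refine ⟨minor z e, hΔ, ?_⟩
  intro S' _ _ _ _ _
  haveI : IsLocalization.Away PP.jacobian S' := by rw [hjac]; infer_instance
  let Q : SubmersivePresentation S S' Unit Unit :=
    SubmersivePresentation.localizationAway S' PP.jacobian
  let P'' : SubmersivePresentation R S' (Unit ⊕ Fin N) (Unit ⊕ Fin (N - p)) :=
    { toPreSubmersivePresentation := Q.toPreSubmersivePresentation.comp PP
      jacobian_isUnit := by
        rw [PreSubmersivePresentation.comp_jacobian_eq_jacobian_smul_jacobian, Algebra.smul_def, IsUnit.mul_iff]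
        refine ⟨?_, Q.jacobian_isUnit⟩
        exact IsLocalization.map_units _ (⟨PP.jacobian, 1, by simp⟩ : Submonoid.powers PP.jacobian) }
  exact P''.isStandardSmoothOfRelativeDimension (by simp [Presentation.dimension]; omega)

end J

section Quot

variable {A C B : Type u} [CommRing A] [CommRing C] [CommRing B] [Algebra A C] [Algebra A B]

theorem exists_presentation_quot (φ : C →ₐ[A] B) (hφ : Function.Surjective φ) {N j c : ℕ}
    (P : Presentation A C (Fin N) (Fin j)) (f : Fin c → C)
    (hker : RingHom.ker φ.toRingHom = Ideal.span (Set.range f)) :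
    Nonempty (Presentation A B (Fin N) (Fin j ⊕ Fin c)) := by
  choose f' hf' using fun k => P.algebraMap_surjective (f k)
  have hcomp : ∀ x : MvPolynomial (Fin N) A, aeval (R := A) (fun i => φ (P.val i)) x = φ (aeval P.val x) :=
    fun x => (MvPolynomial.comp_aeval_apply _ φ x).symm
  have hval : Function.Surjective (aeval (R := A) (fun i => φ (P.val i))) := by
    intro b
    obtain ⟨c', rfl⟩ := hφ b
    obtain ⟨x, rfl⟩ := P.algebraMap_surjective c'
    exact ⟨x, by rw [hcomp, P.algebraMap_apply]⟩
  let G : Generators A B (Fin N) := Generators.ofSurjective _ hval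
  have hfk : ∀ k, φ (f k) = 0 := by
    intro k
    have : f k ∈ RingHom.ker φ.toRingHom := by rw [hker]; exact Ideal.subset_span ⟨k, rfl⟩
    exact this
  refine ⟨{ toGenerators := G, relation := Sum.elim P.relation f', span_range_relation_eq_ker := ?_ }⟩
  rw [Generators.ker_eq_ker_aeval_val]
  apply le_antisymm
  · rw [Ideal.span_le]
    rintro _ ⟨(k | k), rfl⟩
    · show aeval G.val (P.relation k) = 0
      show aeval (R := A) (fun i => φ (P.val i)) (P.relation k) = 0
      rw [hcomp, P.aeval_val_relation, map_zero]
    · show aeval (R := A) (fun i => φ (P.val i)) (f' k) = 0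
      rw [hcomp, ← P.algebraMap_apply, hf' k, hfk]
  · intro x hx
    have hx' : aeval (R := A) (fun i => φ (P.val i)) x = 0 := hx
    rw [hcomp, ← P.algebraMap_apply] at hx'
    have h1 : algebraMap P.Ring C x ∈ RingHom.ker φ.toRingHom := hx'
    have h2 : Ideal.span (Set.range f) =
        Ideal.map (algebraMap P.Ring C) (Ideal.span (Set.range f')) := by
      rw [Ideal.map_span, ← Set.range_comp]
      congr 2
      funext k
      exact (hf' k).symm
    rw [hker, h2] at h1
    have h3 : x ∈ Ideal.comap (algebraMap P.Ring C) (Ideal.map (algebraMap P.Ring C)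
        (Ideal.span (Set.range f'))) := h1
    rw [Ideal.comap_map_of_surjective _ P.algebraMap_surjective] at h3
    have h4 : Ideal.comap (algebraMap P.Ring C) ⊥ = Ideal.span (Set.range P.relation) := by
      rw [P.span_range_relation_eq_ker]
      rfl
    rw [h4] at h3
    rw [Set.Sum.elim_range, Ideal.span_union, sup_comm]
    exact h3

theorem exists_away_stdSmooth (φ : C →ₐ[A] B) (hφ : Function.Surjective φ) (m c : ℕ)
    [Algebra.IsStandardSmoothOfRelativeDimension (m + c) A C]
    (f : Fin c → C) (hker : RingHom.ker φ.toRingHom = Ideal.span (Set.range f)) (q : Ideal B) [q.IsPrime]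
    (h : ¬ Fitt.ideal B Ω[B⁄A] m ≤ q) :
    ∃ Δ : B, Δ ∉ q ∧ ∀ (B' : Type u) [CommRing B'] [Algebra B B'] [Algebra A B'] [IsScalarTower A B B']
      [IsLocalization.Away Δ B'], Algebra.IsStandardSmoothOfRelativeDimension m A B' := by
  obtain ⟨ι, σ, _, _, P, hP⟩ :=
    (inferInstance : Algebra.IsStandardSmoothOfRelativeDimension (m + c) A C).out
  letI := Fintype.ofFinite ι
  letI := Fintype.ofFinite σ
  let P₁ : Presentation A C (Fin (Fintype.card ι)) (Fin (Fintype.card σ)) :=
    P.toPresentation.reindex (Fintype.equivFin ι).symm (Fintype.equivFin σ).symm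
  obtain ⟨P₂⟩ := exists_presentation_quot φ hφ P₁ f hker
  have hle : Fintype.card σ ≤ Fintype.card ι := Fintype.card_le_of_injective _ P.map_inj
  have hdim : Fintype.card ι - Fintype.card σ = m + c := by
    rw [← hP, Presentation.dimension, Nat.card_eq_fintype_card, Nat.card_eq_fintype_card]
  exact stdSmooth_of_fitt P₂ m (by simp [Nat.card_eq_fintype_card]; omega) q h

end Quot

end Groth.Agent.Lib.Helper45.LciJac
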