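import Mathlib

/-!
# Order of vanishing and open immersions (helper45)

* `ordFrac_transport`: `Ring.ordFrac` is invariant under compatible isomorphisms of DVRs and their
  fraction fields.
* `fieldMap f : K(X) ⟶ K(Y)` for an open immersion `f : Y ⟶ X` of integral schemes (an iso),
  `fieldMap_algebraMap` (compatibility with the stalk maps), `ord_fieldMap`
  (`ord (fieldMap f g) y = ord g (f y)` at codimension one points with DVR stalk),
  `fieldMap_ne_zero`, `exists_preimage`.
-/

set_option autoImplicit false
set_option linter.style.haveILetI false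
universe u
open CategoryTheory AlgebraicGeometry TopologicalSpace

namespace Groth.Agent.Lib.Helper45.OrdOpen

theorem ordFrac_transport {R R' K K' : Type*} [CommRing R] [IsDomain R] [IsDiscreteValuationRing R]
    [CommRing R'] [IsDomain R'] [IsDiscreteValuationRing R'] [Field K] [Field K'] [Algebra R K]
    [Algebra R' K'] [IsFractionRing R K] [IsFractionRing R' K'] (φ : R ≃+* R') (ψ : K ≃+* K')
    (h : ∀ r, ψ (algebraMap R K r) = algebraMap R' K' (φ r)) (x : K) :
    Ring.ordFrac R' (ψ x) = Ring.ordFrac R x := by
  have key : ∀ r : R, r ≠ 0 → Ring.ordFrac R' (algebraMap R' K' (φ r)) =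
      Ring.ordFrac R (algebraMap R K r) := by
    intro r hr
    obtain ⟨π, hπ⟩ := IsDiscreteValuationRing.exists_irreducible R
    obtain ⟨n, u, hu⟩ := IsDiscreteValuationRing.associated_pow_irreducible hr hπ
    have hπ' : Irreducible (φ π) := (MulEquiv.irreducible_iff φ.toMulEquiv).mpr hπ
    have hu' : IsUnit (φ (u : R)) := u.isUnit.map φ
    have h1 : Ring.ordFrac R (algebraMap R K r) * Ring.ordFrac R (algebraMap R K (u : R)) =
        Ring.ordFrac R (algebraMap R K π) ^ n := by
      rw [← map_mul, ← map_mul, hu, map_pow, map_pow]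
    have h2 : Ring.ordFrac R' (algebraMap R' K' (φ r)) * Ring.ordFrac R' (algebraMap R' K' (φ (u : R))) =
        Ring.ordFrac R' (algebraMap R' K' (φ π)) ^ n := by
      rw [← map_mul, ← map_mul, ← map_mul, hu, map_pow, map_pow, map_pow]
    rw [Ring.ordFrac_of_isUnit u.isUnit, mul_one, Ring.ordFrac_irreducible hπ] at h1
    rw [Ring.ordFrac_of_isUnit hu', mul_one, Ring.ordFrac_irreducible hπ'] at h2
    rw [h1, h2]
  by_cases hx : x = 0
  · simp [hx]
  obtain ⟨a, b, hb, rfl⟩ := IsFractionRing.div_surjective (A := R) x
  have hb0 : b ≠ 0 := nonZeroDivisors.ne_zero hb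
  have ha0 : a ≠ 0 := by
    rintro rfl
    simp at hx
  rw [map_div₀, map_div₀, map_div₀, h, h, key a ha0, key b hb0]

section
variable {X Y : Scheme.{u}} [IsIntegral X] [IsIntegral Y] (f : Y ⟶ X) [IsOpenImmersion f]

noncomputable def fieldMap : X.functionField ⟶ Y.functionField :=
  X.presheaf.stalkSpecializes
    ((Inseparable.of_eq (genericPoint_eq_of_isOpenImmersion f)).specializes) ≫
    f.stalkMap (genericPoint Y)

instance : IsIso (fieldMap f) := by
  unfold fieldMap
  have : IsIso (X.presheaf.stalkSpecializes
      ((Inseparable.of_eq (genericPoint_eq_of_isOpenImmersion f)).specializes)) :=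
    (X.presheaf.stalkCongr (Inseparable.of_eq (genericPoint_eq_of_isOpenImmersion f)).symm).isIso_hom
  infer_instance

theorem fieldMap_algebraMap (y : Y) (r : X.presheaf.stalk (f y)) :
    fieldMap f (algebraMap (X.presheaf.stalk (f y)) X.functionField r) =
      algebraMap (Y.presheaf.stalk y) Y.functionField (f.stalkMap y r) := by
  have hy : genericPoint Y ⤳ y := (genericPoint_spec Y).specializes trivial
  have hfy : genericPoint X ⤳ f y := (genericPoint_spec X).specializes trivial
  have e : X.presheaf.stalkSpecializes hfy ≫ fieldMap f =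
      f.stalkMap y ≫ Y.presheaf.stalkSpecializes hy := by
    unfold fieldMap
    rw [← Category.assoc, TopCat.Presheaf.stalkSpecializes_comp]
    exact f.stalkSpecializes_stalkMap (genericPoint Y) y hy
  exact ConcreteCategory.congr_hom e r

theorem ord_fieldMap [IsLocallyNoetherian X] [IsLocallyNoetherian Y] (y : Y)
    (hy : Order.coheight y = 1)
    [IsDiscreteValuationRing (X.presheaf.stalk (f y))] (g : X.functionField) :
    Scheme.ord (fieldMap f g) y = Scheme.ord g (f y) := by
  have hfy : Order.coheight (f y) = 1 := by rw [coheight_eq_of_isOpenImmersion f]; exact hy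
  let φ : X.presheaf.stalk (f y) ≃+* Y.presheaf.stalk y :=
    (asIso (f.stalkMap y)).commRingCatIsoToRingEquiv
  haveI : IsDiscreteValuationRing (Y.presheaf.stalk y) :=
    IsDiscreteValuationRing.RingEquivClass.isDiscreteValuationRing φ
  let ψ : X.functionField ≃+* Y.functionField := (asIso (fieldMap f)).commRingCatIsoToRingEquiv
  have key : Ring.ordFrac (Y.presheaf.stalk y) (ψ g) = Ring.ordFrac (X.presheaf.stalk (f y)) g :=
    ordFrac_transport φ ψ (fun r => fieldMap_algebraMap f y r) g
  rw [Scheme.ord_eq_ordHom_of_coheight_eq_one hy, Scheme.ord_eq_ordHom_of_coheight_eq_one hfy]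
  congr 2

end

theorem fieldMap_ne_zero {X Y : Scheme.{u}} [IsIntegral X] [IsIntegral Y] (f : Y ⟶ X)
    [IsOpenImmersion f] {g : X.functionField} (hg : g ≠ 0) : fieldMap f g ≠ 0 := by
  intro h
  apply hg
  have := (fieldMap f).hom.injective
  apply this
  rw [h, map_zero]

theorem exists_preimage {X Y : Scheme.{u}} [IsIntegral X] [IsIntegral Y] (f : Y ⟶ X)
    [IsOpenImmersion f] (g : Y.functionField) : ∃ g' : X.functionField, fieldMap f g' = g := by
  refine ⟨(inv (fieldMap f)) g, ?_⟩
  have := IsIso.inv_hom_id (fieldMap f)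
  exact ConcreteCategory.congr_hom this g


end Groth.Agent.Lib.Helper45.OrdOpen
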