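import Groth.Agent.Lib.Helper45.SplitInj

/-!
# Splitting criteria that only look at maximal ideals (helper45)

* `exists_retraction_of_forall_maximal` : `φ : P₁ → P₂` (`P₁` finite, `P₂` finite projective) with `φ ⊗ κ(m)`
  injective for all maximal `m` is a split injection.
* `mem_smul_top_of_one_tmul_eq_zero` : for maximal `m`, `1 ⊗ y = 0` in `κ(m) ⊗ P` forces `y ∈ m P`.
* `projective_quotient_of_forall_maximal` : `P` finite projective, `D ≤ P` f.g. with `D ∩ mP ⊆ mD` for all
  maximal `m`; then `P ⧸ D` is projective (and `D` is a direct summand).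
-/

namespace Groth.Agent.Lib.Helper45.SplitInj

open TensorProduct

universe u

variable {R : Type u} [CommRing R] {P₁ P₂ : Type*} [AddCommGroup P₁] [Module R P₁] [AddCommGroup P₂]
  [Module R P₂]

theorem exists_retraction_of_forall_maximal [Module.Finite R P₁] [Module.Finite R P₂]
    [Module.Projective R P₂] (φ : P₁ →ₗ[R] P₂)
    (h : ∀ (m : Ideal R) [m.IsMaximal], Function.Injective (LinearMap.lTensor m.ResidueField φ)) :
    ∃ ψ : P₂ →ₗ[R] P₁, ψ ∘ₗ φ = LinearMap.id := by
  let J : Ideal R :=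
    { carrier := {g | ∃ ψ : P₂ →ₗ[R] P₁, ψ ∘ₗ φ = g • LinearMap.id}
      zero_mem' := ⟨0, by simp⟩
      add_mem' := by
        rintro a b ⟨ψ, hψ⟩ ⟨ψ', hψ'⟩
        exact ⟨ψ + ψ', by rw [LinearMap.add_comp, hψ, hψ', add_smul]⟩
      smul_mem' := by
        rintro c a ⟨ψ, hψ⟩
        exact ⟨c • ψ, by rw [LinearMap.smul_comp, hψ, smul_smul, smul_eq_mul]⟩ }
  have hJ : J = ⊤ := by
    by_contra hne
    obtain ⟨m, hm, hle⟩ := Ideal.exists_le_maximal J hne
    obtain ⟨g, ψ, hg, hψ⟩ := exists_smul_retraction φ m (h m)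
    exact hg (hle ⟨ψ, hψ⟩)
  have h1 : (1 : R) ∈ J := hJ ▸ Submodule.mem_top
  obtain ⟨ψ, hψ⟩ := h1
  exact ⟨ψ, by rw [hψ, one_smul]⟩

/-- for a maximal ideal, `1 ⊗ y = 0` in the fibre means `y ∈ m P` -/
theorem mem_smul_top_of_one_tmul_eq_zero (m : Ideal R) [m.IsMaximal] (P : Type*) [AddCommGroup P]
    [Module R P] (y : P) (hy : (1 : m.ResidueField) ⊗ₜ[R] y = 0) :
    y ∈ m • (⊤ : Submodule R P) := by
  let e₀ : (R ⧸ m) ≃ₗ[R] m.ResidueField :=
    LinearEquiv.ofBijective ((Algebra.linearMap (R ⧸ m) m.ResidueField).restrictScalars R)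
      m.bijective_algebraMap_quotient_residueField
  let e : m.ResidueField ⊗[R] P ≃ₗ[R] P ⧸ (m • (⊤ : Submodule R P)) :=
    (TensorProduct.congr e₀.symm (LinearEquiv.refl R P)) ≪≫ₗ TensorProduct.quotTensorEquivQuotSMul P m
  have he₀ : e₀.symm 1 = 1 := by
    rw [LinearEquiv.symm_apply_eq]
    simp [e₀]
  have h1 : e ((1 : m.ResidueField) ⊗ₜ[R] y) = Submodule.Quotient.mk y := by
    simp only [e, LinearEquiv.trans_apply, TensorProduct.congr_tmul, LinearEquiv.refl_apply, he₀,
      TensorProduct.quotTensorEquivQuotSMul_mk_one_tmul]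
  rw [hy, map_zero] at h1
  exact (Submodule.Quotient.mk_eq_zero _).mp h1.symm

/-- for a maximal ideal every element of the fibre is of the form `1 ⊗ d` -/
theorem exists_one_tmul_eq (m : Ideal R) [m.IsMaximal] (P : Type*) [AddCommGroup P]
    [Module R P] (z : m.ResidueField ⊗[R] P) : ∃ d : P, (1 : m.ResidueField) ⊗ₜ[R] d = z := by
  induction z using TensorProduct.induction_on with
  | zero => exact ⟨0, by simp⟩
  | add x y hx hy =>
    obtain ⟨d, rfl⟩ := hx
    obtain ⟨d', rfl⟩ := hy
    exact ⟨d + d', by rw [TensorProduct.tmul_add]⟩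
  | tmul c d =>
    obtain ⟨a, rfl⟩ := m.algebraMap_residueField_surjective c
    exact ⟨a • d, by
      rw [TensorProduct.tmul_smul, TensorProduct.smul_tmul', Algebra.algebraMap_eq_smul_one]⟩

/-- `1 ⊗ d = 0` in `κ(m) ⊗ P` as soon as `d ∈ m P` -/
theorem one_tmul_eq_zero_of_mem_smul_top (m : Ideal R) [m.IsPrime] (P : Type*) [AddCommGroup P]
    [Module R P] (y : P) (hy : y ∈ m • (⊤ : Submodule R P)) : (1 : m.ResidueField) ⊗ₜ[R] y = 0 := by
  refine Submodule.smul_induction_on hy ?_ ?_
  · intro a ha x _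
    rw [TensorProduct.tmul_smul, TensorProduct.smul_tmul', Algebra.smul_def, mul_one,
      (Ideal.algebraMap_residueField_eq_zero).mpr ha, TensorProduct.zero_tmul]
  · intro x y hx hy
    rw [TensorProduct.tmul_add, hx, hy, add_zero]

/-- `D ≤ P` with `D ∩ mP ⊆ mD` for all maximal ideals `m` is a direct summand of the finite projective `P` -/
theorem exists_retraction_subtype_of_forall_maximal {P : Type*} [AddCommGroup P] [Module R P]
    [Module.Finite R P] [Module.Projective R P] (D : Submodule R P) (hD : D.FG)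
    (h : ∀ (m : Ideal R) [m.IsMaximal], ∀ d ∈ D, d ∈ m • (⊤ : Submodule R P) → d ∈ m • D) :
    ∃ ψ : P →ₗ[R] D, ψ ∘ₗ D.subtype = LinearMap.id := by
  have : Module.Finite R D := Module.Finite.iff_fg.mpr hD
  apply exists_retraction_of_forall_maximal
  intro m hm
  rw [injective_iff_map_eq_zero]
  intro z hz
  obtain ⟨d, rfl⟩ := exists_one_tmul_eq m D z
  rw [LinearMap.lTensor_tmul, Submodule.subtype_apply] at hz
  have h1 := mem_smul_top_of_one_tmul_eq_zero m P (d : P) hz
  have h2 : (d : P) ∈ m • D := h m d d.2 h1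
  -- transport to `m • ⊤` inside `D`
  have h3 : d ∈ m • (⊤ : Submodule R D) := by
    have : m • D = (m • (⊤ : Submodule R D)).map D.subtype := by
      rw [Submodule.map_smul'', Submodule.map_top, Submodule.range_subtype]
    rw [this] at h2
    obtain ⟨d', hd', hdd⟩ := h2
    have : d' = d := Subtype.ext hdd
    rwa [← this]
  exact one_tmul_eq_zero_of_mem_smul_top m D d h3

/-- the quotient of a finite projective module by such a submodule is projective -/
theorem projective_quotient_of_forall_maximal {P : Type*} [AddCommGroup P] [Module R P]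
    [Module.Finite R P] [Module.Projective R P] (D : Submodule R P) (hD : D.FG)
    (h : ∀ (m : Ideal R) [m.IsMaximal], ∀ d ∈ D, d ∈ m • (⊤ : Submodule R P) → d ∈ m • D) :
    Module.Projective R (P ⧸ D) := by
  obtain ⟨ψ, hψ⟩ := exists_retraction_subtype_of_forall_maximal D hD h
  -- `P ⧸ D` is a retract of `P`: section `x ↦ x - ψ x`
  have hψ' : ∀ d : D, ψ (d : P) = d := fun d => LinearMap.congr_fun hψ d
  let s : (P ⧸ D) →ₗ[R] P := D.liftQ (LinearMap.id - D.subtype ∘ₗ ψ) (by
    intro d hd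
    rw [LinearMap.mem_ker, LinearMap.sub_apply, LinearMap.id_apply, LinearMap.comp_apply,
      Submodule.subtype_apply]
    have := hψ' ⟨d, hd⟩
    rw [this, sub_self])
  refine Module.Projective.of_split s D.mkQ ?_
  ext x
  simp only [LinearMap.comp_apply, Submodule.mkQ_apply, LinearMap.id_apply, s, Submodule.liftQ_apply,
    LinearMap.sub_apply, Submodule.subtype_apply, Submodule.Quotient.mk_sub]
  rw [(Submodule.Quotient.mk_eq_zero D).mpr (ψ x).2, sub_zero]

end Groth.Agent.Lib.Helper45.SplitInj
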