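import Mathlib
import Groth.Agent.Lib.Helper45.SplitMax
import Groth.Agent.Lib.Helper45.QuotProj

/-!
# Lattices in `R⟦X⟧ ^ n` (helper45)

For a submodule `Λ` of `R⟦X⟧ ^ n` containing `X ^ M • R⟦X⟧ ^ n`:
`Λ` is finite projective over `R⟦X⟧` iff `R⟦X⟧ ^ n ⧸ Λ` is projective over `R`.
-/

namespace Groth.Agent.Lib.Helper45.PSLattice

open PowerSeries Groth.Agent.Lib.Helper45.SplitInj Groth.Agent.Lib.Helper45.QuotProj

universe u v

variable {R : Type u} [CommRing R]

section trunc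

variable (n M : ℕ)

/-- coefficients below `M` -/
noncomputable def theta : (Fin n → R⟦X⟧) →ₗ[R] (Fin n → Fin M → R) where
  toFun y := fun k j => coeff (j : ℕ) (y k)
  map_add' := by intros; ext; simp
  map_smul' := by intros; ext; simp

/-- polynomial vector with given coefficients -/
noncomputable def tau : (Fin n → Fin M → R) →ₗ[R] (Fin n → R⟦X⟧) where
  toFun c := fun k => PowerSeries.mk fun j => if h : j < M then c k ⟨j, h⟩ else 0
  map_add' := by
    intro c c'; ext k j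
    simp only [Pi.add_apply, coeff_mk, map_add]
    split_ifs <;> simp
  map_smul' := by
    intro r c; ext k j
    simp only [Pi.smul_apply, coeff_mk, smul_eq_mul, RingHom.id_apply, map_smul]
    split_ifs <;> simp

@[simp] lemma theta_apply (y : Fin n → R⟦X⟧) (k : Fin n) (j : Fin M) :
    theta n M y k j = coeff (j : ℕ) (y k) := rfl

@[simp] lemma coeff_tau (c : Fin n → Fin M → R) (k : Fin n) (j : ℕ) :
    coeff j (tau n M c k) = if h : j < M then c k ⟨j, h⟩ else 0 := by
  simp [tau]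

lemma theta_tau (c : Fin n → Fin M → R) : theta n M (tau n M c) = c := by
  ext k j; simp

lemma sub_tau_theta (y : Fin n → R⟦X⟧) :
    ∃ v : Fin n → R⟦X⟧, y - tau n M (theta n M y) = ((X : R⟦X⟧) ^ M) • v := by
  have : ∀ k, (X : R⟦X⟧) ^ M ∣ y k - tau n M (theta n M y) k := by
    intro k
    rw [X_pow_dvd_iff]
    intro j hj
    simp [hj]
  choose v hv using this
  exact ⟨v, by ext1 k; simp [hv k]⟩

lemma theta_smul (a : R⟦X⟧) (y : Fin n → R⟦X⟧) :
    theta n M (a • y) =
      ∑ p ∈ Finset.range M, coeff p a • theta n M (((X : R⟦X⟧) ^ p) • y) := by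
  ext k j
  simp only [theta_apply, Pi.smul_apply, smul_eq_mul, Finset.sum_apply, coeff_X_pow_mul']
  rw [coeff_mul, Finset.Nat.sum_antidiagonal_eq_sum_range_succ (fun p q => coeff p a * coeff q (y k))]
  have hsub : Finset.range ((j : ℕ) + 1) ⊆ Finset.range M := by
    intro p hp
    rw [Finset.mem_range] at hp ⊢
    omega
  rw [← Finset.sum_subset hsub]
  · refine Finset.sum_congr rfl fun p hp => ?_
    rw [Finset.mem_range] at hp
    rw [if_pos (by omega)]
  · intro p _ hp
    rw [Finset.mem_range] at hp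
    rw [if_neg (by omega), mul_zero]

end trunc

/-- power series all of whose coefficients lie in `m` -/
noncomputable def coeffIdeal (m : Ideal R) : Ideal R⟦X⟧ :=
  RingHom.ker (PowerSeries.map (Ideal.Quotient.mk m))

lemma mem_coeffIdeal_iff (m : Ideal R) (a : R⟦X⟧) : a ∈ coeffIdeal m ↔ ∀ j, coeff j a ∈ m := by
  rw [coeffIdeal, RingHom.mem_ker, PowerSeries.ext_iff]
  simp only [coeff_map, map_zero, Ideal.Quotient.eq_zero_iff_mem]

lemma mem_coeffIdeal_of_X_pow_mul (m : Ideal R) (M : ℕ) (c : R⟦X⟧)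
    (h : (X : R⟦X⟧) ^ M * c ∈ coeffIdeal m) : c ∈ coeffIdeal m := by
  rw [mem_coeffIdeal_iff] at h ⊢
  intro j
  have := h (j + M)
  rwa [coeff_X_pow_mul] at this

lemma mem_of_mem_smul_top_pi {ι κ : Type*} (m : Ideal R) (d : ι → κ → R)
    (hd : d ∈ m • (⊤ : Submodule R (ι → κ → R))) (i : ι) (j : κ) : d i j ∈ m := by
  refine Submodule.smul_induction_on (p := fun d => d i j ∈ m) hd ?_ ?_
  · intro r hr x _
    simp only [Pi.smul_apply, smul_eq_mul]
    exact Ideal.mul_mem_right _ _ hr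
  · intro x y hx hy
    simp only [Pi.add_apply]
    exact Ideal.add_mem _ hx hy

section forward

variable (n M : ℕ) (Λ : Submodule R⟦X⟧ (Fin n → R⟦X⟧))

/-- the `R`-linear surjection `R^(n × M) → R⟦X⟧^n ⧸ Λ` -/
noncomputable def toQuot : (Fin n → Fin M → R) →ₗ[R] ((Fin n → R⟦X⟧) ⧸ Λ) :=
  (Λ.mkQ.restrictScalars R) ∘ₗ tau n M

lemma toQuot_apply (c : Fin n → Fin M → R) : toQuot n M Λ c = Λ.mkQ (tau n M c) := rfl

lemma mem_ker_toQuot (c : Fin n → Fin M → R) :
    c ∈ LinearMap.ker (toQuot n M Λ) ↔ tau n M c ∈ Λ := by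
  rw [LinearMap.mem_ker, toQuot_apply, Submodule.mkQ_apply, Submodule.Quotient.mk_eq_zero]

variable (hΛ : ∀ v : Fin n → R⟦X⟧, ((X : R⟦X⟧) ^ M) • v ∈ Λ)

include hΛ

lemma tau_theta_mem (y : Fin n → R⟦X⟧) (hy : y ∈ Λ) : tau n M (theta n M y) ∈ Λ := by
  obtain ⟨v, hv⟩ := sub_tau_theta n M y
  have : tau n M (theta n M y) = y - ((X : R⟦X⟧) ^ M) • v := by rw [← hv]; abel
  rw [this]
  exact Λ.sub_mem hy (hΛ v)

lemma theta_mem_ker (y : Fin n → R⟦X⟧) (hy : y ∈ Λ) :
    theta n M y ∈ LinearMap.ker (toQuot n M Λ) :=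
  (mem_ker_toQuot n M Λ _).mpr (tau_theta_mem n M Λ hΛ y hy)

lemma toQuot_surjective : Function.Surjective (toQuot n M Λ) := by
  intro q
  obtain ⟨y, rfl⟩ := Λ.mkQ_surjective q
  refine ⟨theta n M y, ?_⟩
  rw [toQuot_apply]
  obtain ⟨v, hv⟩ := sub_tau_theta n M y
  symm
  rw [Submodule.mkQ_apply, Submodule.mkQ_apply, Submodule.Quotient.eq, hv]
  exact hΛ v

lemma finite_quotient : Module.Finite R ((Fin n → R⟦X⟧) ⧸ Λ) :=
  Module.Finite.of_surjective (toQuot n M Λ) (toQuot_surjective n M Λ hΛ)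

lemma ker_toQuot_fg (hfg : Λ.FG) : (LinearMap.ker (toQuot n M Λ)).FG := by
  classical
  obtain ⟨S, hS⟩ := hfg
  let G : Finset (Fin n → Fin M → R) :=
    (Finset.range M ×ˢ S).image fun ps => theta n M (((X : R⟦X⟧) ^ ps.1) • ps.2)
  refine ⟨G, le_antisymm ?_ ?_⟩
  · rw [Submodule.span_le]
    intro g hg
    rw [Finset.mem_coe, Finset.mem_image] at hg
    obtain ⟨⟨p, s⟩, hps, rfl⟩ := hg
    rw [Finset.mem_product] at hps
    have hs : s ∈ Λ := hS ▸ Submodule.subset_span hps.2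
    exact theta_mem_ker n M Λ hΛ _ (Λ.smul_mem _ hs)
  · intro d hd
    have key : ∀ y ∈ Submodule.span R⟦X⟧ (S : Set (Fin n → R⟦X⟧)), ∀ a : R⟦X⟧,
        theta n M (a • y) ∈ Submodule.span R (G : Set (Fin n → Fin M → R)) := by
      intro y hy
      induction hy using Submodule.span_induction with
      | mem y hy =>
        intro a
        rw [theta_smul]
        refine Submodule.sum_mem _ fun p hp => Submodule.smul_mem _ _ (Submodule.subset_span ?_)
        rw [Finset.mem_coe, Finset.mem_image]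
        exact ⟨(p, y), Finset.mem_product.mpr ⟨hp, hy⟩, rfl⟩
      | zero => intro a; simp
      | add y y' _ _ h h' => intro a; rw [smul_add, map_add]; exact Submodule.add_mem _ (h a) (h' a)
      | smul b y _ h => intro a; rw [smul_smul]; exact h _
    have hd' := (mem_ker_toQuot n M Λ d).mp hd
    rw [← hS] at hd'
    have := key _ hd' 1
    rwa [one_smul, theta_tau] at this

theorem projective_quotient [Module.Finite R⟦X⟧ Λ] [Module.Projective R⟦X⟧ Λ] :
    Module.Projective R ((Fin n → R⟦X⟧) ⧸ Λ) := by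
  classical
  have hfg : Λ.FG := Module.Finite.iff_fg.mp inferInstance
  set D := LinearMap.ker (toQuot n M Λ) with hD
  have hproj : Module.Projective R ((Fin n → Fin M → R) ⧸ D) := by
    refine projective_quotient_of_forall_maximal D (ker_toQuot_fg n M Λ hΛ hfg) ?_
    intro m hm d hd hdm
    have hx : tau n M d ∈ Λ := (mem_ker_toQuot n M Λ d).mp hd
    have hcomp : ∀ k, tau n M d k ∈ coeffIdeal m := by
      intro k
      rw [mem_coeffIdeal_iff]
      intro j
      rw [coeff_tau]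
      split_ifs
      · exact mem_of_mem_smul_top_pi m d hdm _ _
      · exact m.zero_mem
    -- `X ^ M • x ∈ 𝔄 Λ`
    have h1 : ((X : R⟦X⟧) ^ M) • (⟨tau n M d, hx⟩ : Λ) ∈
        coeffIdeal m • (⊤ : Submodule R⟦X⟧ Λ) := by
      have h2 : ((X : R⟦X⟧) ^ M) • (⟨tau n M d, hx⟩ : Λ) =
          ∑ k, tau n M d k • (⟨((X : R⟦X⟧) ^ M) • Pi.single k 1, hΛ _⟩ : Λ) := by
        apply Subtype.ext
        rw [Submodule.coe_smul, Submodule.coe_sum]
        simp only [Submodule.coe_smul]
        ext1 k'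
        simp only [Pi.smul_apply, smul_eq_mul, Finset.sum_apply, Pi.single_apply, mul_ite, mul_one,
          mul_zero, Finset.sum_ite_eq, Finset.mem_univ, if_true]
        ring
      rw [h2]
      exact Submodule.sum_mem _ fun k _ => Submodule.smul_mem_smul (hcomp k) Submodule.mem_top
    have h3 : (⟨tau n M d, hx⟩ : Λ) ∈ coeffIdeal m • (⊤ : Submodule R⟦X⟧ Λ) := by
      refine mem_of_smul_mem_smul_top (A := R⟦X⟧) (B := R⟦X⟧) Λ (coeffIdeal m)
        (coeffIdeal m • (⊤ : Submodule R⟦X⟧ Λ)) ((X : R⟦X⟧) ^ M) ?_ _ h1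
      intro c hc y
      rw [Algebra.algebraMap_self, Ideal.map_id, RingHom.id_apply] at hc
      exact Submodule.smul_mem_smul (mem_coeffIdeal_of_X_pow_mul m M c hc) Submodule.mem_top
    have h4 : ∀ z ∈ coeffIdeal m • (⊤ : Submodule R⟦X⟧ Λ), theta n M (z : Fin n → R⟦X⟧) ∈ m • D := by
      intro z hz
      refine Submodule.smul_induction_on hz ?_ ?_
      · intro a ha y _
        rw [Submodule.coe_smul, theta_smul]
        refine Submodule.sum_mem _ fun p _ => Submodule.smul_mem_smul ?_ ?_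
        · exact (mem_coeffIdeal_iff m a).mp ha p
        · exact theta_mem_ker n M Λ hΛ _ (Λ.smul_mem _ y.2)
      · intro z z' hz hz'
        rw [Submodule.coe_add, map_add]
        exact Submodule.add_mem _ hz hz'
    have := h4 _ h3
    rwa [theta_tau] at this
  exact Module.Projective.of_equiv
    ((toQuot n M Λ).quotKerEquivOfSurjective (toQuot_surjective n M Λ hΛ))

end forward

section linear

variable {Q N : Type*} [AddCommGroup Q] [Module R Q] [Module R⟦X⟧ Q] [IsScalarTower R R⟦X⟧ Q]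
  [AddCommGroup N] [Module R N] [Module R⟦X⟧ N] [IsScalarTower R R⟦X⟧ N]

lemma C_smul_eq (r : R) (q : Q) : (C r : R⟦X⟧) • q = r • q := by
  rw [← algebraMap_smul R⟦X⟧ r q]; rfl

/-- an `R`-linear map commuting with `X` between modules killed by a power of `X` is `R⟦X⟧`-linear -/
theorem map_smul_of_X (M : ℕ) (hQ : ∀ q : Q, ((X : R⟦X⟧) ^ M) • q = 0)
    (hN : ∀ x : N, ((X : R⟦X⟧) ^ M) • x = 0)
    (ρ : Q →ₗ[R] N) (hρ : ∀ q, ρ ((X : R⟦X⟧) • q) = (X : R⟦X⟧) • ρ q) (a : R⟦X⟧) (q : Q) :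
    ρ (a • q) = a • ρ q := by
  have hpow : ∀ (j : ℕ) (q : Q), ρ (((X : R⟦X⟧) ^ j) • q) = ((X : R⟦X⟧) ^ j) • ρ q := by
    intro j
    induction j with
    | zero => intro q; simp
    | succ j ih => intro q; rw [pow_succ', mul_smul, hρ, ih, mul_smul]
  have key : ∀ i : ℕ, i ≤ M → ∀ (a : R⟦X⟧) (q : Q),
      ρ (((X : R⟦X⟧) ^ (M - i) * a) • q) = ((X : R⟦X⟧) ^ (M - i) * a) • ρ q := by
    intro i
    induction i with
    | zero =>
      intro _ a q
      rw [Nat.sub_zero, mul_comm, mul_smul, mul_smul, hQ, hN, smul_zero, smul_zero, map_zero]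
    | succ i ih =>
      intro hi a q
      have h1 : (X : R⟦X⟧) ^ (M - (i + 1)) * a =
          C (constantCoeff a) * (X : R⟦X⟧) ^ (M - (i + 1)) +
            (X : R⟦X⟧) ^ (M - i) * (PowerSeries.mk fun p => coeff (p + 1) a) := by
        have h2 : M - i = (M - (i + 1)) + 1 := by omega
        conv_lhs => rw [eq_X_mul_shift_add_const a]
        rw [h2, pow_succ]
        ring
      have h3 : ρ ((C (constantCoeff a) * (X : R⟦X⟧) ^ (M - (i + 1))) • q) =
          (C (constantCoeff a) * (X : R⟦X⟧) ^ (M - (i + 1))) • ρ q := by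
        rw [mul_smul, mul_smul, C_smul_eq, C_smul_eq, map_smul, hpow]
      rw [h1, add_smul, add_smul, map_add, ih (by omega), h3]
  have := key M le_rfl a q
  rwa [Nat.sub_self, pow_zero, one_mul] at this

end linear

section resolution

variable (m : ℕ)

/-- extension of scalars of endomorphisms of `R ^ m` to `R⟦X⟧ ^ m`, as a ring homomorphism -/
noncomputable def extEnd : Module.End R (Fin m → R) →+* Module.End R⟦X⟧ (Fin m → R⟦X⟧) :=
  ((Matrix.toLinAlgEquiv' (R := R⟦X⟧) (n := Fin m)).toRingEquiv.toRingHom).comp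
    (((C : R →+* R⟦X⟧).mapMatrix).comp
      ((LinearMap.toMatrixAlgEquiv' (R := R) (n := Fin m)).toRingEquiv.toRingHom))

/-- constant vectors -/
noncomputable def constVec : (Fin m → R) →ₗ[R] (Fin m → R⟦X⟧) where
  toFun c := fun k => C (c k)
  map_add' := by intro c c'; ext1 k; simp
  map_smul' := by
    intro r c; ext1 k
    change C (r * c k) = r • C (c k)
    rw [map_mul, smul_eq_C_mul]

@[simp] lemma constVec_apply (c : Fin m → R) (k : Fin m) : constVec m c k = C (c k) := rfl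

lemma extEnd_constVec (g : Module.End R (Fin m → R)) (c : Fin m → R) :
    extEnd m g (constVec m c) = constVec m (g c) := by
  ext1 k
  have h1 : extEnd m g (constVec m c) =
      ((LinearMap.toMatrix' g).map (C : R →+* R⟦X⟧)).mulVec ((C : R →+* R⟦X⟧) ∘ c) := rfl
  rw [h1, ← RingHom.map_mulVec, LinearMap.toMatrix'_mulVec]
  rfl

lemma single_eq_constVec (k : Fin m) :
    (Pi.single k 1 : Fin m → R⟦X⟧) = constVec m (Pi.single k 1) := by
  ext1 k'
  rw [constVec_apply]
  by_cases h : k' = k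
  · subst h; simp
  · simp [h]

end resolution

section resolution2

variable {Q : Type v} [AddCommGroup Q] [Module R Q] [Module R⟦X⟧ Q] [IsScalarTower R R⟦X⟧ Q]

/-- a finite projective `R`-module with a compatible `R⟦X⟧`-structure killed by `X ^ M` has a two-term free
resolution over `R⟦X⟧` -/
theorem exists_resolution [Module.Finite R Q] [Module.Projective R Q] (M : ℕ)
    (hM : ∀ q : Q, ((X : R⟦X⟧) ^ M) • q = 0) :
    ∃ (m : ℕ) (ε : (Fin m → R⟦X⟧) →ₗ[R⟦X⟧] Q) (Φ : (Fin m → R⟦X⟧) →ₗ[R⟦X⟧] (Fin m → R⟦X⟧)),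
      Function.Surjective ε ∧ Function.Injective Φ ∧ LinearMap.range Φ = LinearMap.ker ε := by
  classical
  obtain ⟨m, π, hπ⟩ := Module.Finite.exists_fin' R Q
  obtain ⟨i, hi⟩ := Module.projective_lifting_property π LinearMap.id hπ
  have hπi : ∀ q, π (i q) = q := fun q => LinearMap.congr_fun hi q
  let u : Q →ₗ[R] Q :=
    { toFun := fun q => (X : R⟦X⟧) • q
      map_add' := smul_add _
      map_smul' := fun r q => smul_comm _ _ _ }
  have hu : ∀ q, u q = (X : R⟦X⟧) • q := fun _ => rfl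
  let e : Module.End R (Fin m → R) := i ∘ₗ π
  let U : Module.End R (Fin m → R) := i ∘ₗ u ∘ₗ π
  have he : ∀ c, e c = i (π c) := fun _ => rfl
  have hU : ∀ c, U c = i ((X : R⟦X⟧) • π c) := fun _ => rfl
  have hee : e * e = e := LinearMap.ext fun c => by
    rw [Module.End.mul_apply, he, he, hπi]
  have heU : e * U = U := LinearMap.ext fun c => by
    rw [Module.End.mul_apply, he, hU, hπi]
  have hUe : U * e = U := LinearMap.ext fun c => by
    rw [Module.End.mul_apply, he, hU, hU, hπi]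
  have hUpow : ∀ (j : ℕ) (c : Fin m → R), (U ^ (j + 1)) c = i (((X : R⟦X⟧) ^ (j + 1)) • π c) := by
    intro j
    induction j with
    | zero => intro c; rw [zero_add, pow_one, pow_one, hU]
    | succ j ih =>
      intro c
      rw [pow_succ, Module.End.mul_apply, ih, hU, hπi, pow_succ ((X : R⟦X⟧)) (j + 1), mul_smul]
  have hQ' : ∀ q : Q, ((X : R⟦X⟧) ^ (M + 1)) • q = 0 := by
    intro q; rw [pow_succ, mul_smul, hM]
  have hUM : U ^ (M + 1) = 0 := LinearMap.ext fun c => by
    rw [hUpow, hQ', map_zero, LinearMap.zero_apply]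
  set eA := extEnd m e with heA
  set UA := extEnd m U with hUA
  have heeA : eA * eA = eA := by rw [heA, ← map_mul, hee]
  have heUA : eA * UA = UA := by rw [heA, hUA, ← map_mul, heU]
  have hUeA : UA * eA = UA := by rw [heA, hUA, ← map_mul, hUe]
  have hUAM : UA ^ (M + 1) = 0 := by rw [hUA, ← map_pow, hUM, map_zero]
  let Φ : Module.End R⟦X⟧ (Fin m → R⟦X⟧) := (X : R⟦X⟧) • eA - UA + 1 - eA
  have hΦ : Φ = (X : R⟦X⟧) • eA - UA + 1 - eA := rfl
  have h1 : (1 - eA) * Φ = 1 - eA := by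
    rw [hΦ]
    simp only [mul_add, mul_sub, sub_mul, one_mul, mul_one, mul_smul_comm, heeA, heUA, sub_self,
      smul_zero, zero_add]
    abel
  have h2 : Φ * (1 - eA) = 1 - eA := by
    rw [hΦ]
    simp only [mul_sub, add_mul, sub_mul, one_mul, mul_one, smul_mul_assoc, heeA, hUeA]
    abel
  have h3 : Φ * eA = (X : R⟦X⟧) • eA - UA := by
    rw [hΦ]
    simp only [add_mul, sub_mul, one_mul, smul_mul_assoc, heeA, hUeA]
    abel
  let ε : (Fin m → R⟦X⟧) →ₗ[R⟦X⟧] Q := Fintype.linearCombination R⟦X⟧ (fun k => π (Pi.single k 1))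
  have hεc : ∀ c, ε (constVec m c) = π c := by
    intro c
    have hc : c = ∑ k, c k • (Pi.single k 1 : Fin m → R) := by
      ext k'
      simp [Finset.sum_apply, Pi.single_apply]
    change Fintype.linearCombination R⟦X⟧ (fun k => π (Pi.single k 1)) (constVec m c) = π c
    rw [Fintype.linearCombination_apply]
    conv_rhs => rw [hc, map_sum]
    refine Finset.sum_congr rfl fun k _ => ?_
    rw [constVec_apply, C_smul_eq, map_smul]
  have hΦc : ∀ c, Φ (constVec m c) =
      (X : R⟦X⟧) • constVec m (e c) - constVec m (U c) + constVec m c - constVec m (e c) := by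
    intro c
    rw [hΦ]
    simp only [LinearMap.sub_apply, LinearMap.add_apply, LinearMap.smul_apply, Module.End.one_apply]
    rw [heA, hUA, extEnd_constVec, extEnd_constVec]
  have hεΦ : ∀ c, ε (Φ (constVec m c)) = 0 := by
    intro c
    rw [hΦc, map_sub, map_add, map_sub, map_smul, hεc, hεc, hεc, he, hU, hπi, hπi]
    abel
  have hcomp : ε ∘ₗ Φ = 0 := (Pi.basisFun R⟦X⟧ (Fin m)).ext fun k => by
    rw [Pi.basisFun_apply, single_eq_constVec, LinearMap.comp_apply, hεΦ, LinearMap.zero_apply]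
  have hΦinj : Function.Injective Φ := by
    rw [← LinearMap.ker_eq_bot, LinearMap.ker_eq_bot']
    intro v hv
    have hv1 : eA v = v := by
      have := LinearMap.congr_fun h1 v
      rw [Module.End.mul_apply, hv, map_zero, LinearMap.sub_apply, Module.End.one_apply] at this
      exact (sub_eq_zero.mp this.symm).symm
    have hv2 : (X : R⟦X⟧) • v = UA v := by
      have := LinearMap.congr_fun h3 v
      rw [Module.End.mul_apply, hv1, hv, LinearMap.sub_apply, LinearMap.smul_apply, hv1] at this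
      exact sub_eq_zero.mp this.symm
    have hv3 : ∀ j : ℕ, ((X : R⟦X⟧) ^ j) • v = (UA ^ j) v := by
      intro j
      induction j with
      | zero => simp
      | succ j ih =>
        rw [pow_succ, mul_smul, hv2, ← map_smul, ih, pow_succ', Module.End.mul_apply]
    have hv4 : ((X : R⟦X⟧) ^ (M + 1)) • v = 0 := by rw [hv3, hUAM, LinearMap.zero_apply]
    ext k j
    have := congrArg (fun w => coeff (j + (M + 1)) (w k)) hv4
    simpa [coeff_X_pow_mul] using this
  refine ⟨m, ε, Φ, ?_, hΦinj, le_antisymm ?_ ?_⟩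
  · intro q
    obtain ⟨c, rfl⟩ := hπ q
    exact ⟨constVec m c, hεc c⟩
  · rintro _ ⟨v, rfl⟩
    exact LinearMap.congr_fun hcomp v
  · -- the quotient by the range
    let mk := (LinearMap.range Φ).mkQ
    have hmk1 : ∀ v, mk (eA v) = mk v := by
      intro v
      symm
      rw [Submodule.mkQ_apply, Submodule.mkQ_apply, Submodule.Quotient.eq]
      refine ⟨(1 - eA) v, ?_⟩
      rw [← Module.End.mul_apply, h2, LinearMap.sub_apply, Module.End.one_apply]
    have hmk2 : ∀ v, (X : R⟦X⟧) • mk v = mk (UA v) := by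
      intro v
      rw [← hmk1 v, ← map_smul]
      rw [Submodule.mkQ_apply, Submodule.mkQ_apply, Submodule.Quotient.eq]
      refine ⟨eA v, ?_⟩
      rw [← Module.End.mul_apply, h3, LinearMap.sub_apply, LinearMap.smul_apply]
    have hmk3 : ∀ (j : ℕ) v, ((X : R⟦X⟧) ^ j) • mk v = mk ((UA ^ j) v) := by
      intro j
      induction j with
      | zero => intro v; simp
      | succ j ih =>
        intro v
        rw [pow_succ, mul_smul, hmk2, ih, pow_succ, Module.End.mul_apply]
    have hN : ∀ x : (Fin m → R⟦X⟧) ⧸ LinearMap.range Φ, ((X : R⟦X⟧) ^ (M + 1)) • x = 0 := by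
      intro x
      obtain ⟨v, rfl⟩ := (LinearMap.range Φ).mkQ_surjective x
      rw [hmk3, hUAM, LinearMap.zero_apply, map_zero]
    let ρ : Q →ₗ[R] ((Fin m → R⟦X⟧) ⧸ LinearMap.range Φ) :=
      (mk.restrictScalars R) ∘ₗ constVec m ∘ₗ i
    have hρ : ∀ q, ρ q = mk (constVec m (i q)) := fun _ => rfl
    have hρX : ∀ q, ρ ((X : R⟦X⟧) • q) = (X : R⟦X⟧) • ρ q := by
      intro q
      rw [hρ, hρ, hmk2, hUA, extEnd_constVec, hU, hπi]
    have hρA := map_smul_of_X (M + 1) hQ' hN ρ hρX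
    let ρA : Q →ₗ[R⟦X⟧] ((Fin m → R⟦X⟧) ⧸ LinearMap.range Φ) :=
      { toFun := ρ
        map_add' := ρ.map_add
        map_smul' := hρA }
    have hfac : mk = ρA ∘ₗ ε := (Pi.basisFun R⟦X⟧ (Fin m)).ext fun k => by
      rw [Pi.basisFun_apply, single_eq_constVec, LinearMap.comp_apply, hεc]
      change _ = ρ _
      rw [hρ, ← he, ← extEnd_constVec, ← heA, hmk1]
    intro w hw
    have : mk w = 0 := by
      rw [hfac, LinearMap.comp_apply, LinearMap.mem_ker.mp hw, map_zero]
    exact (Submodule.Quotient.mk_eq_zero _).mp this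

end resolution2

section backward

variable (n M : ℕ) (Λ : Submodule R⟦X⟧ (Fin n → R⟦X⟧))
  (hΛ : ∀ v : Fin n → R⟦X⟧, ((X : R⟦X⟧) ^ M) • v ∈ Λ)

include hΛ

theorem finite_projective_of_projective_quotient [Module.Projective R ((Fin n → R⟦X⟧) ⧸ Λ)] :
    Module.Finite R⟦X⟧ Λ ∧ Module.Projective R⟦X⟧ Λ := by
  classical
  have := finite_quotient n M Λ hΛ
  have hM : ∀ q : (Fin n → R⟦X⟧) ⧸ Λ, ((X : R⟦X⟧) ^ M) • q = 0 := by
    intro q
    obtain ⟨v, rfl⟩ := Λ.mkQ_surjective q
    rw [← map_smul, Submodule.mkQ_apply, Submodule.Quotient.mk_eq_zero]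
    exact hΛ v
  obtain ⟨m, ε, Φ, hε, hΦ, hrange⟩ := exists_resolution (Q := (Fin n → R⟦X⟧) ⧸ Λ) M hM
  obtain ⟨g, hg⟩ := Module.projective_lifting_property Λ.mkQ ε Λ.mkQ_surjective
  obtain ⟨h, hh⟩ := Module.projective_lifting_property ε Λ.mkQ hε
  have hg' : ∀ w, Λ.mkQ (g w) = ε w := fun w => LinearMap.congr_fun hg w
  have hh' : ∀ f, ε (h f) = Λ.mkQ f := fun f => LinearMap.congr_fun hh f
  let ΦE := LinearEquiv.ofInjective Φ hΦ
  have hΦE : ∀ y : LinearMap.range Φ, Φ (ΦE.symm y) = (y : Fin m → R⟦X⟧) := by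
    intro y
    have := congrArg Subtype.val (ΦE.apply_symm_apply y)
    rwa [LinearEquiv.ofInjective_apply] at this
  let j₀ : Λ →ₗ[R⟦X⟧] LinearMap.range Φ :=
    LinearMap.codRestrict (LinearMap.range Φ) (-(h ∘ₗ Λ.subtype)) (by
      intro l
      rw [hrange, LinearMap.mem_ker, LinearMap.neg_apply, map_neg, LinearMap.comp_apply, hh',
        Submodule.subtype_apply, Submodule.mkQ_apply, (Submodule.Quotient.mk_eq_zero Λ).mpr l.2, neg_zero])
  have hj₀ : ∀ l : Λ, ((j₀ l : LinearMap.range Φ) : Fin m → R⟦X⟧) = - h (l : Fin n → R⟦X⟧) := fun _ => rfl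
  let i : Λ →ₗ[R⟦X⟧] (Fin m → R⟦X⟧) × (Fin n → R⟦X⟧) :=
    LinearMap.prod (ΦE.symm.toLinearMap ∘ₗ j₀) Λ.subtype
  let s₀ : (Fin m → R⟦X⟧) × (Fin n → R⟦X⟧) →ₗ[R⟦X⟧] (Fin n → R⟦X⟧) :=
    LinearMap.snd _ _ _ - g ∘ₗ (Φ ∘ₗ LinearMap.fst _ _ _ + h ∘ₗ LinearMap.snd _ _ _)
  have hs₀ : ∀ x, s₀ x = x.2 - g (Φ x.1 + h x.2) := fun _ => rfl
  let s : (Fin m → R⟦X⟧) × (Fin n → R⟦X⟧) →ₗ[R⟦X⟧] Λ :=
    LinearMap.codRestrict Λ s₀ (by
      intro x
      rw [← Submodule.Quotient.mk_eq_zero, ← Submodule.mkQ_apply, hs₀, map_sub, hg', map_add, hh']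
      have : ε (Φ x.1) = 0 := by
        have : Φ x.1 ∈ LinearMap.ker ε := hrange ▸ LinearMap.mem_range_self Φ x.1
        exact LinearMap.mem_ker.mp this
      rw [this, zero_add, sub_self])
  have hsi : s ∘ₗ i = LinearMap.id := by
    ext1 l
    apply Subtype.ext
    change s₀ (i l) = l
    rw [hs₀]
    change (l : Fin n → R⟦X⟧) - g (Φ (ΦE.symm (j₀ l)) + h (l : Fin n → R⟦X⟧)) = l
    rw [hΦE, hj₀, neg_add_cancel, map_zero, sub_zero]
  have hs_surj : Function.Surjective s := fun l => ⟨i l, LinearMap.congr_fun hsi l⟩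
  exact ⟨Module.Finite.of_surjective s hs_surj, Module.Projective.of_split i s hsi⟩

end backward

end Groth.Agent.Lib.Helper45.PSLattice
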