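import Mathlib
import Groth.Agent.Lib.Helper78.RInvLocal
import Groth.Agent.S15574
import Groth.Agent.S15586

/-!
# Branch locus of a ring with involution (helper45)

`R` a commutative ring with involution `lam`, fixed ring `S` (no finiteness).
* `qe_at_iff` : `S_p ⊗ R` is quadratic étale over `S_p` iff there are `r r' : R`, `s ∉ p` with
  `(r - lam r) * r' = s`.
* `sub_mem_of_not_qe` : at a branch point `p`, `lam r - r ∈ q` for every prime `q` over `p`.
* `unique_over_of_not_qe` : at a branch point there is at most one prime over `p`.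
-/

set_option autoImplicit false
universe u v

namespace Groth.Agent.Lib.Helper45.RInvBranch

open scoped TensorProduct
open RInv

variable {S : Type u} {R : Type v} [CommRing S] [CommRing R] [Algebra S R]

/-- the base-changed involution -/
noncomputable def bc (S' : Type*) [CommRing S'] [Algebra S S'] (lamA : R ≃ₐ[S] R) :
    (S' ⊗[S] R) ≃+* (S' ⊗[S] R) :=
  (Algebra.TensorProduct.congr (AlgEquiv.refl : S' ≃ₐ[S] S') lamA).toRingEquiv

lemma bc_tmul (S' : Type*) [CommRing S'] [Algebra S S'] (lamA : R ≃ₐ[S] R) (a : S') (r : R) :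
    bc S' lamA (a ⊗ₜ[S] r) = a ⊗ₜ[S] lamA r := by
  simp [bc]

lemma bc_involutive (S' : Type*) [CommRing S'] [Algebra S S'] (lamA : R ≃ₐ[S] R)
    (h : Function.Involutive lamA) : Function.Involutive (bc S' lamA) := by
  intro x
  induction x using TensorProduct.induction_on with
  | zero => simp
  | add a b ha hb => rw [map_add, map_add, ha, hb]
  | tmul a r => rw [bc_tmul, bc_tmul, h r]

lemma bc_smul (S' : Type*) [CommRing S'] [Algebra S S'] (lamA : R ≃ₐ[S] R) (t : S) (x : S' ⊗[S] R) :
    bc S' lamA (t • x) = t • bc S' lamA x := by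
  change (Algebra.TensorProduct.congr (AlgEquiv.refl : S' ≃ₐ[S] S') lamA) (t • x) =
    t • (Algebra.TensorProduct.congr (AlgEquiv.refl : S' ≃ₐ[S] S') lamA) x
  rw [map_smul]

lemma isUnit_smul_one (S' : Type*) [CommRing S'] [Algebra S S'] (s : S)
    (hs : IsUnit (algebraMap S S' s)) : IsUnit (s • (1 : S' ⊗[S] R)) := by
  have : s • (1 : S' ⊗[S] R) =
      Algebra.TensorProduct.includeLeft (R := S) (S := S) (A := S') (B := R) (algebraMap S S' s) := by
    rw [Algebra.TensorProduct.includeLeft_apply, Algebra.TensorProduct.one_def, TensorProduct.smul_tmul',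
      Algebra.algebraMap_eq_smul_one]
  rw [this]
  exact hs.map _

variable {lam : R ≃+* R}

/-- a witness makes any flat base change inverting `s` quadratic étale -/
theorem qe_of_witness (hlam : Function.Involutive lam) (hS : RInv.IsFixedRing S R lam)
    (S' : Type*) [CommRing S'] [Algebra S S'] [Module.Flat S S'] (r r' : R) (s : S)
    (hs : IsUnit (algebraMap S S' s)) (h : (r - lam r) * r' = algebraMap S R s) :
    RInv.IsQuadEtale S' (S' ⊗[S] R) := by
  have hfixS : ∀ s : S, lam (algebraMap S R s) = algebraMap S R s :=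
    Groth.Agent.Lib.Helper78.RInvBasic.fixed_algebraMap hS
  let lamA : R ≃ₐ[S] R := AlgEquiv.ofRingEquiv (f := lam) hfixS
  have hlamA : ∀ r, lamA r = lam r := fun _ => rfl
  have hinvA : Function.Involutive lamA := hlam
  have hS' : RInv.IsFixedRing S R lamA.toRingEquiv := hS
  have hfixs : RInv.IsFixedRing S' (S' ⊗[S] R) (bc S' lamA) :=
    Groth.Agent.S15586.result S R S' lamA hinvA hS' (Or.inl inferInstance)
  refine Groth.Agent.Lib.Helper78.RInvBasic.isQuadEtale_of_isUnit_sub (lam := bc S' lamA)
    (bc_involutive S' lamA hinvA) hfixs (r := (1 : S') ⊗ₜ[S] r) ?_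
  rw [bc_tmul, hlamA, ← TensorProduct.tmul_sub]
  have h3 : ((1 : S') ⊗ₜ[S] (r - lam r)) * ((1 : S') ⊗ₜ[S] r') = s • (1 : S' ⊗[S] R) := by
    rw [Algebra.TensorProduct.tmul_mul_tmul, one_mul, h, Algebra.algebraMap_eq_smul_one,
      TensorProduct.tmul_smul, Algebra.TensorProduct.one_def]
  have h4 := isUnit_smul_one (R := R) S' s hs
  rw [← h3] at h4
  exact isUnit_of_mul_isUnit_left h4

/-- conversely, quadratic étale at `p` produces a witness -/
theorem witness_of_qe_at (hlam : Function.Involutive lam) (hS : RInv.IsFixedRing S R lam)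
    (p : PrimeSpectrum S)
    (hp : RInv.IsQuadEtale (Localization.AtPrime p.asIdeal) (Localization.AtPrime p.asIdeal ⊗[S] R)) :
    ∃ (r r' : R) (s : S), s ∉ p.asIdeal ∧ (r - lam r) * r' = algebraMap S R s := by
  classical
  have hfixS : ∀ s : S, lam (algebraMap S R s) = algebraMap S R s :=
    Groth.Agent.Lib.Helper78.RInvBasic.fixed_algebraMap hS
  let lamA : R ≃ₐ[S] R := AlgEquiv.ofRingEquiv (f := lam) hfixS
  have hlamA : ∀ r, lamA r = lam r := fun _ => rfl
  have hinvA : Function.Involutive lamA := hlam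
  have hS' : RInv.IsFixedRing S R lamA.toRingEquiv := hS
  have hfixp : RInv.IsFixedRing (Localization.AtPrime p.asIdeal) (Localization.AtPrime p.asIdeal ⊗[S] R)
      (bc (Localization.AtPrime p.asIdeal) lamA) :=
    Groth.Agent.S15586.result S R (Localization.AtPrime p.asIdeal) lamA hinvA hS' (Or.inl inferInstance)
  obtain ⟨ρ, hρ⟩ := Groth.Agent.S15574.result (Localization.AtPrime p.asIdeal)
    (Localization.AtPrime p.asIdeal ⊗[S] R) (bc (Localization.AtPrime p.asIdeal) lamA)
    (bc_involutive (Localization.AtPrime p.asIdeal) lamA hinvA) hfixp hp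
  let f : R →ₗ[S] Localization.AtPrime p.asIdeal ⊗[S] R :=
    TensorProduct.mk S (Localization.AtPrime p.asIdeal) R 1
  have hf : IsLocalizedModule p.asIdeal.primeCompl f :=
    (isLocalizedModule_iff_isBaseChange p.asIdeal.primeCompl (Localization.AtPrime p.asIdeal) f).mpr
      (TensorProduct.isBaseChange S R (Localization.AtPrime p.asIdeal))
  have hfx : ∀ x : R, f x = (1 : Localization.AtPrime p.asIdeal) ⊗ₜ[S] x := fun _ => rfl
  have hunitS : ∀ t : p.asIdeal.primeCompl,
      IsUnit ((t : S) • (1 : Localization.AtPrime p.asIdeal ⊗[S] R)) := fun t =>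
    isUnit_smul_one (R := R) (Localization.AtPrime p.asIdeal) (t : S)
      (IsLocalization.map_units (Localization.AtPrime p.asIdeal) t)
  obtain ⟨⟨r, t⟩, hrt⟩ := IsLocalizedModule.surj p.asIdeal.primeCompl f ρ
  simp only at hrt
  set d : R := r - lam r with hd
  have hd1 : IsUnit ((1 : Localization.AtPrime p.asIdeal) ⊗ₜ[S] d) := by
    have h1 : (1 : Localization.AtPrime p.asIdeal) ⊗ₜ[S] d =
        (t : S) • (ρ - bc (Localization.AtPrime p.asIdeal) lamA ρ) := by
      rw [smul_sub, ← bc_smul, Submonoid.smul_def] at *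
      rw [hrt, hfx, bc_tmul, hlamA, hd, TensorProduct.tmul_sub]
    have h5 : (t : S) • (ρ - bc (Localization.AtPrime p.asIdeal) lamA ρ) =
        ((t : S) • (1 : Localization.AtPrime p.asIdeal ⊗[S] R)) *
          (ρ - bc (Localization.AtPrime p.asIdeal) lamA ρ) := by
      rw [smul_mul_assoc, one_mul]
    rw [h1, h5]
    exact (hunitS t).mul hρ
  obtain ⟨w, hw⟩ := hd1.exists_right_inv
  obtain ⟨⟨r', t'⟩, hrt'⟩ := IsLocalizedModule.surj p.asIdeal.primeCompl f w
  simp only at hrt'
  have h2 : f (d * r') = f ((t' : S) • (1 : R)) := by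
    rw [hfx, hfx]
    have : (1 : Localization.AtPrime p.asIdeal) ⊗ₜ[S] (d * r') =
        ((1 : Localization.AtPrime p.asIdeal) ⊗ₜ[S] d) * ((1 : Localization.AtPrime p.asIdeal) ⊗ₜ[S] r') := by
      rw [Algebra.TensorProduct.tmul_mul_tmul, one_mul]
    rw [this, ← hfx r', ← hrt', Submonoid.smul_def, mul_smul_comm, hw, TensorProduct.tmul_smul]
    rfl
  obtain ⟨u, hu⟩ := IsLocalizedModule.exists_of_eq (S := p.asIdeal.primeCompl) h2
  rw [Submonoid.smul_def, Submonoid.smul_def] at hu
  refine ⟨r, (u : S) • r', (u : S) * (t' : S), fun hmem => ?_, ?_⟩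
  · rcases p.isPrime.mem_or_mem hmem with h | h
    · exact u.2 h
    · exact t'.2 h
  · rw [mul_smul_comm, ← hd, hu, smul_smul, Algebra.algebraMap_eq_smul_one]

theorem qe_at_iff (hlam : Function.Involutive lam) (hS : RInv.IsFixedRing S R lam) (p : PrimeSpectrum S) :
    RInv.IsQuadEtale (Localization.AtPrime p.asIdeal) (Localization.AtPrime p.asIdeal ⊗[S] R) ↔
      ∃ (r r' : R) (s : S), s ∉ p.asIdeal ∧ (r - lam r) * r' = algebraMap S R s := by
  constructor
  · exact witness_of_qe_at hlam hS p
  · rintro ⟨r, r', s, hs, h⟩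
    exact qe_of_witness hlam hS (Localization.AtPrime p.asIdeal) r r' s
      (IsLocalization.map_units (Localization.AtPrime p.asIdeal) (⟨s, hs⟩ : p.asIdeal.primeCompl)) h

/-- at a branch point, `lam` is the identity modulo every prime over `p` -/
theorem sub_mem_of_not_qe (hlam : Function.Involutive lam) (hS : RInv.IsFixedRing S R lam)
    (p : PrimeSpectrum S)
    (hp : ¬ RInv.IsQuadEtale (Localization.AtPrime p.asIdeal) (Localization.AtPrime p.asIdeal ⊗[S] R))
    (q : Ideal R) [q.IsPrime] (hq : p.asIdeal ≤ q.comap (algebraMap S R)) (r : R) : lam r - r ∈ q := by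
  set d := r - lam r with hd
  have hanti : lam d = -d := by rw [hd, map_sub, hlam r]; ring
  have hfix : lam (d * d) = d * d := by rw [map_mul, hanti]; ring
  obtain ⟨s, hs⟩ := Groth.Agent.Lib.Helper78.RInvBasic.exists_of_fixed hS hfix
  have hsp : s ∈ p.asIdeal := by
    by_contra hsp
    exact hp ((qe_at_iff hlam hS p).mpr ⟨r, d, s, hsp, hs.symm⟩)
  have h1 : d * d ∈ q := by rw [← hs]; exact hq hsp
  have h2 : d ∈ q := by rcases ‹q.IsPrime›.mem_or_mem h1 with h | h <;> exact h
  have : lam r - r = -d := by rw [hd]; ring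
  rw [this]; exact q.neg_mem h2

/-- every element of `R` is integral over `S` -/
theorem isIntegral (hlam : Function.Involutive lam) (hS : RInv.IsFixedRing S R lam) :
    Algebra.IsIntegral S R := by
  refine ⟨fun x => ?_⟩
  have htfix : lam (x + lam x) = x + lam x := by rw [map_add, hlam x]; ring
  have hnfix : lam (x * lam x) = x * lam x := by rw [map_mul, hlam x]; ring
  obtain ⟨t, ht⟩ := Groth.Agent.Lib.Helper78.RInvBasic.exists_of_fixed hS htfix
  obtain ⟨n, hn⟩ := Groth.Agent.Lib.Helper78.RInvBasic.exists_of_fixed hS hnfix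
  refine ⟨Polynomial.X ^ 2 - Polynomial.C t * Polynomial.X + Polynomial.C n, ?_, ?_⟩
  · have : (Polynomial.X ^ 2 - Polynomial.C t * Polynomial.X + Polynomial.C n : Polynomial S) =
        Polynomial.X ^ 2 + (-(Polynomial.C t * Polynomial.X) + Polynomial.C n) := by ring
    rw [this]
    apply Polynomial.monic_X_pow_add
    apply lt_of_le_of_lt (Polynomial.degree_add_le _ _)
    rw [max_lt_iff]
    constructor
    · rw [Polynomial.degree_neg]
      exact lt_of_le_of_lt (Polynomial.degree_C_mul_X_le t) (by norm_num)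
    · exact lt_of_le_of_lt Polynomial.degree_C_le (by norm_num)
  · simp only [Polynomial.eval₂_add, Polynomial.eval₂_sub, Polynomial.eval₂_mul, Polynomial.eval₂_pow,
      Polynomial.eval₂_X, Polynomial.eval₂_C, ht, hn]
    ring

/-- at a branch point there is at most one prime over `p` -/
theorem unique_over_of_not_qe (hlam : Function.Involutive lam) (hS : RInv.IsFixedRing S R lam)
    (p : PrimeSpectrum S)
    (hp : ¬ RInv.IsQuadEtale (Localization.AtPrime p.asIdeal) (Localization.AtPrime p.asIdeal ⊗[S] R))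
    (q q' : Ideal R) [q.IsPrime] [q'.IsPrime] (hq : q.comap (algebraMap S R) = p.asIdeal)
    (hq' : q'.comap (algebraMap S R) = p.asIdeal) : q' = q := by
  have hint := isIntegral hlam hS
  -- `q' ≤ q`
  have hle : q' ≤ q := by
    intro x hx
    have hnfix : lam (x * lam x) = x * lam x := by rw [map_mul, hlam x]; ring
    obtain ⟨n, hn⟩ := Groth.Agent.Lib.Helper78.RInvBasic.exists_of_fixed hS hnfix
    have h1 : n ∈ q'.comap (algebraMap S R) := by
      rw [Ideal.mem_comap, hn]; exact q'.mul_mem_right _ hx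
    rw [hq', ← hq, Ideal.mem_comap, hn] at h1
    rcases ‹q.IsPrime›.mem_or_mem h1 with h | h
    · exact h
    · have h2 := sub_mem_of_not_qe hlam hS p hp q hq.ge x
      have : x = lam x - (lam x - x) := by ring
      rw [this]; exact q.sub_mem h h2
  by_contra hne
  have hlt : q' < q := lt_of_le_of_ne hle hne
  have := Ideal.IsIntegral.comap_lt_comap (R := S) hlt
  rw [hq, hq'] at this
  exact lt_irrefl _ this

end Groth.Agent.Lib.Helper45.RInvBranch
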