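import Groth.Agent.Lib.Helper25.OmegaUniv2
import Groth.Agent.Lib.Helper25.DiffSeq
import Groth.Agent.Lib.Helper25.DiffCompat

set_option autoImplicit false
set_option linter.style.haveILetI false
universe u
open CategoryTheory CategoryTheory.Limits AlgebraicGeometry TopologicalSpace Opposite

namespace Groth.Agent.Lib.Helper45.RestrictDer

variable {X Y : Scheme.{u}} {f : X ⟶ Y} {Ω' : X.Modules}

lemma restrict_smul (M : X.Modules) (U : X.Opens) (W : (↑U : Scheme).Opens)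
    (a : Γ(↑U, W)) (m : Γ(M, U.ι ''ᵁ W)) :
    (a • (show Γ(M.restrict U.ι, W) from m) : Γ(M.restrict U.ι, W)) =
      (show Γ(M, U.ι ''ᵁ W) from ((show Γ(X, U.ι ''ᵁ W) from a) • m)) := by
  have h1 : (a • (show Γ(M.restrict U.ι, W) from m) : Γ(M.restrict U.ι, W)) =
    (show Γ(M, U.ι ''ᵁ W) from ((U.ι.appIso W).inv a • m)) := rfl
  rw [h1]
  have h2 : (U.ι.appIso W).inv a = a := by
    rw [Scheme.Opens.ι_appIso]; rfl
  rw [h2]

lemma presheaf_map_map_self (X : Scheme.{u}) {A B : X.Opens} (i : op A ⟶ op B) (j : op B ⟶ op A)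
    (s : Γ(X, A)) : X.presheaf.map j (X.presheaf.map i s) = s := by
  rw [← CommRingCat.comp_apply, ← Functor.map_comp, Subsingleton.elim (i ≫ j) (𝟙 _),
    CategoryTheory.Functor.map_id]
  rfl

/-- the restriction of a derivation to an open subscheme. -/
noncomputable def restrictDer (d : OmegaSh.Der f Ω') (U : X.Opens) :
    OmegaSh.Der (U.ι ≫ f) (Ω'.restrict U.ι) where
  d {W} := d.d (X := op (U.ι ''ᵁ W.unop))
  d_mul {W} a b := by
    refine (d.d_mul (X := op (U.ι ''ᵁ W.unop)) a b).trans ?_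
    have h1 := restrict_smul Ω' U W.unop a (d.d (X := op (U.ι ''ᵁ W.unop)) b)
    have h2 := restrict_smul Ω' U W.unop b (d.d (X := op (U.ι ''ᵁ W.unop)) a)
    exact (congrArg₂ (· + ·) h1 h2).symm
  d_map {W W'} i x := by
    have := d.d_map (X := op (U.ι ''ᵁ W.unop)) (Y := op (U.ι ''ᵁ W'.unop))
      (U.ι.opensFunctor.map i.unop).op x
    exact this
  d_app {V} c := by
    have hle : U.ι ''ᵁ ((U.ι ≫ f) ⁻¹ᵁ V.unop) ≤ f ⁻¹ᵁ V.unop := by
      rintro _ ⟨y, hy, rfl⟩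
      exact hy
    have e1 : (U.ι ≫ f).app V.unop c = X.presheaf.map (homOfLE hle).op (f.app V.unop c) := by
      rw [Scheme.Hom.comp_app]
      rfl
    have e2 := d.d_map (X := op (f ⁻¹ᵁ V.unop)) (Y := op (U.ι ''ᵁ ((U.ι ≫ f) ⁻¹ᵁ V.unop)))
      (homOfLE hle).op (f.app V.unop c)
    have e3 : d.d (X := op (f ⁻¹ᵁ V.unop)) (f.app V.unop c) = 0 := d.d_app c
    rw [e3, map_zero] at e2
    show d.d (X := op (U.ι ''ᵁ ((U.ι ≫ f) ⁻¹ᵁ V.unop))) ((U.ι ≫ f).app V.unop c) = 0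
    rw [e1]
    exact e2

open Groth.Agent.Lib.Helper25.DiffCompat in
theorem isUniversal_restrictDer (d : OmegaSh.Der f Ω') (hd : OmegaSh.IsUniversal d) (U : X.Opens) :
    OmegaSh.IsUniversal (restrictDer d U) := by
  intro F D
  have hsq : (U.ι ≫ f) ≫ 𝟙 Y = U.ι ≫ f := Category.comp_id _
  obtain ⟨α, hα, huniq⟩ := hd _ (pushDer U.ι (𝟙 Y) hsq D)
  let adj := Scheme.Modules.restrictAdjunction U.ι
  refine ⟨(adj.homEquiv Ω' F).symm α, ?_, ?_⟩
  · show (restrictDer d U).postcomp ((adj.homEquiv Ω' F).symm α).val = D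
    ext W s
    have h1 : ((restrictDer d U).postcomp ((adj.homEquiv Ω' F).symm α).val).d (X := W) s =
        (((adj.homEquiv Ω' F).symm α).val.app W).hom (d.d (X := op (U.ι ''ᵁ W.unop)) s) := rfl
    rw [h1, Adjunction.homEquiv_counit]
    have h2 := PresheafOfModules.Derivation.congr_d hα (X := op (U.ι ''ᵁ W.unop)) s
    have h3 : (d.postcomp α.val).d (X := op (U.ι ''ᵁ W.unop)) s =
        (α.val.app (op (U.ι ''ᵁ W.unop))).hom (d.d (X := op (U.ι ''ᵁ W.unop)) s) := rfl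
    rw [h3] at h2
    have hp : U.ι ⁻¹ᵁ (U.ι ''ᵁ W.unop) = W.unop := U.ι.preimage_image_eq W.unop
    have h4 : (((Scheme.Modules.restrictFunctor U.ι).map α ≫ adj.counit.app F).val.app W).hom
        (d.d (X := op (U.ι ''ᵁ W.unop)) s) =
        (F.val.map (X := op (U.ι ⁻¹ᵁ (U.ι ''ᵁ W.unop))) (Y := W) (eqToHom hp.symm).op).hom
          ((α.val.app (op (U.ι ''ᵁ W.unop))).hom (d.d (X := op (U.ι ''ᵁ W.unop)) s)) := rfl
    rw [h4, h2]
    have h5 : (pushDer U.ι (𝟙 Y) hsq D).d (X := op (U.ι ''ᵁ W.unop)) s =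
        D.d (X := op (U.ι ⁻¹ᵁ (U.ι ''ᵁ W.unop))) (U.ι.app (U.ι ''ᵁ W.unop) s) := rfl
    rw [h5]
    have h6 := D.d_map (X := op (U.ι ⁻¹ᵁ (U.ι ''ᵁ W.unop))) (Y := W) (eqToHom hp.symm).op
      (U.ι.app (U.ι ''ᵁ W.unop) s)
    refine h6.symm.trans ?_
    congr 1
    exact presheaf_map_map_self X (A := U.ι ''ᵁ W.unop)
      (B := U.ι ''ᵁ (U.ι ⁻¹ᵁ (U.ι ''ᵁ W.unop))) _ _ s
  · intro β' hβ'
    have hβ'' : (restrictDer d U).postcomp β'.val = D := hβ'
    have key : d.postcomp (adj.homEquiv Ω' F β').val = pushDer U.ι (𝟙 Y) hsq D := by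
      ext V s
      have h1 : (d.postcomp (adj.homEquiv Ω' F β').val).d (X := V) s =
          ((adj.homEquiv Ω' F β').val.app V).hom (d.d (X := V) s) := rfl
      rw [h1, Adjunction.homEquiv_unit]
      have h2 : ((adj.unit.app Ω' ≫ (Scheme.Modules.pushforward U.ι).map β').val.app V).hom
          (d.d (X := V) s) =
          (β'.val.app (op (U.ι ⁻¹ᵁ V.unop))).hom
            ((Ω'.val.map (X := V) (Y := op (U.ι ''ᵁ (U.ι ⁻¹ᵁ V.unop)))
              (homOfLE (U.ι.image_preimage_le V.unop)).op).hom (d.d (X := V) s)) := rfl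
      rw [h2]
      have h3 := d.d_map (X := V) (Y := op (U.ι ''ᵁ (U.ι ⁻¹ᵁ V.unop)))
              (homOfLE (U.ι.image_preimage_le V.unop)).op s
      have h4 := PresheafOfModules.Derivation.congr_d hβ'' (X := op (U.ι ⁻¹ᵁ V.unop))
        (U.ι.app V.unop s)
      have h5 : (pushDer U.ι (𝟙 Y) hsq D).d (X := V) s =
        D.d (X := op (U.ι ⁻¹ᵁ V.unop)) (U.ι.app V.unop s) := rfl
      rw [h5, ← h4]
      have h6 : ((restrictDer d U).postcomp β'.val).d (X := op (U.ι ⁻¹ᵁ V.unop))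
          (U.ι.app V.unop s) = (β'.val.app (op (U.ι ⁻¹ᵁ V.unop))).hom
            (d.d (X := op (U.ι ''ᵁ (U.ι ⁻¹ᵁ V.unop))) (U.ι.app V.unop s)) := rfl
      rw [h6]
      congr 1
      exact h3.symm
    have := huniq _ key
    rw [← this, Equiv.symm_apply_apply]

/-- over an open on which the morphism is quasi-separated, any sheaf of differentials is
isomorphic to the frozen `Omega.sheaf`. -/
theorem nonempty_restrict_iso_omega (d : OmegaSh.Der f Ω') (hd : OmegaSh.IsUniversal d)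
    (U : X.Opens) [QuasiSeparated (U.ι ≫ f)] :
    Nonempty (Ω'.restrict U.ι ≅ Omega.sheaf (U.ι ≫ f)) := by
  have hU := isUniversal_restrictDer d hd U
  obtain ⟨θ, hθ, -⟩ := hU _ (OmegaSh.dOmega (U.ι ≫ f))
  haveI := Groth.Agent.Lib.Helper25.DiffSeq.isIso_of_isUniversal _ _ hU
    (Groth.Agent.Lib.Helper25.OmegaUniv2.isUniversal_dOmega (U.ι ≫ f)) θ hθ
  exact ⟨asIso θ⟩

end Groth.Agent.Lib.Helper45.RestrictDer
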