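import Groth.Agent.S8916
import Groth.Agent.S2156
import Groth.Agent.Lib.Helper45.RestrictDer
import Groth.Agent.Lib.QCoh.Helper74_FittFree
import Groth.Agent.Lib.Helper73.FibreDimRetro

/-!
# Smoothness and freeness of the sheaf of differentials (helper45)

* `mem_smoothLocus_of_localDim` : over a field, `z ∉ supp Fitt_d(Ω)` and `dim_z Z = d` imply smooth at `z`.
* `mem_smoothLocus_of_flat_of_fitt` : flat at `x`, `x ∉ supp Fitt_n(Ω_f)`, `n = dim_x` of the fibre ⇒ smooth at `x`.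
* `exists_free_of_mem_smoothLocus` : smooth at `x` ⇒ `Ω'` free near `x` of rank the local fibre dimension.
* `exists_affine_chart_of_free` : `Ω'` free of rank `n` near `x` ⇒ an affine chart `j` at `x` with
  the point outside `supp Fitt_n(Ω_{j ≫ f})`.
-/

set_option linter.style.haveILetI false
universe u
open CategoryTheory CategoryTheory.Limits AlgebraicGeometry Opposite TopologicalSpace

namespace Groth.Agent.Lib.Helper45.SmoothOmegaFree

open Groth.Agent.Lib.QCoh Groth.Agent.Lib.Helper21.FieldDim Groth.Agent.Lib.Helper73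
  Groth.Agent.Lib.Helper73.SchemeDim Groth.Agent.Lib.Helper73.SmoothFibreDim
  Groth.Agent.Lib.Helper73.FibreDimRetro
  Groth.Agent.S8916 Groth.Agent.Lib.Helper45.RestrictDer Groth.Agent.Lib.QCoh.FittSheaf74

section Field

variable {k : Type u} [Field k] {Z : Scheme.{u}} (q : Z ⟶ Spec (CommRingCat.of k))

theorem mem_smoothLocus_of_localDim [LocallyOfFinitePresentation q] [QuasiSeparated q] (d : ℕ)
    (z : Z) (hlZ : FlatMor.localDim Z z = (d : WithBot ℕ∞))
    (hz : z ∉ (Fitt.sheafIdeal (Omega.sheaf q) d).support) : z ∈ q.smoothLocus := by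
  obtain ⟨U, U', i, g, hzU, hi, hg, hcomp⟩ := Groth.Agent.S16253.forward q d z hz
  haveI := hi
  haveI := hg
  haveI : Smooth g := SmoothOfRelativeDimension.smooth d g
  haveI : Subsingleton ↥(Spec (CommRingCat.of k)) :=
    inferInstanceAs (Subsingleton (PrimeSpectrum k))
  obtain ⟨zU, hzUdef⟩ : ∃ zU : ↥(U : Scheme.{u}), zU = ⟨z, hzU⟩ := ⟨_, rfl⟩
  have hlU : FlatMor.localDim U zU = (d : WithBot ℕ∞) := by
    rw [Groth.Agent.Lib.Helper62.DimLoc.localDim_eq_of_isOpenEmbedding U.ι U.ι.isOpenEmbedding zU,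
      hzUdef]
    exact hlZ
  have hlU' : FlatMor.localDim U' (i zU) = (d : WithBot ℕ∞) := by
    rw [← fibreDimAt_eq_localDim_of_subsingleton g (i zU)]
    exact fibreDimAt_eq_of_smoothOfRelativeDimension d g (i zU)
  have h1 := localDim_eq_stalk_add_td (U.ι ≫ q) zU
  have h2 := localDim_eq_stalk_add_td g (i zU)
  have htd : td (U.ι ≫ q) zU = td g (i zU) := by
    apply td_eq_of_trdegAt_eq
    rw [← trdegAt_eq_td g (i zU)]
    unfold trdegAt
    rw [← trdeg_residueFieldMap_comp i g zU]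
    exact trdeg_residueFieldMap_congr hcomp.symm zU
  rw [hlU, htd] at h1
  rw [hlU'] at h2
  have h1' := eq_sub_of_add_eq h1.symm
  have h2' := eq_sub_of_add_eq h2.symm
  haveI : IsRegularLocalRing (U'.presheaf.stalk (i zU)) :=
    Groth.Agent.Lib.Helper62.SmoothStalk.isRegularLocalRing_stalk g (i zU)
  haveI : IsDomain (U'.presheaf.stalk (i zU)) := Groth.Agent.S0558.result _
  have hinj : Function.Injective (i.stalkMap zU).hom :=
    injective_of_surjective_of_dim_eq _ (i.stalkMap_surjective zU) _ h2' h1'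
  haveI : IsIso (i.stalkMap zU) :=
    (ConcreteCategory.isIso_iff_bijective _).mpr ⟨hinj, i.stalkMap_surjective zU⟩
  have hg' : i zU ∈ g.smoothLocus := by rw [g.smoothLocus_eq_top]; trivial
  rw [Scheme.Hom.mem_smoothLocus] at hg'
  have h3 : zU ∈ (i ≫ g).smoothLocus := by
    rw [Scheme.Hom.mem_smoothLocus, Scheme.Hom.stalkMap_comp]
    exact (RingHom.FormallySmooth.respectsIso.cancel_right_isIso (g.stalkMap (i zU))
      (i.stalkMap zU)).mpr hg'
  rw [smoothLocus_congr _ _ hcomp, ← Scheme.Hom.preimage_smoothLocus_eq] at h3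
  have h4 : U.ι zU ∈ q.smoothLocus := h3
  rwa [hzUdef] at h4

end Field

variable {X Y : Scheme.{u}}

/-- flat at `x`, `x ∉ supp Fitt_n(Ω_f)` and `n` the local fibre dimension at `x` imply smooth at `x`. -/
theorem mem_smoothLocus_of_flat_of_fitt (f : X ⟶ Y) [LocallyOfFinitePresentation f]
    [QuasiSeparated f] (n : ℕ) (x : X) (hflat : (f.stalkMap x).hom.Flat)
    (hx : x ∉ (Fitt.sheafIdeal (Omega.sheaf f) n).support)
    (hdim : FlatMor.fibreDimAt f x = (n : WithBot ℕ∞)) : x ∈ f.smoothLocus := by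
  haveI : LocallyOfFinitePresentation (f.fiberToSpecResidueField (f x)) :=
    inferInstanceAs (LocallyOfFinitePresentation (pullback.snd f _))
  haveI : QuasiSeparated (f.fiberToSpecResidueField (f x)) :=
    inferInstanceAs (QuasiSeparated (pullback.snd f _))
  rw [Groth.Agent.S2156.result f x]
  refine ⟨hflat, ?_⟩
  refine mem_smoothLocus_of_localDim (k := Y.residueField (f x))
    (f.fiberToSpecResidueField (f x)) n _ hdim ?_
  intro hmem
  apply hx
  have h := Groth.Agent.S8917.result f (Y.fromSpecResidueField (f x)) n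
  change f.asFiber x ∈
    (Fitt.sheafIdeal (Omega.sheaf (pullback.snd f (Y.fromSpecResidueField (f x)))) n).support at hmem
  rw [← h, Scheme.IdealSheafData.support_comap] at hmem
  have h2 : (f.fiberι (f x)) (f.asFiber x) ∈ (Fitt.sheafIdeal (Omega.sheaf f) n).support := hmem
  rwa [f.fiberι_asFiber x] at h2

/-- smooth at `x` ⇒ `Ω'` is free near `x`, of rank the local fibre dimension. -/
theorem exists_free_of_mem_smoothLocus (f : X ⟶ Y) [LocallyOfFinitePresentation f]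
    (Ω' : X.Modules) (d : OmegaSh.Der f Ω') (hd : OmegaSh.IsUniversal d) (x : X)
    (hx : x ∈ f.smoothLocus) :
    ∃ (U : X.Opens) (n : ℕ), x ∈ U ∧ Nonempty (Ω'.restrict U.ι ≅ FlatMod.freeMod (↑U) n) ∧
      FlatMor.fibreDimAt f x = (n : WithBot ℕ∞) := by
  obtain ⟨U₀, hxU₀, hsm⟩ := Groth.Agent.S2757.exists_smooth_nhd_of_stalkMap f x hx
  haveI := hsm
  obtain ⟨U₁, n, hxU₁, ⟨i₁⟩, hdim⟩ := Groth.Agent.S5019.main (U₀.ι ≫ f) (Ω'.restrict U₀.ι)
    (restrictDer d U₀) (isUniversal_restrictDer d hd U₀) ⟨x, hxU₀⟩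
  let j := U₁.ι ≫ U₀.ι
  let i : Ω'.restrict j ≅ FlatMod.freeMod (↑U₁) n :=
    (Scheme.Modules.restrictFunctorComp U₁.ι U₀.ι).app Ω' ≪≫ i₁
  refine ⟨j.opensRange, n, ⟨⟨⟨x, hxU₀⟩, hxU₁⟩, rfl⟩, ⟨trivOpensRange j i⟩, ?_⟩
  rw [← hdim]
  exact (fibreDimAt_comp_openImmersion U₀.ι f ⟨x, hxU₀⟩).symm

/-- `Ω'` free of rank `n` near `x` ⇒ an affine chart at `x` whose point is outside `supp Fitt_n`. -/
theorem exists_affine_chart_of_free (f : X ⟶ Y) [LocallyOfFinitePresentation f]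
    (Ω' : X.Modules) (d : OmegaSh.Der f Ω') (hd : OmegaSh.IsUniversal d) (x : X)
    (U : X.Opens) (n : ℕ) (hxU : x ∈ U) (e : Ω'.restrict U.ι ≅ FlatMod.freeMod (↑U) n) :
    ∃ (W : Scheme.{u}) (j : W ⟶ X) (fj : W ⟶ Y) (_ : fj = j ≫ f) (_ : IsOpenImmersion j)
      (_ : QuasiSeparated fj) (_ : LocallyOfFinitePresentation fj) (w : W), j w = x ∧
        w ∉ (Fitt.sheafIdeal (Omega.sheaf fj) n).support := by
  obtain ⟨W₀, hW₀, hxW₀⟩ : ∃ W₀ : (↑U : Scheme.{u}).Opens, IsAffineOpen W₀ ∧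
      (⟨x, hxU⟩ : ↥(U : Scheme.{u})) ∈ W₀ := by
    obtain ⟨_, ⟨W₀, hW₀ : IsAffineOpen W₀, rfl⟩, hx, -⟩ :=
      ((U : Scheme.{u}).isBasis_affineOpens).exists_subset_of_mem_open
        (Set.mem_univ (⟨x, hxU⟩ : ↥(U : Scheme.{u}))) isOpen_univ
    exact ⟨W₀, hW₀, hx⟩
  haveI : IsAffine (↑W₀ : Scheme.{u}) := hW₀
  haveI : QuasiSeparated (W₀.ι ≫ (U.ι ≫ f)) := inferInstance
  obtain ⟨i₁⟩ := nonempty_restrict_iso_omega (restrictDer d U) (isUniversal_restrictDer d hd U) W₀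
  let i₂ : (Ω'.restrict U.ι).restrict W₀.ι ≅ FlatMod.freeMod (↑W₀) n :=
    (Scheme.Modules.restrictFunctor W₀.ι).mapIso e ≪≫ restrictFreeModIso W₀.ι n
  have hfree : FlatMod.IsFinLocFreeOfRank n (Omega.sheaf (W₀.ι ≫ (U.ι ≫ f))) :=
    isFinLocFreeOfRank_of_iso (i₂.symm ≪≫ i₁) (isFinLocFreeOfRank_freeMod _ n)
  haveI hft : (Omega.sheaf (W₀.ι ≫ (U.ι ≫ f))).IsFiniteType :=
    OmegaFT.isFiniteType_omega (W₀.ι ≫ (U.ι ≫ f))
  have htop := (sheafIdeal_of_isFinLocFreeOfRank (Omega.sheaf (W₀.ι ≫ (U.ι ≫ f))) hfree n).2 le_rfl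
  refine ⟨↑W₀, W₀.ι ≫ U.ι, W₀.ι ≫ (U.ι ≫ f), (Category.assoc _ _ _).symm, inferInstance,
    inferInstance, inferInstance, ⟨⟨x, hxU⟩, hxW₀⟩, rfl, ?_⟩
  rw [htop, Scheme.IdealSheafData.support_top]
  exact fun h => h

end Groth.Agent.Lib.Helper45.SmoothOmegaFree
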